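import Cfsg.Agent.L0.Fus.PIdx5
set_option autoImplicit false
/-! Power subgroups of the centre, `p`-groups of small class. -/

open Pointwise
open scoped commutatorElement

namespace Cfsg.Agent.L0.Fus

open Cfsg.Agent.L0 Cfsg.FusionSystem

universe u v w

theorem ring_key {B : Type*} [CommRing B] {p : ℕ} (hp : p.Prime) {x : B} (h : (1 + x) ^ p = 1) {m : ℕ} (hm : x ^ m = 0) :
    ∃ V : B, ∀ n : ℕ, (p : B) ^ n * x = V ^ n * x ^ (n * (p - 1) + 1) := by
  classical
  have h1 := add_pow_prime_eq hp x 1
  set U := ∑ k ∈ Finset.Ioo 0 p, x ^ (k - 1) * (1 : B) ^ (p - k - 1) * ((p.choose k / p : ℕ) : B) with hU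
  rw [add_comm x 1, h, one_pow, mul_one] at h1
  have h2 : (p : B) * x * U = - x ^ p := by linear_combination -h1
  have hUu : IsUnit U := by
    have h3 : ∃ c : B, U = 1 + x * c := by
      refine ⟨∑ k ∈ Finset.Ioo 1 p, x ^ (k - 2) * ((p.choose k / p : ℕ) : B), ?_⟩
      have h4 : Finset.Ioo 0 p = insert 1 (Finset.Ioo 1 p) := by
        ext k
        simp only [Finset.mem_Ioo, Finset.mem_insert]
        have := hp.two_le
        omega
      rw [hU, h4, Finset.sum_insert (by simp), Finset.mul_sum]
      congr 1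
      · simp [Nat.choose_one_right, Nat.div_self hp.pos]
      · refine Finset.sum_congr rfl fun k hk => ?_
        rw [Finset.mem_Ioo] at hk
        rw [one_pow, mul_one, ← mul_assoc, ← pow_succ']
        congr 2
        omega
    obtain ⟨c, hc⟩ := h3
    rw [hc]
    exact IsNilpotent.isUnit_one_add ((Commute.all x c).isNilpotent_mul_right ⟨m, hm⟩)
  obtain ⟨W, hW⟩ := hUu.exists_right_inv
  refine ⟨-W, fun n => ?_⟩
  have h5 : (p : B) * x = -W * x ^ p := by
    have : (p : B) * x * (U * W) = - x ^ p * W := by rw [← mul_assoc, h2]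
    rw [hW, mul_one] at this
    rw [this]; ring
  induction n with
  | zero => simp
  | succ n ih =>
    have e : (n + 1) * (p - 1) + 1 = n * (p - 1) + p := by
      have := hp.two_le
      obtain ⟨q, rfl⟩ : ∃ q, p = q + 1 := ⟨p - 1, by omega⟩
      simp only [Nat.add_sub_cancel]; ring
    have h6 : (p : B) ^ (n + 1) * x = (p : B) * ((p : B) ^ n * x) := by ring
    rw [h6, ih, e]
    have h7 : (p : B) * ((-W) ^ n * x ^ (n * (p - 1) + 1)) = (-W) ^ n * x ^ (n * (p - 1)) * ((p : B) * x) := by ring
    rw [h7, h5]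
    ring

/-- the endomorphism version. -/
theorem end_key {M : Type*} [AddCommGroup M] {p : ℕ} (hp : p.Prime) {t : Module.End ℤ M} (h : (1 + t) ^ p = 1) {n : ℕ}
    (hm : t ^ (n * (p - 1) + 1) = 0) (v : M) : (p : ℤ) ^ n • t v = 0 := by
  let f : Polynomial ℤ →ₐ[ℤ] Module.End ℤ M := Polynomial.aeval t
  let I : Ideal (Polynomial ℤ) := RingHom.ker f
  let q : Polynomial ℤ →+* Polynomial ℤ ⧸ I := Ideal.Quotient.mk I
  have hq : ∀ a : Polynomial ℤ, q a = 0 ↔ f a = 0 := fun a => by
    rw [Ideal.Quotient.eq_zero_iff_mem, RingHom.mem_ker]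
  have hfX : f Polynomial.X = t := Polynomial.aeval_X t
  have h1 : (1 + q Polynomial.X) ^ p = 1 := by
    have h2 : q ((1 + Polynomial.X) ^ p - 1) = 0 := by
      rw [hq, map_sub, map_pow, map_add, map_one, hfX, h, sub_self]
    rw [map_sub, map_pow, map_add, map_one] at h2
    exact sub_eq_zero.mp h2
  have h2 : (q Polynomial.X) ^ (n * (p - 1) + 1) = 0 := by
    rw [← map_pow, hq, map_pow, hfX, hm]
  obtain ⟨V, hV⟩ := ring_key hp h1 h2
  have h3 := hV n
  rw [h2, mul_zero] at h3
  have h4 : q ((p : Polynomial ℤ) ^ n * Polynomial.X) = 0 := by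
    rw [map_mul, map_pow, map_natCast]; exact h3
  rw [hq, map_mul, map_pow, map_natCast, hfX] at h4
  have h5 := congrArg (fun g : Module.End ℤ M => g v) h4
  have h6 : ((p : Module.End ℤ M) ^ n * t) v = (p : ℤ) ^ n • t v := by
    rw [← Nat.cast_pow, Module.End.mul_apply]
    rw [Module.End.natCast_apply, ← Nat.cast_pow, natCast_zsmul]
  rw [← h6]
  exact h5

theorem pow_fixed_of_class {Ω : Type*} [Group Ω] {S : Subgroup Ω} {p : ℕ} (hp : p.Prime) {n : ℕ}
    (hcl : Subgroup.lowerCentralSeries S (n * (p - 1) + 1) = ⊥) {R : Subgroup Ω} (hRS : R ≤ S) {a : Ω} (ha : a ∈ S)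
    (haN : a ∈ Subgroup.normalizer (R : Set Ω)) (hap : a ^ p ∈ R) {w : Ω} (hw : w ∈ R) (hwc : ∀ x ∈ R, x * w = w * x) :
    a * w ^ (p ^ n) * a⁻¹ = w ^ (p ^ n) := by
  letI : CommGroup (Subgroup.center R) := IsMulCommutative.instCommGroup
  let τ : MulAut (Subgroup.center R) := resCenter R (R.normalizerMonoidHom ⟨a, haN⟩)
  let T : Module.End ℤ (Additive (Subgroup.center R)) := (MonoidHom.toAdditive τ.toMonoidHom).toIntLinearMap
  let val : Additive (Subgroup.center R) → Ω := fun v => (((Additive.toMul v : Subgroup.center R) : R) : Ω)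
  have hinj : Function.Injective val := by
    intro u v huv
    have h1 : (Additive.toMul u : Subgroup.center R) = Additive.toMul v := Subtype.ext (Subtype.ext huv)
    exact Additive.toMul.injective h1
  have hT : ∀ v, val (T v) = a * val v * a⁻¹ := fun v => rfl
  have hsub : ∀ u v, val (u - v) = val u * (val v)⁻¹ := by
    intro u v
    rw [sub_eq_add_neg]
    rfl
  let t := T - 1
  have ht : ∀ v, val (t v) = ⁅a, val v⁆ := by
    intro v
    have : t v = T v - v := rfl
    rw [this, hsub, hT, commutatorElement_def]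
  have hlcs : ∀ (k : ℕ) (v), val ((t ^ k) v) ∈ Subgroup.lowerCentralSeries S k := by
    intro k
    induction k with
    | zero => intro v; exact hRS ((Additive.toMul v : Subgroup.center R) : R).2
    | succ k ih =>
      intro v
      rw [pow_succ', Module.End.mul_apply, ht, Subgroup.lowerCentralSeries_succ, Subgroup.commutator_comm]
      exact Subgroup.commutator_mem_commutator ha (ih v)
  have h1 : t ^ (n * (p - 1) + 1) = 0 := by
    refine LinearMap.ext fun v => hinj ?_
    have h2 := hlcs (n * (p - 1) + 1) v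
    rw [hcl, Subgroup.mem_bot] at h2
    exact h2
  have hTk : ∀ (k : ℕ) (v), val ((T ^ k) v) = a ^ k * val v * (a ^ k)⁻¹ := by
    intro k
    induction k with
    | zero => intro v; simp
    | succ k ih => intro v; rw [pow_succ', Module.End.mul_apply, hT, ih, pow_succ']; group
  have h2 : (1 + t) ^ p = 1 := by
    have h3 : 1 + t = T := by simp [t]
    rw [h3]
    refine LinearMap.ext fun v => hinj ?_
    rw [hTk]
    have h4 := Subgroup.mem_center_iff.mp (Additive.toMul v : Subgroup.center R).2 ⟨a ^ p, hap⟩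
    have h5 : a ^ p * val v = val v * a ^ p := congrArg Subtype.val h4
    rw [h5, mul_inv_cancel_right]
    rfl
  have hwm : (⟨w, hw⟩ : R) ∈ Subgroup.center R := Subgroup.mem_center_iff.mpr (fun x => Subtype.ext (hwc x x.2))
  have h3 := end_key hp h2 h1 (Additive.ofMul ⟨⟨w, hw⟩, hwm⟩)
  have h4 : val ((p : ℤ) ^ n • t (Additive.ofMul ⟨⟨w, hw⟩, hwm⟩)) = (⁅a, w⁆) ^ (p ^ n) := by
    rw [← Nat.cast_pow, natCast_zsmul]
    have h5 : ∀ (k : ℕ) u, val (k • u) = (val u) ^ k := fun k u => rfl
    rw [h5, ht]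
    rfl
  rw [h3] at h4
  have h5 : (⁅a, w⁆) ^ (p ^ n) = 1 := h4.symm
  -- `a w a⁻¹` and `w` commute
  have h6 : Commute (a * w * a⁻¹) w⁻¹ := by
    have h7 : a * w * a⁻¹ ∈ R := (Subgroup.mem_normalizer_iff.mp haN w).mp hw
    exact (Commute.inv_right (show Commute (a * w * a⁻¹) w from hwc _ h7))
  rw [commutatorElement_def, h6.mul_pow, inv_pow, mul_inv_eq_one, conj_pow] at h5
  exact h5

section
variable {Ω : Type*} [Group Ω] {S : Subgroup Ω} {F : FusionSystem S} [Finite S] {p : ℕ} [Fact p.Prime]

/-- Induction over essential subgroups. -/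
theorem essential_induction (hS : IsPGroup p S) (hF : F.IsSaturated p) (E : FusionSystem S)
    (h : ∀ R : Subgroup Ω, (R = S ∨ F.IsEssential p R) → (∀ Q : Subgroup Ω, Q ≤ S → Nat.card R < Nat.card Q → F.Hom Q ⊆ E.Hom Q) →
      F.autGroup R ≤ E.autGroup R) : F ≤ E := by
  have key : ∀ (k : ℕ) (R : Subgroup Ω), (R = S ∨ F.IsEssential p R) → Nat.card S - Nat.card R ≤ k → F.autGroup R ≤ E.autGroup R := by
    intro k
    induction k with
    | zero =>
      intro R hR hk
      refine h R hR fun Q hQ hlt => ?_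
      have h1 : Nat.card Q ≤ Nat.card S := Subgroup.card_le_of_le hQ
      omega
    | succ k ih =>
      intro R hR hk
      refine h R hR fun Q hQ hlt => ?_
      refine alperin_partial hS hF E (Nat.card R + 1) (fun R' hR' hle => ih R' hR' ?_) hlt
      omega
  exact alperin_goldschmidt hS hF E (fun P hP => key _ P hP le_rfl)

/-- Frattini argument in the automizer of a centric fully normalized subgroup. -/
theorem aut_le_of_normal (hS : IsPGroup p S) (hF : F.IsSaturated p) {R : Subgroup Ω} (hR : F.IsFullyNormalized R)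
    (hRc : centralizerIn S R ≤ R) (E : FusionSystem S)
    (hbig : ∀ Q : Subgroup Ω, Q ≤ S → Nat.card R < Nat.card Q → F.Hom Q ⊆ E.Hom Q) (K : Subgroup (MulAut R)) (hKA : K ≤ F.autGroup R)
    (hKn : ∀ α ∈ F.autGroup R, ∀ κ ∈ K, α * κ * α⁻¹ ∈ K) (hKE : K ≤ E.autGroup R) {a : Ω} (haS : a ∈ S)
    (haN : a ∈ Subgroup.normalizer (R : Set Ω)) (haR : a ∉ R) (haK : R.normalizerMonoidHom ⟨a, haN⟩ ∈ K) :
    F.autGroup R ≤ E.autGroup R := by
  intro α hα
  haveI := finite_of_le hR.1
  haveI := finite_autGroup (S := S) hR.1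
  have hsyl := isSylowIn_autInducedBy (fullyAutomized_of_fullyNormalized_sat hS hF hR)
  have hT : IsSylowIn p (autInducedBy S R ⊓ K) K := isSylowIn_inf_normal hsyl hKA hKn
  have hαK : MulAut.conj α • K = K := by
    ext κ
    rw [mem_conj_smul]
    constructor
    · intro h
      have := hKn α hα _ h
      have e : α * (α⁻¹ * κ * α) * α⁻¹ = κ := by group
      rwa [e] at this
    · intro h
      have := hKn α⁻¹ ((F.autGroup R).inv_mem hα) _ h
      rwa [inv_inv] at this
  obtain ⟨κ, hκ, hκT⟩ := (hT.conj hαK).exists_conj hT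
  have hβA : κ * α ∈ F.autGroup R := (F.autGroup R).mul_mem (hKA hκ) hα
  have hτ : R.normalizerMonoidHom ⟨a, haN⟩ ∈ autInducedBy S R := mem_autInducedBy.mpr ⟨a, haS, fun x => rfl⟩
  have h1 : (κ * α) * R.normalizerMonoidHom ⟨a, haN⟩ * (κ * α)⁻¹ ∈ autInducedBy S R ⊓ K := by
    rw [← hκT, mem_conj_smul, mem_conj_smul]
    have e : α⁻¹ * (κ⁻¹ * ((κ * α) * R.normalizerMonoidHom ⟨a, haN⟩ * (κ * α)⁻¹) * κ) * α = R.normalizerMonoidHom ⟨a, haN⟩ := by group
    rw [e]
    exact ⟨hτ, haK⟩
  have hnI : R.normalizerMonoidHom ⟨a, haN⟩ ∉ Inn R := by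
    intro hI
    exact haR (mem_of_induced_inn hRc haS hI (fun x => rfl) hR.1)
  obtain ⟨Q, hRQ, φ, hφ, hφe⟩ := mem_extAut_of_conj (receptive_of_fullyNormalized_sat hS hF hR) hβA hτ hnI h1.1
  have hQS := hom_le F hφ
  haveI := finite_of_le hQS
  have h2 := hbig Q hQS (card_lt_of_lt hRQ) hφ
  have h3 : κ * α ∈ E.autGroup R := mem_autGroup_of_extends hRQ.le h2 hφe
  have h4 := (E.autGroup R).mul_mem ((E.autGroup R).inv_mem (hKE hκ)) h3
  rwa [inv_mul_cancel_left] at h4

/-- S5218 -/
theorem agemo_center_normal (hS : IsPGroup p S) (hF : F.IsSaturated p) (n : ℕ)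
    (hcl : Subgroup.lowerCentralSeries S (n * (p - 1) + 1) = ⊥) :
    F.IsNormal (powerClosure p n (S ⊓ Subgroup.centralizer (S : Set Ω))) := by
  set Z := S ⊓ Subgroup.centralizer (S : Set Ω) with hZ
  set V := powerClosure p n Z with hV
  have hVZ : V ≤ Z := by
    rw [hV, powerClosure, Subgroup.closure_le]
    rintro _ ⟨x, hx, rfl⟩
    exact Z.pow_mem hx _
  have hVS : V ≤ S := hVZ.trans inf_le_left
  have hVc : ∀ s ∈ S, ∀ v ∈ V, s * v = v * s := fun s hs v hv => (hVZ hv).2 s hs
  have hVn : S ≤ Subgroup.normalizer (V : Set Ω) := by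
    intro s hs
    rw [Subgroup.mem_normalizer_iff]
    intro x
    constructor
    · intro hx
      rw [hVc s hs x hx, mul_inv_cancel_right]; exact hx
    · intro hx
      have h1 := hVc s hs _ hx
      have h2 : s * x * s⁻¹ = x := by
        have h3 : s * (s * x * s⁻¹) * s⁻¹ = s * x * s⁻¹ := by rw [h1, mul_inv_cancel_right]
        have h4 := mul_left_cancel (mul_right_cancel h3)
        exact h4
      rw [h2] at hx; exact hx
  apply normal_of_abelian hS hF
  · refine ⟨hVS, fun R hR φ hφ x => ?_⟩
    have key : F ≤ memSystem F V hVn := by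
      apply essential_induction hS hF
      intro R hR hbig
      by_cases hRS' : R = S
      · subst hRS'
        -- automorphisms of `S`
        intro α hα
        refine mem_autGroup_of_iso _ ⟨(mem_autGroup F le_rfl).mp hα, fun x => ?_⟩
        have hchar : ∀ β : MulAut R, ∀ y : R, (y : Ω) ∈ V → ((β y : R) : Ω) ∈ V := by
          intro β y hy
          have h1 : V ≤ ((V.subgroupOf R).comap β.toMonoidHom).map R.subtype := by
            conv_lhs => rw [hV, powerClosure]
            rw [Subgroup.closure_le]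
            rintro _ ⟨z, hz, rfl⟩
            refine ⟨⟨z, hz.1⟩ ^ (p ^ n), ?_, rfl⟩
            change ((β (⟨z, hz.1⟩ ^ (p ^ n)) : R) : Ω) ∈ V
            rw [map_pow]
            refine Subgroup.subset_closure ⟨(β ⟨z, hz.1⟩ : R), ⟨(β _).2, fun s hs => ?_⟩, rfl⟩
            obtain ⟨s', hs'⟩ := β.surjective ⟨s, hs⟩
            have h2 : s' * ⟨z, hz.1⟩ = ⟨z, hz.1⟩ * s' := Subtype.ext (hz.2 s' s'.2)
            have h3 := congrArg (fun u : R => ((β u : R) : Ω)) h2
            simp only [map_mul, hs'] at h3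
            exact h3
          obtain ⟨y', hy', hyy⟩ := h1 hy
          have : y' = y := Subtype.ext hyy
          rw [← this]; exact hy'
        constructor
        · intro h; exact hchar α x h
        · intro h
          have h1 := hchar α⁻¹ (α x) h
          rw [MulAut.inv_apply_self] at h1
          exact h1
      · -- essential subgroups
        have hRe := hR.resolve_left hRS'
        have hRS : R < S := lt_of_le_of_ne hRe.1.1 hRS'
        have hRc : centralizerIn S R ≤ R := hRe.1.2 R (isConj_refl hRe.1.1)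
        have hZR : Z ≤ R := fun z hz => hRc ⟨hz.1, fun x hx => hz.2 x (hRS.le hx)⟩
        obtain ⟨g, hgN, hgR⟩ := SetLike.exists_of_lt (lt_normalizerIn hS hRS)
        obtain ⟨k, hk⟩ := hS ⟨g, (mem_normalizerIn.mp hgN).1⟩
        have hex : ∃ k : ℕ, g ^ p ^ k ∈ R := ⟨k, by
          have h1 : g ^ p ^ k = 1 := congrArg Subtype.val hk
          rw [h1]; exact R.one_mem⟩
        classical
        obtain ⟨j, hj⟩ : ∃ j, Nat.find hex = j + 1 := by
          refine Nat.exists_eq_succ_of_ne_zero fun h0 => ?_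
          have h1 := Nat.find_spec hex
          rw [h0, pow_zero, pow_one] at h1
          exact hgR h1
        have haR : g ^ p ^ j ∉ R := Nat.find_min hex (by omega)
        have hapR : (g ^ p ^ j) ^ p ∈ R := by
          have h1 := Nat.find_spec hex
          rw [hj, pow_succ, pow_mul] at h1
          exact h1
        have haN := (mem_normalizerIn.mp ((normalizerIn S R).pow_mem hgN (p ^ j)))
        let K₀ : Subgroup (MulAut R) :=
          { carrier := {α | ∀ w ∈ Subgroup.center R, α (w ^ (p ^ n)) = w ^ (p ^ n)}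
            one_mem' := fun w _ => rfl
            mul_mem' := fun {α β} hα hβ w hw => by
              change α (β _) = _
              rw [hβ w hw, hα w hw]
            inv_mem' := fun {α} hα w hw => by
              have h1 := hα w hw
              have h2 := congrArg (fun z => α⁻¹ z) h1
              simp only [MulAut.inv_apply_self] at h2
              exact h2.symm }
        have hVfix : ∀ κ ∈ K₀, ∀ x : R, (x : Ω) ∈ V → κ x = x := by
          intro κ hκ x hx
          let Fx : Subgroup R :=
            { carrier := {y | κ y = y}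
              one_mem' := map_one κ
              mul_mem' := fun {y z} hy hz => by
                change κ (y * z) = y * z
                rw [map_mul, hy, hz]
              inv_mem' := fun {y} hy => by
                change κ y⁻¹ = y⁻¹
                rw [map_inv, hy] }
          have h1 : V ≤ Fx.map R.subtype := by
            conv_lhs => rw [hV, powerClosure]
            rw [Subgroup.closure_le]
            rintro _ ⟨z, hz, rfl⟩
            refine ⟨⟨z, hZR hz⟩ ^ (p ^ n), ?_, rfl⟩
            exact hκ ⟨z, hZR hz⟩ (Subgroup.mem_center_iff.mpr fun y => Subtype.ext (hz.2 y (hRS.le y.2)))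
          obtain ⟨y, hy, hyx⟩ := h1 hx
          have : y = x := Subtype.ext hyx
          rw [← this]; exact hy
        refine aut_le_of_normal hS hF hRe.2.1 hRc _ hbig (F.autGroup R ⊓ K₀) inf_le_left ?_ ?_ haN.1 haN.2 haR ?_
        · rintro α hα κ ⟨hκ1, hκ2⟩
          refine ⟨(F.autGroup R).mul_mem ((F.autGroup R).mul_mem hα hκ1) ((F.autGroup R).inv_mem hα), fun w hw => ?_⟩
          change α (κ (α⁻¹ (w ^ (p ^ n)))) = _
          rw [map_pow α⁻¹, hκ2 _ (map_center_mem α⁻¹ hw), map_pow, MulAut.apply_inv_self]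
        · rintro κ ⟨hκ1, hκ2⟩
          refine mem_autGroup_of_iso _ ⟨(mem_autGroup F hRS.le).mp hκ1, fun x => ?_⟩
          change (x : Ω) ∈ V ↔ ((κ x : R) : Ω) ∈ V
          constructor
          · intro hx
            rw [hVfix κ hκ2 x hx]; exact hx
          · intro hx
            have h1 := hVfix κ⁻¹ (K₀.inv_mem hκ2) (κ x) hx
            rw [MulAut.inv_apply_self] at h1
            rw [h1]; exact hx
        · refine ⟨autInducedBy_le_autGroup F hRS.le (mem_autInducedBy.mpr ⟨_, haN.1, fun x => rfl⟩), fun w hw => ?_⟩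
          apply Subtype.ext
          have h1 := pow_fixed_of_class (Fact.out : p.Prime) hcl hRS.le haN.1 haN.2 hapR w.2
            (fun x hx => congrArg Subtype.val (Subgroup.mem_center_iff.mp hw ⟨x, hx⟩))
          exact h1
    exact ((key R hφ).2 x).mp (hR x.2)
  · exact ⟨⟨fun a b => Subtype.ext (hVc a (hVS a.2) b b.2)⟩⟩

end

end Cfsg.Agent.L0.Fus
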