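import Cfsg.Agent.L0.Fus.Bis6
set_option autoImplicit false
/-! Semicharacteristic bisets for arbitrary fusion systems and Park's theorem. -/

open Pointwise

namespace Cfsg.Agent.L0.Fus

open Cfsg.Agent.L0 Cfsg.FusionSystem

universe u v w

variable {Ω : Type u} [Group Ω] {S : Subgroup Ω} {F : FusionSystem S}

/-- `N` copies. -/
def Copies (N : ℕ) (X : Type u) : Type u := Fin N × X

instance (N : ℕ) (X : Type u) [Finite X] : Finite (Copies N X) := inferInstanceAs (Finite (Fin N × X))

instance {G : Type*} [Group G] (N : ℕ) (X : Type u) [MulAction G X] : MulAction G (Copies N X) where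
  smul g x := (x.1, g • x.2)
  one_smul x := Prod.ext rfl (one_smul G x.2)
  mul_smul g h x := Prod.ext rfl (mul_smul g h x.2)

theorem stabilizer_copies {G : Type*} [Group G] (N : ℕ) (X : Type u) [MulAction G X] (x : Copies N X) :
    MulAction.stabilizer G x = MulAction.stabilizer G x.2 := by
  ext g
  rw [MulAction.mem_stabilizer_iff, MulAction.mem_stabilizer_iff]
  constructor
  · intro h; exact congrArg Prod.snd h
  · intro h; exact Prod.ext rfl h

theorem mrk_copies {G : Type*} [Group G] (N : ℕ) (X : Type u) [MulAction G X] (D : Subgroup G) :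
    mrk D (Copies N X) = N * mrk D X := by
  unfold mrk
  have e : fxp D (Copies N X) ≃ Fin N × fxp D X :=
    { toFun := fun x => (x.1.1, ⟨x.1.2, mem_fxp_iff.mpr (by rw [← stabilizer_copies]; exact mem_fxp_iff.mp x.2)⟩)
      invFun := fun x => ⟨(show Copies N X from (x.1, x.2.1)), fun k hk => Prod.ext rfl (x.2.2 k hk)⟩
      left_inv := fun x => rfl
      right_inv := fun x => rfl }
  rw [Nat.card_congr e, Nat.card_prod, Nat.card_fin]

variable [Finite S]

theorem step_semi (X : Type u) [MulAction (S × S) X] [Finite X] (hX : FSet F X)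
    {n : ℕ} (hst : StableAt F X (n + 1)) :
    ∃ (X' : Type u) (_ : MulAction (S × S) X') (_ : Finite X'), FSet F X' ∧ StableAt F X' n ∧
      mrk (gdiag S S S.subtype S.subtype) X ≤ mrk (gdiag S S S.subtype S.subtype) X' := by
  classical
  set 𝒞 : Set (Subgroup (S × S)) := {D | FType F D ∧ Nat.card D = n} with h𝒞
  let t : Subgroup (S × S) → ℕ := fun D => Nat.card (S × S) * Nat.card X
  have hmle : ∀ D : Subgroup (S × S), mrk D X ≤ Nat.card X := fun D => by
    unfold mrk
    exact Nat.card_le_card_of_injective (fun x => x.1) Subtype.val_injective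
  have hpos : 0 < Nat.card (S × S) := Nat.card_pos
  have hmt : ∀ D : Subgroup (S × S), mrk D (Copies (Nat.card (S × S)) X) ≤ t D := fun D => by
    rw [mrk_copies]
    exact Nat.mul_le_mul_left _ (hmle D)
  obtain ⟨Y, _, hfY, hYst, hYm⟩ := exists_add (G := S × S) 𝒞 n (fun D hD => hD.2) (fun D hD g => ⟨hD.1.conj g, by
      rw [Subgroup.card_map_of_injective (MulAut.conj g).injective]; exact hD.2⟩) (fun D => t D - mrk D (Copies (Nat.card (S × S)) X))
    (fun D hD g => by rw [mrk_conj]) (by
      rintro D ⟨-, hD⟩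
      rw [mrk_quot_self, mrk_copies]
      have h2 : (D.subgroupOf (Subgroup.normalizer (D : Set (S × S)))).index ∣ Nat.card (S × S) := by
        exact (Subgroup.index_dvd_card _).trans (Subgroup.card_subgroup_dvd_card _)
      exact Nat.dvd_sub (h2.mul_right _) (h2.mul_right _))
  refine ⟨Copies (Nat.card (S × S)) X ⊕ Y, inferInstance, inferInstance, ?_, ?_, ?_⟩
  · rintro (x | y)
    · have h1 : MulAction.stabilizer (S × S) (Sum.inl x : Copies (Nat.card (S × S)) X ⊕ Y) = MulAction.stabilizer (S × S) x := by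
        ext g
        rw [MulAction.mem_stabilizer_iff, MulAction.mem_stabilizer_iff]
        exact ⟨fun h => Sum.inl.inj h, fun h => congrArg Sum.inl h⟩
      rw [h1, stabilizer_copies]; exact hX x.2
    · have h1 : MulAction.stabilizer (S × S) (Sum.inr y : Copies (Nat.card (S × S)) X ⊕ Y) = MulAction.stabilizer (S × S) y := by
        ext g
        rw [MulAction.mem_stabilizer_iff, MulAction.mem_stabilizer_iff]
        exact ⟨fun h => Sum.inr.inj h, fun h => congrArg Sum.inr h⟩
      rw [h1]; exact (hYst y).1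
  · intro P α β hα hβ hPn
    have hPS := hom_le F hα
    have hsub := subtype_mem F hPS
    rw [mrk_sum, mrk_sum]
    rcases hPn.eq_or_lt with h | h
    · have h1 : gdiag S P α β ∈ 𝒞 := ⟨⟨P, α, β, hα, hβ, rfl⟩, (card_gdiag (F.injective_of_mem hα) (hom_mem F hα) (hom_mem F hβ)).trans h.symm⟩
      have h2 : gdiag S P P.subtype P.subtype ∈ 𝒞 := ⟨⟨P, _, _, hsub, hsub, rfl⟩, (card_gdiag (F.injective_of_mem hsub) (hom_mem F hsub) (hom_mem F hsub)).trans h.symm⟩
      rw [hYm _ h1, hYm _ h2, Nat.add_sub_cancel' (hmt _), Nat.add_sub_cancel' (hmt _)]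
    · rw [mrk_copies, mrk_copies, hst P α β hα hβ h]
      have h0 : ∀ D : Subgroup (S × S), n < Nat.card D → mrk D Y = 0 := by
        intro D hD
        have : IsEmpty (fxp D Y) := ⟨fun y => by
          have h4 : Nat.card D ≤ Nat.card (MulAction.stabilizer (S × S) y.1) := Subgroup.card_le_of_le y.2
          rw [(hYst y.1).2] at h4
          omega⟩
        exact Nat.card_of_isEmpty
      rw [h0 _ (by rw [card_gdiag (F.injective_of_mem hα) (hom_mem F hα) (hom_mem F hβ)]; exact h),
        h0 _ (by rw [card_gdiag (F.injective_of_mem hsub) (hom_mem F hsub) (hom_mem F hsub)]; exact h)]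
  · rw [mrk_sum, mrk_copies]
    exact (Nat.le_mul_of_pos_left _ hpos).trans (Nat.le_add_right _ _)

theorem base_semi : ∃ (X : Type u) (_ : MulAction (S × S) X) (_ : Finite X), FSet F X ∧ StableAt F X (Nat.card S + 1) ∧
    0 < mrk (gdiag S S S.subtype S.subtype) X := by
  have hsub := subtype_mem F (le_refl S)
  refine ⟨(S × S) ⧸ gdiag S S S.subtype S.subtype, inferInstance, inferInstance, ?_, ?_, ?_⟩
  · intro x
    obtain ⟨g, rfl⟩ := QuotientGroup.mk_surjective x
    have h1 : FType F (gdiag S S S.subtype S.subtype) := ⟨S, _, _, hsub, hsub, rfl⟩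
    have h2 := h1.conj g
    refine h2.mono ?_
    intro k hk
    rw [MulAction.mem_stabilizer_iff] at hk
    have h3 : ((k * g : S × S) : (S × S) ⧸ gdiag S S S.subtype S.subtype) = g := hk
    rw [eq_comm, QuotientGroup.eq] at h3
    refine ⟨_, h3, ?_⟩
    change g * (g⁻¹ * (k * g)) * g⁻¹ = k
    group
  · intro P α β hα hβ hP
    have h1 : Nat.card P ≤ Nat.card S := Subgroup.card_le_of_le (hom_le F hα)
    omega
  · rw [mrk_quot_self]
    exact Nat.pos_of_ne_zero Subgroup.index_ne_zero_of_finite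

theorem exists_semi : ∃ (X : Type u) (_ : MulAction (S × S) X) (_ : Finite X), FSet F X ∧ StableAt F X 0 ∧
    0 < mrk (gdiag S S S.subtype S.subtype) X := by
  have key : ∀ j : ℕ, j ≤ Nat.card S + 1 → ∃ (X : Type u) (_ : MulAction (S × S) X) (_ : Finite X), FSet F X ∧
      StableAt F X (Nat.card S + 1 - j) ∧ 0 < mrk (gdiag S S S.subtype S.subtype) X := by
    intro j
    induction j with
    | zero => intro _; exact base_semi
    | succ j ih =>
      intro hj
      obtain ⟨X, _, _, hX, hst, hm⟩ := ih (by omega)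
      obtain ⟨X', _, _, hX', hst', hk⟩ := step_semi X hX (n := Nat.card S + 1 - (j + 1)) (by
        have : Nat.card S + 1 - (j + 1) + 1 = Nat.card S + 1 - j := by omega
        rw [this]; exact hst)
      exact ⟨X', _, ‹_›, hX', hst', hm.trans_le hk⟩
  obtain ⟨X, i1, i2, h⟩ := key (Nat.card S + 1) le_rfl
  rw [Nat.sub_self] at h
  exact ⟨X, i1, i2, h⟩

/-- Park's theorem. -/
theorem park (F : FusionSystem S) : ∃ (G : Type u) (_ : Group G) (_ : Finite G) (ι : S →* G), F.IsRealizedBy ι := by
  obtain ⟨X, _, _, hX, hst, hpos⟩ := exists_semi (F := F)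
  have hne : Nonempty (fxp (gdiag S S S.subtype S.subtype) X) := by
    by_contra h
    rw [not_nonempty_iff] at h
    rw [mrk, Nat.card_of_isEmpty] at hpos
    exact hpos.ne rfl
  obtain ⟨x₀, hx₀⟩ := hne
  have hx₀' : ∀ s : S, ((s, s) : S × S) • x₀ = x₀ := fun s => hx₀ _ ⟨s, rfl, rfl⟩
  let G : Subgroup (Equiv.Perm X) :=
    { carrier := {g | ∀ (t : S) (x : X), g (((1, t) : S × S) • x) = ((1, t) : S × S) • g x}
      one_mem' := fun _ _ => rfl
      mul_mem' := fun {a b} ha hb t x => by
        change a (b _) = _ • a (b x)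
        rw [hb, ha]
      inv_mem' := fun {a} ha t x => by
        change a.symm _ = _ • a.symm x
        rw [Equiv.symm_apply_eq, ha, Equiv.apply_symm_apply] }
  have hcomm : ∀ (s t : S) (x : X), ((s, 1) : S × S) • ((1, t) : S × S) • x = ((1, t) : S × S) • ((s, 1) : S × S) • x := by
    intro s t x
    rw [← mul_smul, ← mul_smul, Prod.mk_mul_mk, Prod.mk_mul_mk, one_mul, one_mul, mul_one, mul_one]
  let ι₀ : S →* Equiv.Perm X := (MulAction.toPermHom (S × S) X).comp (MonoidHom.inl S S)
  have hι₀ : ∀ s (x : X), ι₀ s x = ((s, 1) : S × S) • x := fun _ _ => rfl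
  let ι : S →* G := ι₀.codRestrict G (fun s t x => by
    rw [hι₀, hι₀]; exact hcomm s t x)
  have hι : ∀ s (x : X), ((ι s : G) : Equiv.Perm X) x = ((s, 1) : S × S) • x := fun _ _ => rfl
  refine ⟨G, inferInstance, inferInstance, ι, ?_, ?_⟩
  · rw [injective_iff_map_eq_one]
    intro s hs
    have h1 : ((s, 1) : S × S) • x₀ = x₀ := by
      rw [← hι, hs]; rfl
    have h2 : ((1, s⁻¹) : S × S) • x₀ = x₀ := by
      have h3 := hx₀' s⁻¹
      have h4 : ((1, s⁻¹) : S × S) = ((s⁻¹, s⁻¹) : S × S) * (s, 1) := by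
        rw [Prod.mk_mul_mk, inv_mul_cancel, mul_one]
      rw [h4, mul_smul, h1, h3]
    have h3 := right_free hX h2
    exact inv_eq_one.mp h3
  · intro P hP φ hφ
    constructor
    · intro hφF
      obtain ⟨f, hf⟩ := exists_twist hX hst hφF
      have hfG : f ∈ G := fun t x => by
        have h1 := hf 1 t x
        have h2 : (⟨((1 : P) : Ω), hom_le F hφF (1 : P).2⟩ : S) = 1 := rfl
        have h3 : (⟨φ 1, hom_mem F hφF 1⟩ : S) = 1 := Subtype.ext (map_one φ)
        rw [h2, h3] at h1
        exact h1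
      refine ⟨⟨f, hfG⟩, fun x => ?_⟩
      rw [eq_mul_inv_iff_mul_eq]
      apply Subtype.ext
      apply Equiv.ext
      intro y
      have h1 := hf x 1 y
      exact h1.symm
    · rintro ⟨g, hg⟩
      have h1 : gdiag S P φ P.subtype ≤ MulAction.stabilizer (S × S) ((g : Equiv.Perm X) x₀) := by
        rintro ⟨a, b⟩ ⟨x, hx1, hx2⟩
        have hb : b = ⟨x, hP x.2⟩ := Subtype.ext hx2.symm
        have ha : a = ⟨φ x, hφ x⟩ := Subtype.ext hx1.symm
        rw [MulAction.mem_stabilizer_iff, ha]
        have h2 : (((⟨φ x, hφ x⟩ : S), b) : S × S) = ((⟨φ x, hφ x⟩, 1) : S × S) * (1, b) := by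
          rw [Prod.mk_mul_mk, mul_one, one_mul]
        rw [h2, mul_smul, ← g.2 b x₀, ← hι, hg x]
        change (g : Equiv.Perm X) (((ι ⟨x, hP x.2⟩ : G) : Equiv.Perm X) ((g : Equiv.Perm X).symm ((g : Equiv.Perm X) _))) = _
        rw [Equiv.symm_apply_apply, hι, ← mul_smul, Prod.mk_mul_mk, mul_one, one_mul, ← hb, hx₀']
      obtain ⟨Q, α, β, hα, hβ, hD⟩ := (hX _).mono h1
      have hk : ∀ x : P, ∃ q : Q, α q = φ x ∧ β q = x := fun x => by
        have h2 : ((⟨φ x, hφ x⟩, ⟨x, hP x.2⟩) : S × S) ∈ gdiag S P φ P.subtype := ⟨x, rfl, rfl⟩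
        rw [hD] at h2
        exact h2
      have hrange : β.range = P := by
        apply le_antisymm
        · rintro _ ⟨q, rfl⟩
          have h2 : ((⟨α q, hom_mem F hα q⟩, ⟨β q, hom_mem F hβ q⟩) : S × S) ∈ gdiag S Q α β := ⟨q, rfl, rfl⟩
          rw [← hD] at h2
          obtain ⟨x, -, hx⟩ := h2
          have h3 : (x : Ω) = β q := hx
          rw [← h3]; exact x.2
        · intro x hx
          obtain ⟨q, -, hq⟩ := hk ⟨x, hx⟩
          exact ⟨q, hq⟩
      obtain ⟨γ, hγ, hγβ⟩ := F.inv_mem hβ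
      subst hrange
      have h5 : ∀ x, γ x ∈ Q := by
        rintro ⟨_, q, rfl⟩
        rw [hγβ]; exact q.2
      have h6 := F.comp_mem hγ hα h5
      have h7 : φ = α.comp (γ.codRestrict Q h5) := by
        ext x
        obtain ⟨q, hq1, hq2⟩ := hk x
        have h8 : x = ⟨β q, q, rfl⟩ := Subtype.ext hq2.symm
        change φ x = α ⟨γ x, h5 x⟩
        rw [← hq1]
        congr 1
        apply Subtype.ext
        change (q : Ω) = γ x
        rw [h8, hγβ]
      rw [h7]; exact h6

end Cfsg.Agent.L0.Fus
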