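import Cfsg.Agent.L0.Fus.Alperin2

/-!
Transvections on finite abelian `p`-groups and automorphism groups with strongly embedded subgroups.
-/

set_option autoImplicit false
set_option maxHeartbeats 1000000

namespace Cfsg.Agent.L0.Fus.Ess

section A
variable {P : Type*} [CommGroup P] [Finite P] {p : ℕ} [hp : Fact p.Prime]

theorem exists_zpow_mul {H : Subgroup P} (hH : H.index = p) {y : P} (hy : y ∉ H) (x : P) :
    ∃ i : ℤ, ∃ h ∈ H, x = y ^ i * h := by
  have hc : Nat.card (P ⧸ H) = p := hH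
  have h1 : (QuotientGroup.mk y : P ⧸ H) ≠ 1 := fun h => hy ((QuotientGroup.eq_one_iff y).mp h)
  have h2 : (QuotientGroup.mk x : P ⧸ H) ∈ Subgroup.zpowers (QuotientGroup.mk y : P ⧸ H) := by
    have := zpowers_eq_top_of_prime_card hc h1
    rw [this]; trivial
  obtain ⟨i, hi⟩ := Subgroup.mem_zpowers_iff.mp h2
  refine ⟨i, (y ^ i)⁻¹ * x, ?_, by group⟩
  rw [← QuotientGroup.eq, ← hi]
  rfl

/-- the homomorphism trick: a group `T` of automorphisms with common axis `Z` of index `p` and order `> p` has a nontrivial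
element whose commutators lie in a given subgroup `H` of index `p`. -/
theorem exists_comm_mem {T : Subgroup (MulAut P)} (hT : p < Nat.card T) {Z : Subgroup P} (hZi : Z.index = p)
    (hTZ : ∀ t ∈ T, ∀ z ∈ Z, t z = z) (hTP : ∀ t ∈ T, ∀ x : P, t x * x⁻¹ ∈ Z) {H : Subgroup P} (hH : H.index = p) :
    ∃ t ∈ T, t ≠ 1 ∧ ∀ x : P, t x * x⁻¹ ∈ H := by
  have hZt : Z ≠ ⊤ := by
    rintro rfl
    rw [Subgroup.index_top] at hZi
    exact hp.out.one_lt.ne hZi
  obtain ⟨y, hy⟩ : ∃ y : P, y ∉ Z := by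
    by_contra hcon
    push Not at hcon
    exact hZt (top_le_iff.mp fun x _ => hcon x)
  let δ : T →* P ⧸ H :=
    { toFun := fun t => QuotientGroup.mk ((t : MulAut P) y * y⁻¹)
      map_one' := by simp
      map_mul' := by
        intro t t'
        rw [← QuotientGroup.mk_mul]
        congr 1
        have h1 := hTZ t t.2 _ (hTP t' t'.2 y)
        rw [map_mul, map_inv] at h1
        change (t : MulAut P) ((t' : MulAut P) y) * y⁻¹ = _
        have h2 : (t : MulAut P) ((t' : MulAut P) y) = ((t' : MulAut P) y * y⁻¹) * (t : MulAut P) y := by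
          rw [← h1]; group
        rw [h2]
        rw [mul_assoc, mul_comm]
 }
  have hni : ¬ Function.Injective δ := by
    intro hinj
    have := Nat.card_le_card_of_injective δ hinj
    have hc : Nat.card (P ⧸ H) = p := hH
    omega
  rw [← MonoidHom.ker_eq_bot_iff] at hni
  obtain ⟨⟨t, ht⟩, ht0⟩ := Subgroup.ne_bot_iff_exists_ne_one.mp hni
  have ht1 : t ≠ 1 := fun h => ht0 (Subtype.ext h)
  have h0 : (t : MulAut P) y * y⁻¹ ∈ H := by
    have : δ t = 1 := ht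
    exact (QuotientGroup.eq_one_iff _).mp this
  refine ⟨t, t.2, fun h => ht1 (Subtype.ext h), fun x => ?_⟩
  obtain ⟨i, z, hz, rfl⟩ := exists_zpow_mul hZi hy x
  have h1 : (t : MulAut P) (y ^ i * z) * (y ^ i * z)⁻¹ = ((t : MulAut P) y * y⁻¹) ^ i := by
    rw [map_mul, map_zpow, hTZ t t.2 z hz, mul_inv_rev, mul_zpow, inv_zpow]
    have : (t : MulAut P) y ^ i * z * (z⁻¹ * (y ^ i)⁻¹) = (t : MulAut P) y ^ i * (y ^ i)⁻¹ := by group
    rw [this]
  rw [h1]
  exact H.zpow_mem h0 i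

theorem comm_of {s t : MulAut P} {A B : Subgroup P} (hs : ∀ x, s x * x⁻¹ ∈ A) (ht : ∀ x, t x * x⁻¹ ∈ B)
    (hsB : ∀ b ∈ B, s b = b) (htA : ∀ a ∈ A, t a = a) : s * t = t * s := by
  ext x
  change s (t x) = t (s x)
  have h1 := hsB _ (ht x)
  have h2 := htA _ (hs x)
  rw [map_mul, map_inv] at h1 h2
  have h3 : s (t x) = (t x * x⁻¹) * s x := by rw [← h1]; group
  have h4 : t (s x) = (s x * x⁻¹) * t x := by rw [← h2]; group
  rw [h3, h4, mul_comm (t x * x⁻¹), mul_comm (s x * x⁻¹), ← mul_assoc, ← mul_assoc, mul_comm (s x)]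

/-- The abstract form of "contained in a strongly `p`-embedded subgroup". -/
structure SEm (p : ℕ) {X : Type*} [Group X] (G Y : Subgroup X) : Prop where
  le : Y ≤ G
  ne : Y ≠ G
  mem : ∀ x ∈ Y, x ≠ 1 → (∃ k : ℕ, x ^ (p ^ k) = 1) → ∀ g ∈ G, g * x * g⁻¹ ∈ Y → g ∈ Y

theorem SEm.exists_not {X : Type*} [Group X] {G Y : Subgroup X} (h : SEm p G Y) {Q : X → Prop}
    (hmul : ∀ a b, Q a → Q b → Q (a * b)) (hinv : ∀ a, Q a → Q a⁻¹) (hQ : ¬ ∀ g ∈ G, Q g) : ∃ g ∈ G, g ∉ Y ∧ ¬ Q g := by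
  by_contra hcon
  push Not at hcon
  obtain ⟨g0, hg0, hg0Y⟩ : ∃ g0 ∈ G, g0 ∉ Y := by
    by_contra hc
    push Not at hc
    exact h.ne (le_antisymm h.le hc)
  apply hQ
  intro g hg
  by_cases hgY : g ∈ Y
  · have h1 : g * g0 ∉ Y := fun h' => hg0Y ((Subgroup.mul_mem_cancel_left Y hgY).mp h')
    have h2 := hcon _ (G.mul_mem hg hg0) h1
    have h3 := hcon _ hg0 hg0Y
    have := hmul _ _ h2 (hinv _ h3)
    rwa [mul_inv_cancel_right] at this
  · exact hcon g hg hgY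

theorem index_map_equiv (g : MulAut P) (Z : Subgroup P) : (Z.map g.toMonoidHom).index = Z.index :=
  Subgroup.index_map_of_bijective g.bijective Z

theorem map_le_of_card {g : MulAut P} {Z : Subgroup P} (h : ∀ z ∈ Z, g z ∈ Z) : ∀ z ∈ Z, g⁻¹ z ∈ Z := by
  have h1 : Z.map g.toMonoidHom ≤ Z := by
    rintro _ ⟨z, hz, rfl⟩
    exact h z hz
  have h2 : Z.map g.toMonoidHom = Z := Subgroup.eq_of_le_of_card_ge h1 (by
    rw [Subgroup.card_map_of_injective g.injective])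
  intro z hz
  rw [← h2] at hz
  obtain ⟨w, hw, rfl⟩ := hz
  change g⁻¹ (g w) ∈ Z
  rw [MulAut.inv_apply_self]
  exact hw

/-- TV1 -/
theorem tv1 {G T Y : Subgroup (MulAut P)} (hTY : T ≤ Y) (hY : SEm p G Y) (hT : IsPGroup p T)
    {Z : Subgroup P} (hZi : Z.index = p) (hTZ : ∀ t ∈ T, ∀ z ∈ Z, t z = z) (hTP : ∀ t ∈ T, ∀ x : P, t x * x⁻¹ ∈ Z)
    (hZG : ¬ ∀ g ∈ G, ∀ z ∈ Z, g z ∈ Z) : Nat.card T ≤ p := by
  by_contra hcon
  push Not at hcon
  obtain ⟨g, hg, hgY, hgZ⟩ := hY.exists_not (Q := fun g => ∀ z ∈ Z, g z ∈ Z)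
    (fun a b ha hb z hz => ha _ (hb z hz)) (fun a ha => map_le_of_card ha) hZG
  obtain ⟨t, ht, ht1, htx⟩ := exists_comm_mem hcon hZi hTZ hTP (H := Z.map g.toMonoidHom) (by rw [index_map_equiv, hZi])
  obtain ⟨t', ht', ht1', htx'⟩ := exists_comm_mem hcon hZi hTZ hTP (H := Z.map (g⁻¹ : MulAut P).toMonoidHom) (by rw [index_map_equiv, hZi])
  set s : MulAut P := g * t' * g⁻¹ with hs
  have hsx : ∀ x, s x * x⁻¹ ∈ Z := by
    intro x
    obtain ⟨z, hz, hzx⟩ := htx' (g⁻¹ x)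
    have h1 : s x * x⁻¹ = g (t' (g⁻¹ x) * (g⁻¹ x)⁻¹) := by
      rw [map_mul, map_inv, MulAut.apply_inv_self]; rfl
    rw [h1, ← hzx]
    change g (g⁻¹ z) ∈ Z
    rw [MulAut.apply_inv_self]
    exact hz
  have hst : s * t = t * s := by
    refine comm_of hsx htx ?_ (hTZ t ht)
    rintro _ ⟨z, hz, rfl⟩
    change g (t' (g⁻¹ (g z))) = g z
    rw [MulAut.inv_apply_self, hTZ t' ht' z hz]
  have hpow : ∀ u ∈ T, ∃ k : ℕ, u ^ (p ^ k) = 1 := by
    intro u hu
    obtain ⟨k, hk⟩ := hT ⟨u, hu⟩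
    exact ⟨k, congrArg Subtype.val hk⟩
  have hTG : T ≤ G := hTY.trans hY.le
  have hsG : s ∈ G := G.mul_mem (G.mul_mem hg (hTG ht')) (G.inv_mem hg)
  have hsY : s ∈ Y := hY.mem t (hTY ht) ht1 (hpow t ht) s hsG (by
    rw [hst, mul_inv_cancel_right]; exact hTY ht)
  exact hgY (hY.mem t' (hTY ht') ht1' (hpow t' ht') g hg hsY)

/-- dual form -/
theorem tv1' {G T Y : Subgroup (MulAut P)} (hTY : T ≤ Y) (hY : SEm p G Y) (hT : IsPGroup p T)
    {L : Subgroup P} (hLc : Nat.card L = p) (hTL : ∀ t ∈ T, ∀ z ∈ L, t z = z) (hTP : ∀ t ∈ T, ∀ x : P, t x * x⁻¹ ∈ L)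
    (hLG : ¬ ∀ g ∈ G, ∀ z ∈ L, g z ∈ L) : Nat.card T ≤ p := by
  by_contra hcon
  push Not at hcon
  obtain ⟨g, hg, hgY, hgL⟩ := hY.exists_not (Q := fun g => ∀ z ∈ L, g z ∈ L)
    (fun a b ha hb z hz => ha _ (hb z hz)) (fun a ha => map_le_of_card ha) hLG
  -- a nontrivial element of `T` fixing a given subgroup of order `p`
  have key : ∀ k : MulAut P, ∃ t ∈ T, t ≠ 1 ∧ ∀ z ∈ L, t (k z) = k z := by
    intro k
    obtain ⟨l, hl, hl1⟩ : ∃ l ∈ L, l ≠ 1 := by
      have : L ≠ ⊥ := by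
        rintro rfl
        rw [Subgroup.card_bot] at hLc
        exact hp.out.one_lt.ne hLc
      exact (Subgroup.ne_bot_iff_exists_ne_one.mp this).elim fun a ha => ⟨a, a.2, fun h => ha (Subtype.ext h)⟩
    let δ : T →* L :=
      { toFun := fun t => ⟨(t : MulAut P) (k l) * (k l)⁻¹, hTP t t.2 _⟩
        map_one' := by simp
        map_mul' := by
          intro t t'
          apply Subtype.ext
          have h1 := hTL t t.2 _ (hTP t' t'.2 (k l))
          rw [map_mul, map_inv] at h1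
          change (t : MulAut P) ((t' : MulAut P) (k l)) * (k l)⁻¹ = ((t : MulAut P) (k l) * (k l)⁻¹) * ((t' : MulAut P) (k l) * (k l)⁻¹)
          have h2 : (t : MulAut P) ((t' : MulAut P) (k l)) = ((t' : MulAut P) (k l) * (k l)⁻¹) * (t : MulAut P) (k l) := by
            rw [← h1]; group
          rw [h2, mul_assoc, mul_comm] }
    have hni : ¬ Function.Injective δ := by
      intro hinj
      have := Nat.card_le_card_of_injective δ hinj
      omega
    rw [← MonoidHom.ker_eq_bot_iff] at hni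
    obtain ⟨⟨t, ht⟩, ht0⟩ := Subgroup.ne_bot_iff_exists_ne_one.mp hni
    have ht1 : t ≠ 1 := fun h => ht0 (Subtype.ext h)
    have h0 : (t : MulAut P) (k l) = k l := by
      have : δ t = 1 := ht
      exact mul_inv_eq_one.mp (congrArg Subtype.val this)
    refine ⟨t, t.2, fun h => ht1 (Subtype.ext h), fun z hz => ?_⟩
    have h2 : (⟨z, hz⟩ : L) ∈ Subgroup.zpowers (⟨l, hl⟩ : L) := by
      rw [zpowers_eq_top_of_prime_card hLc (fun h => hl1 (congrArg Subtype.val h))]; trivial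
    obtain ⟨i, hi⟩ := Subgroup.mem_zpowers_iff.mp h2
    have h3 : l ^ i = z := congrArg Subtype.val hi
    rw [← h3, map_zpow, map_zpow, h0]
  obtain ⟨t, ht, ht1, htx⟩ := key g
  obtain ⟨t', ht', ht1', htx'⟩ := key g⁻¹
  set s : MulAut P := g * t' * g⁻¹ with hs
  have hsx : ∀ x, s x * x⁻¹ ∈ L.map g.toMonoidHom := by
    intro x
    refine ⟨t' (g⁻¹ x) * (g⁻¹ x)⁻¹, hTP t' ht' _, ?_⟩
    change g (t' (g⁻¹ x) * (g⁻¹ x)⁻¹) = _
    rw [map_mul, map_inv, MulAut.apply_inv_self]; rfl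
  have hst : s * t = t * s := by
    refine comm_of hsx (hTP t ht) ?_ ?_
    · intro z hz
      change g (t' (g⁻¹ z)) = z
      rw [htx' z hz, MulAut.apply_inv_self]
    · rintro _ ⟨z, hz, rfl⟩
      exact htx z hz
  have hpow : ∀ u ∈ T, ∃ k : ℕ, u ^ (p ^ k) = 1 := by
    intro u hu
    obtain ⟨k, hk⟩ := hT ⟨u, hu⟩
    exact ⟨k, congrArg Subtype.val hk⟩
  have hTG : T ≤ G := hTY.trans hY.le
  have hsG : s ∈ G := G.mul_mem (G.mul_mem hg (hTG ht')) (G.inv_mem hg)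
  have hsY : s ∈ Y := hY.mem t (hTY ht) ht1 (hpow t ht) s hsG (by
    rw [hst, mul_inv_cancel_right]; exact hTY ht)
  exact hgY (hY.mem t' (hTY ht') ht1' (hpow t' ht') g hg hsY)

/-- a transvection with axis `Z` and centre generated by `e` -/
structure IsTv (p : ℕ) (u : MulAut P) (Z : Subgroup P) (e : P) : Prop where
  fix : ∀ z ∈ Z, u z = z
  comm : ∀ x : P, ∃ i : ℤ, u x = x * e ^ i
  mem : e ∈ Z
  ind : Z.index = p
  ne : u ≠ 1
  pow : u ^ p = 1

theorem IsTv.conj {u : MulAut P} {Z : Subgroup P} {e : P} (h : IsTv p u Z e) (g : MulAut P) :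
    IsTv p (g * u * g⁻¹) (Z.map g.toMonoidHom) (g e) := by
  refine ⟨?_, ?_, ⟨e, h.mem, rfl⟩, by rw [index_map_equiv, h.ind], ?_, ?_⟩
  · rintro _ ⟨z, hz, rfl⟩
    change g (u (g⁻¹ (g z))) = g z
    rw [MulAut.inv_apply_self, h.fix z hz]
  · intro x
    obtain ⟨i, hi⟩ := h.comm (g⁻¹ x)
    refine ⟨i, ?_⟩
    change g (u (g⁻¹ x)) = _
    rw [hi, map_mul, MulAut.apply_inv_self, map_zpow]
  · intro hc
    apply h.ne
    have : g * u = g := by
      have := congrArg (· * g) hc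
      simpa using this
    simpa using this
  · rw [conj_pow, h.pow]; group

theorem IsTv.ne_axis_elt {u : MulAut P} {Z : Subgroup P} {e : P} (h : IsTv p u Z e) {y : P} (hy : y ∉ Z) : u y ≠ y := by
  intro hc
  apply h.ne
  ext x
  obtain ⟨i, z, hz, rfl⟩ := exists_zpow_mul h.ind hy x
  rw [map_mul, map_zpow, hc, h.fix z hz]; rfl

theorem IsTv.mem_iff {u : MulAut P} {Z : Subgroup P} {e : P} (h : IsTv p u Z e) {y : P} : y ∈ Z ↔ u y = y :=
  ⟨h.fix y, fun h1 => by by_contra h2; exact h.ne_axis_elt h2 h1⟩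

theorem IsTv.order {u : MulAut P} {Z : Subgroup P} {e : P} (h : IsTv p u Z e) : orderOf u = p :=
  orderOf_eq_prime h.pow h.ne

theorem mem_zpowers_of_comm {G : Subgroup (MulAut P)} (hmax : ∀ Q : Subgroup (MulAut P), Q ≤ G → IsPGroup p Q → Nat.card Q ≤ p)
    {u v : MulAut P} (hu : u ∈ G) (hv : v ∈ G) (hup : orderOf u = p) (hvp : IsPGroup p (Subgroup.zpowers v))
    (hn : v * u * v⁻¹ ∈ Subgroup.zpowers u) : v ∈ Subgroup.zpowers u := by
  have hU : IsPGroup p (Subgroup.zpowers u) := IsPGroup.of_card (n := 1) (by rw [Nat.card_zpowers, hup, pow_one])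
  have h1 : Subgroup.zpowers v ≤ Subgroup.normalizer (Subgroup.zpowers u : Set (MulAut P)) := by
    rw [Subgroup.zpowers_le]
    apply Subgroup.mem_normalizer_fintype
    intro x hx
    obtain ⟨i, rfl⟩ := Subgroup.mem_zpowers_iff.mp hx
    rw [← conj_zpow]
    exact Subgroup.zpow_mem _ hn i
  have h2 : IsPGroup p (Subgroup.zpowers u ⊔ Subgroup.zpowers v : Subgroup (MulAut P)) := hU.to_sup_of_normal_left' hvp h1
  have h3 := hmax _ (sup_le (by rwa [Subgroup.zpowers_le]) (by rwa [Subgroup.zpowers_le])) h2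
  have h4 : Subgroup.zpowers u = Subgroup.zpowers u ⊔ Subgroup.zpowers v :=
    Subgroup.eq_of_le_of_card_ge le_sup_left (by rw [Nat.card_zpowers, hup]; exact h3)
  rw [h4]
  exact (le_sup_right (α := Subgroup (MulAut P))) (Subgroup.mem_zpowers v)

theorem IsTv.isPGroup {u : MulAut P} {Z : Subgroup P} {e : P} (h : IsTv p u Z e) : IsPGroup p (Subgroup.zpowers u) :=
  IsPGroup.of_card (n := 1) (by rw [Nat.card_zpowers, h.order, pow_one])

theorem IsTv.claim {G : Subgroup (MulAut P)} (hmax : ∀ Q : Subgroup (MulAut P), Q ≤ G → IsPGroup p Q → Nat.card Q ≤ p)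
    {u v : MulAut P} {Z H : Subgroup P} {e f : P} (hu : IsTv p u Z e) (hv : IsTv p v H f) (huG : u ∈ G) (hvG : v ∈ G)
    (he : e ∈ H) : v ∈ Subgroup.zpowers u := by
  -- `v u v⁻¹` commutes with `u`
  have h1 := hu.conj v
  have hve : v e = e := hv.fix e he
  rw [hve] at h1
  have hA : ∀ x, u x * x⁻¹ ∈ Subgroup.zpowers e := fun x => by
    obtain ⟨i, hi⟩ := hu.comm x
    rw [hi, mul_comm x, mul_inv_cancel_right]
    exact Subgroup.zpow_mem _ (Subgroup.mem_zpowers e) i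
  have hB : ∀ x, (v * u * v⁻¹) x * x⁻¹ ∈ Subgroup.zpowers e := fun x => by
    obtain ⟨i, hi⟩ := h1.comm x
    rw [hi, mul_comm x, mul_inv_cancel_right]
    exact Subgroup.zpow_mem _ (Subgroup.mem_zpowers e) i
  have hc : (v * u * v⁻¹) * u = u * (v * u * v⁻¹) := by
    refine comm_of hB hA ?_ ?_
    · intro b hb
      obtain ⟨i, rfl⟩ := Subgroup.mem_zpowers_iff.mp hb
      rw [map_zpow, h1.fix e h1.mem]
    · intro b hb
      obtain ⟨i, rfl⟩ := Subgroup.mem_zpowers_iff.mp hb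
      rw [map_zpow, hu.fix e hu.mem]
  have h2 : v * u * v⁻¹ ∈ Subgroup.zpowers u := by
    refine mem_zpowers_of_comm hmax huG (G.mul_mem (G.mul_mem hvG huG) (G.inv_mem hvG)) hu.order h1.isPGroup ?_
    rw [hc, mul_inv_cancel_right]
    exact Subgroup.mem_zpowers u
  exact mem_zpowers_of_comm hmax huG hvG hu.order hv.isPGroup h2

theorem IsTv.axis_eq_of_mem {u v : MulAut P} {Z H : Subgroup P} {e f : P} (hu : IsTv p u Z e) (hv : IsTv p v H f)
    (h : v ∈ Subgroup.zpowers u) : Z = H := by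
  have h1 : Z ≤ H := by
    intro z hz
    rw [hv.mem_iff]
    obtain ⟨i, rfl⟩ := Subgroup.mem_zpowers_iff.mp h
    have : ∀ n : ℕ, (u ^ n) z = z := by
      intro n
      induction n with
      | zero => rfl
      | succ n ih => rw [pow_succ]; change (u ^ n) (u z) = z; rw [hu.fix z hz, ih]
    obtain ⟨n, hn⟩ : ∃ n : ℕ, u ^ i = u ^ n := by
      obtain ⟨n, hn⟩ := (Submonoid.mem_powers_iff _ _).mp ((mem_powers_iff_mem_zpowers (x := u)).mpr ⟨i, rfl⟩)
      exact ⟨n, hn.symm⟩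
    rw [hn]; exact this n
  exact Subgroup.eq_of_le_of_card_ge h1 (by
    have h2 := Z.card_mul_index
    have h3 := H.card_mul_index
    rw [hu.ind] at h2; rw [hv.ind] at h3
    have := hp.out.pos
    nlinarith)

end A

end Cfsg.Agent.L0.Fus.Ess
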