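import Cfsg.Agent.L0.Fus.Ess9

/-!
Extended form of `tv2`.
-/

set_option autoImplicit false
set_option maxHeartbeats 1000000

namespace Cfsg.Agent.L0.Fus.Ess

section A
variable {P : Type*} [CommGroup P] [Finite P] {p : ℕ} [hp : Fact p.Prime]

theorem IsTv.center_mem {u v : MulAut P} {Z H : Subgroup P} {e f : P} (hu : IsTv p u Z e) (hv : IsTv p v H f) (hf : f ^ p = 1)
    (h : v ∈ Subgroup.zpowers u) : f ∈ Subgroup.zpowers e := by
  obtain ⟨y, hy⟩ : ∃ y : P, y ∉ H := by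
    by_contra hcon
    push Not at hcon
    have : H = ⊤ := top_le_iff.mp fun x _ => hcon x
    have h2 := hv.ind
    rw [this, Subgroup.index_top] at h2
    exact hp.out.one_lt.ne h2
  obtain ⟨a, ha⟩ := hv.comm y
  have hfa : f ^ a ≠ 1 := by
    intro h1
    rw [h1, mul_one] at ha
    exact hv.ne_axis_elt hy ha
  obtain ⟨n, hn⟩ := exists_pow_eq hf (Subgroup.zpow_mem _ (Subgroup.mem_zpowers f) a) hfa (Subgroup.mem_zpowers f)
  have h1 : v (y ^ n) = y ^ n * f := by rw [map_pow, ha, mul_pow, hn]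
  obtain ⟨m, hm⟩ : ∃ m : ℕ, v = u ^ m := by
    obtain ⟨m, hm⟩ := (Submonoid.mem_powers_iff _ _).mp ((mem_powers_iff_mem_zpowers (x := u)).mpr h)
    exact ⟨m, hm.symm⟩
  obtain ⟨b, hb⟩ := hu.comm (y ^ n)
  have hue : u (e ^ b) = e ^ b := by rw [map_zpow, hu.fix e hu.mem]
  have h2 := pow_apply_of_fix hb hue m
  rw [← hm, h1] at h2
  have h3 : f = (e ^ b) ^ m := mul_left_cancel h2
  rw [h3]
  exact Subgroup.pow_mem _ (Subgroup.zpow_mem _ (Subgroup.mem_zpowers e) b) m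

theorem tv2v {G : Subgroup (MulAut P)} (hmax : ∀ Q : Subgroup (MulAut P), Q ≤ G → IsPGroup p Q → Nat.card Q ≤ p)
    {t : MulAut P} (ht : t ∈ G) {Z : Subgroup P} {e : P} (hu : IsTv p t Z e) (he : e ^ p = 1)
    (hZG : ¬ ∀ g ∈ G, ∀ z ∈ Z, g z ∈ Z) :
    ∃ (C : Subgroup P) (f : P) (h : MulAut P), C ≤ Z ∧ e ∉ C ∧ f ∉ Z ∧ f ^ p = 1 ∧ (∀ z ∈ Z, ∃ c ∈ C, ∃ i : ℤ, z = e ^ i * c) ∧
      (∀ x, ∃ c ∈ C, ∃ i j : ℤ, x = f ^ j * (e ^ i * c)) ∧ (∀ g ∈ G, ∀ c ∈ C, g c ∈ C) ∧ h ∈ G ∧ h * t = t * h ∧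
      (∀ c ∈ C, h c = c) ∧ h e = e⁻¹ ∧ h f = f⁻¹ ∧ (∀ k ∈ G, ∃ i j : ℤ, k e = f ^ j * e ^ i) ∧ (∃ g ∈ G, g e = f) := by
  push Not at hZG
  obtain ⟨g, hg, z0, hz0, hgz0⟩ := hZG
  have hv := hu.conj g
  set s := g * t * g⁻¹ with hs
  set f := g e with hf
  set H := Z.map g.toMonoidHom with hH
  have hsG : s ∈ G := G.mul_mem (G.mul_mem hg ht) (G.inv_mem hg)
  have hne : Z ≠ H := by
    intro h
    apply hgz0
    rw [h]
    exact ⟨z0, hz0, rfl⟩
  have heH : e ∉ H := fun h => hne (hu.axis_eq_of_mem hv (hu.claim hmax hv ht hsG h))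
  have hfZ : f ∉ Z := fun h => hne (hv.axis_eq_of_mem hu (hv.claim hmax hu hsG ht h)).symm
  have hfp : f ^ p = 1 := by rw [hf, ← map_pow, he, map_one]
  have hdz : ∀ z ∈ Z, ∃ c ∈ Z ⊓ H, ∃ i : ℤ, z = e ^ i * c := by
    intro z hz
    obtain ⟨i, c, hc, rfl⟩ := exists_zpow_mul hv.ind heH z
    exact ⟨c, Subgroup.mem_inf.mpr ⟨(Subgroup.mul_mem_cancel_left Z (Z.zpow_mem hu.mem i)).mp hz, hc⟩, i, rfl⟩
  have hdx : ∀ x, ∃ c ∈ Z ⊓ H, ∃ i j : ℤ, x = f ^ j * (e ^ i * c) := by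
    intro x
    obtain ⟨j, z, hz, rfl⟩ := exists_zpow_mul hu.ind hfZ x
    obtain ⟨c, hc, i, rfl⟩ := hdz z hz
    exact ⟨c, hc, i, j, rfl⟩
  obtain ⟨a, ha⟩ := hu.comm f
  obtain ⟨b, hb⟩ := hv.comm e
  have hea : e ^ a ≠ 1 := by
    intro h
    rw [h, mul_one] at ha
    exact hu.ne_axis_elt hfZ ha
  have hfb : f ^ b ≠ 1 := by
    intro h
    rw [h, mul_one] at hb
    exact hv.ne_axis_elt heH hb
  obtain ⟨n, hn⟩ := exists_pow_eq he (Subgroup.zpow_mem _ (Subgroup.mem_zpowers e) a) hea (Subgroup.mem_zpowers e)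
  obtain ⟨m, hm⟩ := exists_pow_eq hfp (Subgroup.zpow_mem _ (Subgroup.mem_zpowers f) b) hfb
    (Subgroup.inv_mem _ (Subgroup.mem_zpowers f))
  have hte : t e = e := hu.fix e hu.mem
  have hsf : s f = f := hv.fix f hv.mem
  have ht'f : (t ^ n) f = f * e := by
    rw [pow_apply_of_fix ha (by rw [map_zpow, hte]) n, hn]
  have hs'e : (s ^ m) e = e * f⁻¹ := by
    rw [pow_apply_of_fix hb (by rw [map_zpow, hsf]) m, hm]
  set t' := t ^ n with ht'
  set s' := s ^ m with hs'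
  have ht'e : t' e = e := pow_apply_fix hte n
  have hs'f : s' f = f := pow_apply_fix hsf m
  have ht'c : ∀ c ∈ Z ⊓ H, t' c = c := fun c hc => pow_apply_fix (hu.fix c (Subgroup.mem_inf.mp hc).1) n
  have hs'c : ∀ c ∈ Z ⊓ H, s' c = c := fun c hc => pow_apply_fix (hv.fix c (Subgroup.mem_inf.mp hc).2) m
  have ht'G : t' ∈ G := G.pow_mem ht n
  have hs'G : s' ∈ G := G.pow_mem hsG m
  set w := t' * s' * t' with hw
  have hwe : w e = f⁻¹ := by
    change t' (s' (t' e)) = _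
    rw [ht'e, hs'e, map_mul, ht'e, map_inv, ht'f, mul_inv_rev]; group
  have hwf : w f = e := by
    change t' (s' (t' f)) = _
    rw [ht'f, map_mul, hs'f, hs'e, mul_comm e, mul_inv_cancel_left, ht'e]
  have hwc : ∀ c ∈ Z ⊓ H, w c = c := by
    intro c hc
    change t' (s' (t' c)) = _
    rw [ht'c c hc, hs'c c hc, ht'c c hc]
  have hhe : (w * w) e = e⁻¹ := by
    change w (w e) = _
    rw [hwe, map_inv, hwf]
  have hhf : (w * w) f = f⁻¹ := by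
    change w (w f) = _
    rw [hwf, hwe]
  have hhc : ∀ c ∈ Z ⊓ H, (w * w) c = c := by
    intro c hc
    change w (w c) = _
    rw [hwc c hc, hwc c hc]
  have hwG : w ∈ G := G.mul_mem (G.mul_mem ht'G hs'G) ht'G
  have hCk : ∀ k ∈ G, Z ⊓ H ≤ Z.map k.toMonoidHom := by
    intro k hk
    have hq := hu.conj k
    have hqG : k * t * k⁻¹ ∈ G := G.mul_mem (G.mul_mem hk ht) (G.inv_mem hk)
    by_cases hek : e ∈ Z.map k.toMonoidHom
    · rw [← hu.axis_eq_of_mem hq (hu.claim hmax hq ht hqG hek)]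
      exact inf_le_left
    · obtain ⟨i, h', hh', hfi⟩ := exists_zpow_mul hq.ind hek f
      have hei : e ≠ 1 := fun h => hek (h ▸ Subgroup.one_mem _)
      obtain ⟨r, hr⟩ := exists_pow_eq he (Subgroup.mem_zpowers e) hei (Subgroup.zpow_mem _ (Subgroup.mem_zpowers e) (-i))
      have hqu := hv.conj (t' ^ r)
      have h1 : (t' ^ r) f = h' := by
        rw [pow_apply_of_fix ht'f ht'e r, hr, hfi]
        rw [mul_comm, zpow_neg, inv_mul_cancel_left]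
      rw [h1] at hqu
      have hquG : t' ^ r * s * (t' ^ r)⁻¹ ∈ G := G.mul_mem (G.mul_mem (G.pow_mem ht'G r) hsG) (G.inv_mem (G.pow_mem ht'G r))
      rw [← hqu.axis_eq_of_mem hq (hqu.claim hmax hq hquG hqG hh')]
      intro c hc
      exact ⟨c, (Subgroup.mem_inf.mp hc).2, pow_apply_fix (ht'c c hc) r⟩
  have hVk : ∀ k ∈ G, ∃ i j : ℤ, k e = f ^ j * e ^ i := by
    intro k hk
    have hq := hu.conj k
    have hqG : k * t * k⁻¹ ∈ G := G.mul_mem (G.mul_mem hk ht) (G.inv_mem hk)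
    have hkp : (k e) ^ p = 1 := by rw [← map_pow, he, map_one]
    by_cases hek : e ∈ Z.map k.toMonoidHom
    · obtain ⟨i, hi⟩ := Subgroup.mem_zpowers_iff.mp (hu.center_mem hq hkp (hu.claim hmax hq ht hqG hek))
      exact ⟨i, 0, by rw [zpow_zero, one_mul, hi]⟩
    · obtain ⟨i, h', hh', hfi⟩ := exists_zpow_mul hq.ind hek f
      have hei : e ≠ 1 := fun h => hek (h ▸ Subgroup.one_mem _)
      obtain ⟨r, hr⟩ := exists_pow_eq he (Subgroup.mem_zpowers e) hei (Subgroup.zpow_mem _ (Subgroup.mem_zpowers e) (-i))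
      have hqu := hv.conj (t' ^ r)
      have h1 : (t' ^ r) f = h' := by
        rw [pow_apply_of_fix ht'f ht'e r, hr, hfi]
        rw [mul_comm, zpow_neg, inv_mul_cancel_left]
      have h2 : h' = f * e ^ r := by rw [← h1, pow_apply_of_fix ht'f ht'e r]
      rw [h1] at hqu
      have hquG : t' ^ r * s * (t' ^ r)⁻¹ ∈ G := G.mul_mem (G.mul_mem (G.pow_mem ht'G r) hsG) (G.inv_mem (G.pow_mem ht'G r))
      obtain ⟨m, hm⟩ := Subgroup.mem_zpowers_iff.mp (hqu.center_mem hq hkp (hqu.claim hmax hq hquG hqG hh'))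
      refine ⟨r * m, m, ?_⟩
      rw [← hm, h2, mul_zpow, zpow_mul, zpow_natCast]
  refine ⟨Z ⊓ H, f, w * w, inf_le_left, fun h => heH (Subgroup.mem_inf.mp h).2, hfZ, hfp, hdz, hdx, ?_, G.mul_mem hwG hwG, ?_, hhc,
    hhe, hhf, hVk, g, hg, rfl⟩
  · intro k hk c hc
    refine Subgroup.mem_inf.mpr ⟨?_, ?_⟩
    · obtain ⟨z, hz, hzc⟩ := hCk k⁻¹ (G.inv_mem hk) hc
      rw [← hzc]
      change k (k⁻¹ z) ∈ Z
      rwa [MulAut.apply_inv_self]
    · obtain ⟨z, hz, hzc⟩ := hCk (k⁻¹ * g) (G.mul_mem (G.inv_mem hk) hg) hc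
      rw [← hzc]
      change k (k⁻¹ (g z)) ∈ H
      rw [MulAut.apply_inv_self]
      exact ⟨z, hz, rfl⟩
  · ext x
    obtain ⟨c, hc, i, j, rfl⟩ := hdx x
    change (w * w) (t (f ^ j * (e ^ i * c))) = t ((w * w) (f ^ j * (e ^ i * c)))
    have htc : t c = c := hu.fix c (Subgroup.mem_inf.mp hc).1
    simp only [map_mul, map_zpow, ha, hte, htc, hhe, hhf, hhc c hc, map_inv]
    simp only [mul_zpow, mul_inv_rev, inv_zpow', zpow_neg, mul_inv, inv_inv, ← zpow_mul]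
    rw [mul_comm (f ^ j)⁻¹]

end A

end Cfsg.Agent.L0.Fus.Ess
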