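import Cfsg.Agent.L0.Fus.Ess10

/-!
`p`-groups with centre of index `p ^ 2`.
-/

set_option autoImplicit false
set_option maxHeartbeats 1000000

open Pointwise
open scoped commutatorElement

namespace Cfsg.Agent.L0.Fus.Ess
open Cfsg.Agent.L0 Cfsg.FusionSystem

variable {Ω : Type*} [Group Ω] {S A P R : Subgroup Ω} [Finite S] {p : ℕ} [hp : Fact p.Prime] {F : FusionSystem S}

/-- the output of `tv2` for an abelian essential subgroup `P` with `Z(S)` of index `p` in `P` and `|Aut_S(P)| = p`, given an element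
`a` of `N_S(P)` acting nontrivially with commutators in `⟨e⟩ ≤ Z(S)`. -/
theorem tv2v_fus (hS : IsPGroup p S) (hF : F.IsSaturated p) (hP : F.IsEssential p P) (hPab : ∀ x ∈ P, ∀ y ∈ P, x * y = y * x)
    (hZi : (Zc S).relIndex P = p) (hT : Nat.card (autInducedBy S P) = p) {a x : Ω} (ha : a ∈ S) (han : a ∈ Subgroup.normalizer (P : Set Ω))
    (haP : a ∉ P) (hxP : x ∈ P) (hxZ : x ∉ Zc S) (he : a * x * a⁻¹ * x⁻¹ ∈ Zc S) (hep : (a * x * a⁻¹ * x⁻¹) ^ p = 1)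
    (hcom : ∀ u ∈ P, a * u * a⁻¹ * u⁻¹ ∈ Zc S) :
    ∃ (C : Subgroup Ω) (f : Ω), C ≤ Zc S ∧ (a * x * a⁻¹ * x⁻¹) ∉ C ∧ f ∈ P ∧ f ∉ Zc S ∧ f ^ p = 1 ∧
      (∀ z ∈ Zc S, ∃ c ∈ C, ∃ i : ℤ, z = (a * x * a⁻¹ * x⁻¹) ^ i * c) ∧
      (∀ u ∈ P, ∃ c ∈ C, ∃ i j : ℤ, u = f ^ j * ((a * x * a⁻¹ * x⁻¹) ^ i * c)) ∧
      (∀ β ∈ F.autGroup P, ∀ c ∈ C, ac β c ∈ C) ∧
      (∀ β ∈ F.autGroup P, ∃ i j : ℤ, ac β (a * x * a⁻¹ * x⁻¹) = f ^ j * (a * x * a⁻¹ * x⁻¹) ^ i) ∧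
      (∃ β ∈ F.autGroup P, ac β (a * x * a⁻¹ * x⁻¹) = f) ∧
      ∃ φ ∈ F.autGroup P, (∀ t ∈ autInducedBy S P, φ * t * φ⁻¹ = t) ∧ (∀ c ∈ C, ac φ c = c) ∧
        ac φ (a * x * a⁻¹ * x⁻¹) = (a * x * a⁻¹ * x⁻¹)⁻¹ := by
  have hPS := hP.1.1
  haveI := finite_of_le hPS
  haveI := finite_autGroup (S := S) hPS
  obtain ⟨hPc, hPr⟩ := essential_centric_radical hS hP
  have hcP : centralizerIn S P ≤ P := hPc.2 P (isConj_refl hPS)
  have hZP : Zc S ≤ P := by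
    intro z hz
    refine hcP (Subgroup.mem_inf.mpr ⟨(mem_Zc.mp hz).1, ?_⟩)
    rw [Subgroup.mem_centralizer_iff]
    exact fun y hy => (mem_Zc.mp hz).2 y (hPS hy)
  set e0 : Ω := a * x * a⁻¹ * x⁻¹ with he0
  letI : CommGroup P := { (inferInstance : Group P) with mul_comm := fun a b => Subtype.ext (hPab a a.2 b b.2) }
  set t : MulAut P := P.normalizerMonoidHom ⟨a, han⟩ with ht
  have htx : ∀ u : P, ((t u : P) : Ω) = a * u * a⁻¹ := fun u => rfl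
  have htT : t ∈ autInducedBy S P := mem_autInducedBy.mpr ⟨a, ha, fun u => rfl⟩
  have htG := autInducedBy_le_autGroup F hPS htT
  set Z' : Subgroup P := (Zc S).subgroupOf P with hZ'
  set e : P := ⟨e0, hZP he⟩ with hedef
  have htfix : ∀ z ∈ Z', t z = z := by
    intro z hz
    have hz' : (z : Ω) ∈ Zc S := hz
    apply Subtype.ext
    rw [htx, (mem_Zc.mp hz').2 a ha, mul_inv_cancel_right]
  have hx' : (⟨x, hxP⟩ : P) ∉ Z' := hxZ
  have htxe : t ⟨x, hxP⟩ = ⟨x, hxP⟩ * e := by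
    rw [mul_comm]
    apply Subtype.ext
    rw [htx]
    change a * x * a⁻¹ = e0 * x
    rw [he0]; group
  have he1 : e ≠ 1 := by
    intro h1
    rw [h1, mul_one] at htxe
    -- then `t = 1`
    have htr : t = 1 := by
      ext u
      obtain ⟨i, z, hz, rfl⟩ := exists_zpow_mul (H := Z') hZi hx' u
      rw [map_mul, map_zpow, htxe, htfix z hz]; rfl
    apply haP
    apply hcP
    refine Subgroup.mem_inf.mpr ⟨ha, ?_⟩
    rw [Subgroup.mem_centralizer_iff]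
    intro y hy
    have h2 := htx ⟨y, hy⟩
    rw [htr] at h2
    change y = a * y * a⁻¹ at h2
    calc y * a = (a * y * a⁻¹) * a := by rw [← h2]
      _ = a * y := by group
  have hep' : e ^ p = 1 := Subtype.ext hep
  have hte : t e = e := htfix e he
  have htcomm : ∀ u : P, ∃ i : ℤ, t u = u * e ^ i := by
    intro u
    obtain ⟨i, z, hz, rfl⟩ := exists_zpow_mul (H := Z') hZi hx' u
    refine ⟨i, ?_⟩
    rw [map_mul, map_zpow, htxe, htfix z hz, mul_zpow, mul_assoc, mul_comm (e ^ i), mul_assoc]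
  have htp : t ^ p = 1 := by
    ext u
    obtain ⟨i, z, hz, rfl⟩ := exists_zpow_mul (H := Z') hZi hx' u
    rw [map_mul, map_zpow, pow_apply_of_fix htxe hte, hep', mul_one, pow_apply_fix (htfix z hz)]; rfl
  have hu : IsTv p t Z' e := ⟨htfix, htcomm, he, hZi, by
    intro h1
    rw [h1] at htxe
    apply he1
    have : (⟨x, hxP⟩ : P) = ⟨x, hxP⟩ * e := htxe
    exact (mul_eq_left.mp this.symm), htp⟩
  have hmax := card_le_of_automized hS hF hP.2.1 hT.le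
  have hZG : ¬ ∀ g ∈ F.autGroup P, ∀ z ∈ Z', g z ∈ Z' := by
    intro hinv
    apply haP
    refine mem_of_trivial_chain hS hPc hPr hZP ?_ ha han ?_ hcom
    · intro β hβ z hz
      have := hinv β hβ ⟨z, hZP hz⟩ hz
      rw [ac_apply _ (hZP hz)]
      exact this
    · intro z hz
      rw [(mem_Zc.mp hz).2 a ha, mul_inv_cancel_right]
  obtain ⟨C, f, φ, hCZ, heC, hfZ, hfp, hdz, hdx, hCi, hφ, hφt, hφc, hφe, hφf, hV, g1, hg1, hg1e⟩ := tv2v hmax htG hu hep' hZG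
  have hTt : ∀ s ∈ autInducedBy S P, φ * s * φ⁻¹ = s := by
    intro s hs
    have h1 : autInducedBy S P = Subgroup.zpowers t := by
      refine (Subgroup.eq_of_le_of_card_ge (by rwa [Subgroup.zpowers_le]) ?_).symm
      rw [hT, Nat.card_zpowers, hu.order]
    rw [h1] at hs
    obtain ⟨i, rfl⟩ := Subgroup.mem_zpowers_iff.mp hs
    have h2 : Commute φ t := hφt
    rw [(h2.zpow_right i).eq, mul_inv_cancel_right]
  have hV' : ∀ β ∈ F.autGroup P, ∃ i j : ℤ, ac β e0 = (f : Ω) ^ j * e0 ^ i := by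
    intro β hβ
    obtain ⟨i, j, hij⟩ := hV β hβ
    refine ⟨i, j, ?_⟩
    rw [ac_apply β (hZP he)]
    exact congrArg Subtype.val hij
  have hV'' : ∃ β ∈ F.autGroup P, ac β e0 = f := by
    refine ⟨g1, hg1, ?_⟩
    rw [ac_apply g1 (hZP he)]
    exact congrArg Subtype.val hg1e
  refine ⟨C.map P.subtype, f, ?_, ?_, f.2, hfZ, congrArg Subtype.val hfp, ?_, ?_, ?_, hV', hV'', φ, hφ, hTt, ?_, ?_⟩
  · rintro _ ⟨c, hc, rfl⟩
    exact hCZ hc
  · rintro ⟨c, hc, hce⟩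
    apply heC
    have : c = e := Subtype.ext hce
    rwa [← this]
  · intro z hz
    obtain ⟨c, hc, i, hi⟩ := hdz ⟨z, hZP hz⟩ hz
    exact ⟨c, ⟨c, hc, rfl⟩, i, congrArg Subtype.val hi⟩
  · intro u hu
    obtain ⟨c, hc, i, j, hi⟩ := hdx ⟨u, hu⟩
    exact ⟨c, ⟨c, hc, rfl⟩, i, j, congrArg Subtype.val hi⟩
  · rintro β hβ _ ⟨c, hc, rfl⟩
    exact ⟨β c, hCi β hβ c hc, (ac_apply β c.2).symm⟩
  · rintro _ ⟨c, hc, rfl⟩
    change ac φ (c : Ω) = c
    rw [ac_apply φ c.2]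
    exact congrArg Subtype.val (hφc c hc)
  · rw [ac_apply φ (hZP he)]
    exact congrArg Subtype.val hφe


/-- centre of index `p ^ 2` -/
structure SQ (S : Subgroup Ω) (p : ℕ) : Prop where
  cl : ∀ s ∈ S, ∀ t ∈ S, s * t * s⁻¹ * t⁻¹ ∈ Zc S
  idx : (Zc S).relIndex S = p ^ 2
  na : ¬ ∀ x ∈ S, ∀ y ∈ S, x * y = y * x

omit [Finite S] in
theorem gen_of_index {N H : Subgroup Ω} (hNH : N ≤ H) (hn : ∀ h ∈ H, ∀ n ∈ N, h * n = n * h) (hi : N.relIndex H = p) {y : Ω}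
    (hy : y ∈ H) (hyN : y ∉ N) {u : Ω} (hu : u ∈ H) : ∃ i : ℤ, ∃ n ∈ N, u = y ^ i * n := by
  haveI : (N.subgroupOf H).Normal := ⟨fun a ha s => by
    have ha' : (a : Ω) ∈ N := ha
    change (s : Ω) * a * (s : Ω)⁻¹ ∈ N
    rw [hn s s.2 a ha', mul_inv_cancel_right]
    exact ha'⟩
  have hc : Nat.card (H ⧸ N.subgroupOf H) = p := hi
  have h1 : (QuotientGroup.mk ⟨y, hy⟩ : H ⧸ N.subgroupOf H) ≠ 1 := fun h =>
    hyN ((QuotientGroup.eq_one_iff (N := N.subgroupOf H) (⟨y, hy⟩ : H)).mp h)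
  have h2 : (QuotientGroup.mk ⟨u, hu⟩ : H ⧸ N.subgroupOf H) ∈ Subgroup.zpowers (QuotientGroup.mk ⟨y, hy⟩ : H ⧸ N.subgroupOf H) := by
    rw [zpowers_eq_top_of_prime_card hc h1]; trivial
  obtain ⟨i, hi⟩ := Subgroup.mem_zpowers_iff.mp h2
  refine ⟨i, (y ^ i)⁻¹ * u, ?_, by group⟩
  have h3 : (⟨y, hy⟩ ^ i : H)⁻¹ * ⟨u, hu⟩ ∈ N.subgroupOf H := by
    rw [← QuotientGroup.eq, ← hi]; rfl
  exact h3

omit [Finite S] in
theorem ab_of_index {H : Subgroup Ω} (hH : H ≤ S) (hZH : Zc S ≤ H) (hi : (Zc S).relIndex H = p) :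
    ∀ u ∈ H, ∀ v ∈ H, u * v = v * u := by
  have hn : ∀ h ∈ H, ∀ n ∈ Zc S, h * n = n * h := fun h hh n hn => (mem_Zc.mp hn).2 h (hH hh)
  obtain ⟨y, hy, hyN⟩ : ∃ y ∈ H, y ∉ Zc S := by
    by_contra hcon
    push Not at hcon
    rw [Subgroup.relIndex_eq_one.mpr hcon] at hi
    exact hp.out.one_lt.ne hi
  intro u hu v hv
  obtain ⟨i, a, ha, rfl⟩ := gen_of_index hZH hn hi hy hyN hu
  obtain ⟨j, b, hb, rfl⟩ := gen_of_index hZH hn hi hy hyN hv
  have ca : ∀ s ∈ S, Commute a s := fun s hs => ((mem_Zc.mp ha).2 s hs).symm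
  have cb : ∀ s ∈ S, Commute b s := fun s hs => ((mem_Zc.mp hb).2 s hs).symm
  have h1 : Commute (y ^ i) (y ^ j) := (Commute.refl y).zpow_zpow i j
  have hxi := S.zpow_mem (hH hy) i
  have hxj := S.zpow_mem (hH hy) j
  exact ((h1.mul_right (cb _ hxi).symm).mul_left ((ca _ hxj).mul_right (ca b (mem_Zc.mp hb).1))).eq

theorem ess_sq (hS : IsPGroup p S) (hF : F.IsSaturated p) (hQ : SQ S p) (hP : F.IsEssential p P) :
    Zc S ≤ P ∧ (Zc S).relIndex P = p ∧ AD S P p := by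
  have hPS := hP.1.1
  have hcP : centralizerIn S P ≤ P := hP.1.2 P (isConj_refl hPS)
  have hlt := essential_lt hS hF hP
  have hZP : Zc S ≤ P := by
    intro z hz
    refine hcP (Subgroup.mem_inf.mpr ⟨(mem_Zc.mp hz).1, ?_⟩)
    rw [Subgroup.mem_centralizer_iff]
    exact fun y hy => (mem_Zc.mp hz).2 y (hPS hy)
  have h1 := Subgroup.relIndex_mul_relIndex (Zc S) P S hZP hPS
  rw [hQ.idx] at h1
  have hd1 : (Zc S).relIndex P ∣ p ^ 2 := Dvd.intro _ h1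
  obtain ⟨k, hk, hke⟩ := (Nat.dvd_prime_pow hp.out).mp hd1
  have hk0 : k ≠ 0 := by
    rintro rfl
    rw [pow_zero, Subgroup.relIndex_eq_one] at hke
    apply hlt.not_ge
    intro s hs
    apply hcP
    refine Subgroup.mem_inf.mpr ⟨hs, ?_⟩
    rw [Subgroup.mem_centralizer_iff]
    exact fun y hy => ((mem_Zc.mp (hke hy)).2 s hs).symm
  have hk2 : k ≠ 2 := by
    rintro rfl
    rw [hke] at h1
    have h2 : P.relIndex S = 1 := by
      have : p ^ 2 * P.relIndex S = p ^ 2 * 1 := by rw [h1, mul_one]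
      exact Nat.eq_of_mul_eq_mul_left (pow_pos hp.out.pos 2) this
    exact hlt.not_ge (Subgroup.relIndex_eq_one.mp h2)
  obtain rfl : k = 1 := by omega
  rw [pow_one] at hke
  have hPi : P.relIndex S = p := by
    rw [hke, pow_two] at h1
    exact Nat.eq_of_mul_eq_mul_left hp.out.pos h1
  exact ⟨hZP, hke, AD.mk' hS hPS (ab_of_index hPS hZP hke) hPi⟩

theorem lemma_Q (hS : IsPGroup p S) (hF : F.IsSaturated p) (hQ : SQ S p) (hP : F.IsEssential p P) :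
    ∃ (C : Subgroup Ω) (e f : Ω) (γ : MulAut S), Dat F p ((commutator ↥S).map S.subtype) C e γ ∧ f ∈ P ∧ f ∉ Zc S ∧ f ^ p = 1 ∧
      (∀ u ∈ P, ∃ c ∈ C, ∃ i j : ℤ, u = f ^ j * (e ^ i * c)) ∧ (∀ β ∈ F.autGroup P, ∀ c ∈ C, ac β c ∈ C) ∧
      (∀ β ∈ F.autGroup P, ∃ i j : ℤ, ac β e = f ^ j * e ^ i) ∧ (∃ β ∈ F.autGroup P, ac β e = f) := by
  have hPS := hP.1.1
  haveI := finite_of_le hPS
  obtain ⟨hZP, hZi, hAD⟩ := ess_sq hS hF hQ hP
  have hlt := essential_lt hS hF hP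
  have hcP : centralizerIn S P ≤ P := hP.1.2 P (isConj_refl hPS)
  obtain ⟨a, ha, haP⟩ := Set.not_subset.mp hlt.not_ge
  have haS : a ∈ S := ha
  obtain ⟨x, hxP, hxZ⟩ : ∃ x ∈ P, x ∉ Zc S := by
    by_contra hcon
    push Not at hcon
    rw [Subgroup.relIndex_eq_one.mpr hcon] at hZi
    exact hp.out.one_lt.ne hZi
  have hNS : normalizerIn S P = S := by
    refine le_antisymm inf_le_left fun s hs => Subgroup.mem_inf.mpr ⟨hs, ?_⟩
    exact Subgroup.mem_normalizer_fintype fun u hu => hAD.nor s hs u hu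
  have han : a ∈ Subgroup.normalizer (P : Set Ω) := by
    have : a ∈ normalizerIn S P := by rw [hNS]; exact haS
    exact (Subgroup.mem_inf.mp this).2
  have hcen : centralizerIn S P = P := by
    refine le_antisymm hcP fun u hu => Subgroup.mem_inf.mpr ⟨hPS hu, ?_⟩
    rw [Subgroup.mem_centralizer_iff]
    exact fun y hy => hAD.ab y hy u hu
  have hT : Nat.card (autInducedBy S P) = p := by
    have h4 : Nat.card (autInducedBy S P) * Nat.card P = Nat.card (normalizerIn S P) := by rw [card_normalizerIn, hcen]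
    rw [hNS, ← card_mul_relIndex' hPS, hAD.idx, mul_comm (Nat.card P)] at h4
    exact Nat.eq_of_mul_eq_mul_right Nat.card_pos h4
  set e := a * x * a⁻¹ * x⁻¹ with he
  have heZ : e ∈ Zc S := hQ.cl a haS x (hPS hxP)
  have hxp : x ^ p ∈ Zc S := by
    haveI : ((Zc S).subgroupOf P).Normal := ⟨fun b hb s => by
      have hb' : (b : Ω) ∈ Zc S := hb
      change (s : Ω) * b * (s : Ω)⁻¹ ∈ Zc S
      rw [(mem_Zc.mp hb').2 s (hPS s.2), mul_inv_cancel_right]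
      exact hb'⟩
    have h5 := Subgroup.pow_index_mem ((Zc S).subgroupOf P) ⟨x, hxP⟩
    have h6 : ((Zc S).subgroupOf P).index = p := hZi
    rw [h6] at h5
    exact h5
  have hep : e ^ p = 1 := by
    have h5 : (e * x) ^ p = x ^ p := by
      have h6 : e * x = a * x * a⁻¹ := by rw [he]; group
      rw [h6, conj_pow, (mem_Zc.mp hxp).2 a haS, mul_inv_cancel_right]
    have h7 : Commute e x := ((mem_Zc.mp heZ).2 x (hPS hxP)).symm
    rw [h7.mul_pow] at h5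
    exact mul_eq_right.mp h5
  obtain ⟨C, f, hCZ, heC, hfP, hfZ, hfp, hdz, hdx, hCi, hV, hV2, φ, hφ, hφT, hφc, hφe⟩ :=
    tv2v_fus hS hF hP hAD.ab hZi hT haS han haP hxP hxZ heZ hep (fun u hu => hQ.cl a haS u (hPS hu))
  obtain ⟨g, N', hg, hgx⟩ := exists_ext_norm (receptive_of_fullyNormalized_sat hS hF hP.2.1) hφ
    (fun t ht => by rw [hφT t ht]; exact ht)
  rw [hNS] at hg
  have hN' : N' = S := Subgroup.eq_of_le_of_card_ge hg.le' hg.card.le
  rw [hN'] at hg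
  obtain ⟨γ, hγ, hγe⟩ := hg.aut
  refine ⟨C, e, f, γ, ⟨hCZ, heZ, heC, hep, ?_, hdz, hγ, ?_, ?_⟩, hfP, hfZ, hfp, hdx, hCi, hV, hV2⟩
  · rw [commutator_eq_kim hAD haS haP]
    apply le_antisymm
    · intro y hy
      obtain ⟨b, hb, -, rfl⟩ := (mem_kim hAD).mp hy
      obtain ⟨i, z, hz, rfl⟩ := gen_of_index hZP (fun h hh n hn => (mem_Zc.mp hn).2 h (hPS hh)) hZi hxP hxZ hb
      have h6 : x ^ i * z * a * (x ^ i * z)⁻¹ * a⁻¹ = (e ^ i)⁻¹ := by
        have h7 : a * x ^ i * a⁻¹ = e ^ i * x ^ i := by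
          have h8 : a * x * a⁻¹ = e * x := by rw [he]; group
          rw [← conj_zpow, h8]
          have h9 : Commute e x := ((mem_Zc.mp heZ).2 x (hPS hxP)).symm
          exact h9.mul_zpow i
        have hza : z * a = a * z := ((mem_Zc.mp hz).2 a haS).symm
        calc x ^ i * z * a * (x ^ i * z)⁻¹ * a⁻¹ = x ^ i * (z * a) * z⁻¹ * (x ^ i)⁻¹ * a⁻¹ := by group
          _ = x ^ i * (a * z) * z⁻¹ * (x ^ i)⁻¹ * a⁻¹ := by rw [hza]
          _ = x ^ i * (a * x ^ i * a⁻¹)⁻¹ := by group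
          _ = x ^ i * (e ^ i * x ^ i)⁻¹ := by rw [h7]
          _ = (e ^ i)⁻¹ := by group
      rw [h6]
      exact Subgroup.inv_mem _ (Subgroup.zpow_mem _ (Subgroup.mem_zpowers e) i)
    · rw [Subgroup.zpowers_le]
      have h6 : (x * a * x⁻¹ * a⁻¹)⁻¹ = e := by rw [he]; group
      rw [← h6]
      exact Subgroup.inv_mem _ ((mem_kim hAD).mpr ⟨x, hxP, hxP, rfl⟩)
  · intro c hc
    rw [hγe c (mem_Zc.mp (hCZ hc)).1, hgx c (hZP (hCZ hc)), hφc c hc]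
  · rw [hγe _ (mem_Zc.mp heZ).1, hgx _ (hZP heZ), hφe]

/-- the odd case -/
theorem sq_odd (hp2 : p ≠ 2) (hS : IsPGroup p S) (hF : F.IsSaturated p) (hQ : SQ S p) (hcore : F.core = ⊥) (hS1 : S ≠ ⊥) :
    ∃ (P : Subgroup Ω) (e f : Ω), F.IsEssential p P ∧ Zc S = Subgroup.zpowers e ∧ e ^ p = 1 ∧ e ≠ 1 ∧
      (commutator ↥S).map S.subtype = Zc S ∧ f ^ p = 1 ∧ (∀ u ∈ P, ∃ i j : ℤ, u = f ^ j * e ^ i) := by
  have hm : ∀ β : MulAut S, β ∈ F.autGroup S → Mi F S S (ac β) := fun β hβ => (mi_ac (F := F) (α := β) le_rfl).mpr hβ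
  obtain ⟨P, hP⟩ : ∃ P, F.IsEssential p P := by
    by_contra hcon
    push Not at hcon
    apply hS1
    rw [← le_bot_iff, ← hcore]
    apply le_core
    apply normal_of_essential hS hF
    rintro Q (rfl | hQ')
    · exact ⟨le_rfl, fun α hα x hx => (α x).2⟩
    · exact absurd hQ' (hcon Q)
  obtain ⟨C, e, f, γ, hD, hfP, hfZ, hfp, hdx, hCi, -, -⟩ := lemma_Q hS hF hQ hP
  have hZ0 : ∀ β ∈ F.autGroup S, ∀ z ∈ (commutator ↥S).map S.subtype, ac β z ∈ (commutator ↥S).map S.subtype := by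
    rintro β hβ _ ⟨w, hw, rfl⟩
    refine ⟨β w, ?_, ?_⟩
    · have h1 : (commutator S).map β.toMonoidHom = commutator S := Subgroup.characteristic_iff_map_eq.mp inferInstance β
      rw [← h1]
      exact ⟨w, hw, rfl⟩
    · exact (ac_apply β w.2).symm
  have hCinv := hD.invariant hp2 hS hF hZ0
  have hCn : F.IsNormal C := by
    apply normal_of_essential hS hF
    rintro Q (rfl | hQ')
    · exact ⟨hD.le.trans inf_le_left, fun α hα x hx => by rw [← ac_apply α x.2]; exact hCinv α hα _ hx⟩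
    · obtain ⟨hZQ, -, -⟩ := ess_sq hS hF hQ hQ'
      refine ⟨hD.le.trans hZQ, fun α hα y hy => ?_⟩
      rw [← ac_apply α y.2]
      obtain ⟨C', e', f', γ', hD', -, -, -, -, hCP', -, -⟩ := lemma_Q hS hF hQ hQ'
      have hCC : C = C' := le_antisymm (hD'.le_of hp2 hS hF hD) (hD.le_of hp2 hS hF hD')
      rw [hCC] at hy ⊢
      exact hCP' α hα _ hy
  have hC1 : C = ⊥ := by
    rw [← le_bot_iff, ← hcore]
    exact le_core hCn
  have hZe : Zc S = Subgroup.zpowers e := by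
    apply le_antisymm
    · intro z hz
      obtain ⟨c, hc, i, rfl⟩ := hD.dec z hz
      rw [hC1, Subgroup.mem_bot] at hc
      rw [hc, mul_one]
      exact Subgroup.zpow_mem _ (Subgroup.mem_zpowers e) i
    · rw [Subgroup.zpowers_le]; exact hD.mem
  refine ⟨P, e, f, hP, hZe, hD.pow, ?_, ?_, hfp, ?_⟩
  · intro h1
    exact hD.nmem (by rw [h1]; exact C.one_mem)
  · rw [hZe, hD.gen]
  · intro u hu
    obtain ⟨c, hc, i, j, rfl⟩ := hdx u hu
    rw [hC1, Subgroup.mem_bot] at hc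
    exact ⟨i, j, by rw [hc, mul_one]⟩

end Cfsg.Agent.L0.Fus.Ess
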