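import Cfsg.Agent.L0.Fus.Ess11
import Cfsg.Agent.L0.Fus.Bis13
import Cfsg.Agent.H6.CopFrat
import Cfsg.Agent.H1.Class2
import Cfsg.Prelude.Def_Transfer

/-!
S5265, odd part.
-/

set_option autoImplicit false
set_option maxHeartbeats 1000000

open Pointwise
open scoped commutatorElement

namespace Cfsg.Agent.L0.Fus.Ess
open Cfsg.Agent.L0 Cfsg.FusionSystem

variable {Ω : Type*} [Group Ω] {S A P R : Subgroup Ω} [Finite S] {p : ℕ} [hp : Fact p.Prime] {F : FusionSystem S}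

omit [Finite S] in
theorem center_eq_Zc : Subgroup.center S = (Zc S).subgroupOf S := by
  ext c
  rw [Subgroup.mem_center_iff, Subgroup.mem_subgroupOf, mem_Zc]
  exact ⟨fun h => ⟨c.2, fun s hs => congrArg Subtype.val (h ⟨s, hs⟩)⟩, fun h u => Subtype.ext (h.2 u u.2)⟩

theorem extraspecial_of_sq (hS : IsPGroup p S) (hQ : SQ S p) (hZ : Nat.card (Zc S) = p) :
    Cfsg.IsExtraspecial p ↥S ∧ Nat.card S = p ^ 3 := by
  have hcc : Nat.card (Subgroup.center S) = p := by
    rw [center_eq_Zc, ← hZ]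
    exact Nat.card_congr (Subgroup.subgroupOfEquivOfLe inf_le_left).toEquiv
  have hcle : commutator S ≤ Subgroup.center S := by
    rw [commutator_def, Subgroup.commutator_le]
    intro u _ v _
    rw [center_eq_Zc]
    exact hQ.cl u u.2 v v.2
  have hceq : commutator S = Subgroup.center S := by
    refine Subgroup.eq_of_le_of_card_ge hcle ?_
    rw [hcc]
    have h1 : commutator S ≠ ⊥ := by
      intro hb
      apply hQ.na
      intro x hx y hy
      have h2 : ⁅(⟨x, hx⟩ : S), ⟨y, hy⟩⁆ ∈ commutator S := Subgroup.commutator_mem_commutator (Subgroup.mem_top _) (Subgroup.mem_top _)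
      rw [hb, Subgroup.mem_bot, commutatorElement_eq_one_iff_mul_comm] at h2
      exact congrArg Subtype.val h2
    have h3 := Subgroup.card_dvd_of_le hcle
    rw [hcc, Nat.dvd_prime hp.out] at h3
    rcases h3 with h3 | h3
    · exact absurd (Subgroup.card_eq_one.mp h3) h1
    · exact h3.ge
  have hcq : Nat.card (S ⧸ Subgroup.center S) = p ^ 2 := by
    have h2 : Nat.card (S ⧸ Subgroup.center S) = (Zc S).relIndex S := by
      rw [center_eq_Zc]; rfl
    rw [h2, hQ.idx]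
  have hpow : ∀ x : S, x ^ p ∈ Subgroup.center S := by
    intro x
    rw [← QuotientGroup.eq_one_iff]
    change (QuotientGroup.mk x : S ⧸ Subgroup.center S) ^ p = 1
    have h1 : orderOf (QuotientGroup.mk x : S ⧸ Subgroup.center S) ∣ p ^ 2 := by rw [← hcq]; exact orderOf_dvd_natCard _
    obtain ⟨k, hk, hke⟩ := (Nat.dvd_prime_pow hp.out).mp h1
    have hk2 : k ≠ 2 := by
      rintro rfl
      haveI : IsCyclic (S ⧸ Subgroup.center S) := isCyclic_of_orderOf_eq_card _ (by rw [hke, hcq])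
      apply hQ.na
      intro x hx y hy
      have := commutative_of_cyclic_center_quotient (QuotientGroup.mk' (Subgroup.center S)) (by simp) (⟨x, hx⟩ : S) ⟨y, hy⟩
      exact congrArg Subtype.val this
    apply orderOf_dvd_iff_pow_eq_one.mp
    rw [hke]
    calc p ^ k ∣ p ^ 1 := pow_dvd_pow p (by omega)
      _ = p := pow_one p
  refine ⟨⟨⟨hS, le_antisymm ?_ ?_, hceq⟩, hcc⟩, ?_⟩
  · exact H6.frattini_le_of_pow (p := p) _ hcle hpow
  · rw [← hceq]; exact commutator_le_frattini hS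
  · have := card_mul_relIndex' (inf_le_left : Zc S ≤ S)
    rw [← this, hZ, hQ.idx]; ring

theorem sq_odd' (hp2 : p ≠ 2) (hS : IsPGroup p S) (hF : F.IsSaturated p) (hQ : SQ S p) (hcore : F.core = ⊥) (hS1 : S ≠ ⊥) :
    ∃ (P : Subgroup Ω) (e : Ω), F.IsEssential p P ∧ Zc S = Subgroup.zpowers e ∧ e ^ p = 1 ∧ e ≠ 1 ∧
      ∀ Q, F.IsEssential p Q → ∀ u ∈ Q, u ^ p = 1 := by
  obtain ⟨P, e, f, hP, hZe, hep, he1, hcZ, hfp, -⟩ := sq_odd hp2 hS hF hQ hcore hS1
  refine ⟨P, e, hP, hZe, hep, he1, fun Q hQ' u hu => ?_⟩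
  obtain ⟨C, e', f', γ, hD, hf'P, -, hf'p, hdx, hCi, -, -⟩ := lemma_Q hS hF hQ hQ'
  obtain ⟨hZQ, -, hAD⟩ := ess_sq hS hF hQ hQ'
  have hC1 : C = ⊥ := by
    rw [eq_bot_iff]
    intro c hc
    rw [Subgroup.mem_bot]
    by_contra hc1
    -- `C = Zc S`, contradiction
    have h1 : Zc S ≤ C := by
      have h2 : Nat.card (Zc S) = p := by rw [hZe, Nat.card_zpowers, orderOf_eq_prime hep he1]
      haveI := finite_of_le (S := S) (P := Zc S) inf_le_left
      have h3 := Subgroup.card_dvd_of_le hD.le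
      rw [h2, Nat.dvd_prime hp.out] at h3
      rcases h3 with h3 | h3
      · rw [Subgroup.card_eq_one.mp h3, Subgroup.mem_bot] at hc
        exact absurd hc hc1
      · exact (Subgroup.eq_of_le_of_card_ge hD.le (by rw [h2, h3])).ge
    exact hD.nmem (h1 hD.mem)
  obtain ⟨c, hc, i, j, rfl⟩ := hdx u hu
  rw [hC1, Subgroup.mem_bot] at hc
  rw [hc, mul_one]
  have he'Q : e' ∈ Q := hZQ hD.mem
  have h1 : Commute (f' ^ j) (e' ^ i) := (show Commute f' e' from hAD.ab f' hf'P e' he'Q).zpow_zpow j i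
  rw [h1.mul_pow, ← zpow_natCast, ← zpow_natCast, ← zpow_mul, ← zpow_mul, mul_comm j, mul_comm i, zpow_mul, zpow_mul,
    zpow_natCast, zpow_natCast, hf'p, hD.pow, one_zpow, one_zpow, one_mul]

theorem s5265_odd (hp2 : p ≠ 2) (hS : IsPGroup p S) (hF : F.IsSaturated p) (hQ : SQ S p) (hcore : F.core = ⊥) (hS1 : S ≠ ⊥) :
    Nat.card (Zc S) = p ∧ ∀ x ∈ S, x ^ p = 1 := by
  obtain ⟨P, e, hP, hZe, hep, he1, hall⟩ := sq_odd' hp2 hS hF hQ hcore hS1
  have hZc : Nat.card (Zc S) = p := by rw [hZe, Nat.card_zpowers, orderOf_eq_prime hep he1]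
  refine ⟨hZc, ?_⟩
  have hmul : ∀ x ∈ S, ∀ y ∈ S, (x * y) ^ p = x ^ p * y ^ p := by
    intro x hx y hy
    have hc : ⁅(⟨y, hy⟩ : S), ⟨x, hx⟩⁆ ∈ Subgroup.center S := by
      rw [center_eq_Zc]; exact hQ.cl y hy x hx
    have h1 := H1.mul_pow_prime_of_class_two hp.out hp2 (x := (⟨x, hx⟩ : S)) (y := ⟨y, hy⟩) hc (by
      have h2 : y * x * y⁻¹ * x⁻¹ ∈ Zc S := hQ.cl y hy x hx
      exact Subtype.ext (pow_eq_one_of_card hZc h2))
    exact congrArg Subtype.val h1
  let Om : Subgroup Ω :=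
    { carrier := {x | x ∈ S ∧ x ^ p = 1}
      one_mem' := ⟨S.one_mem, one_pow p⟩
      mul_mem' := fun {a b} ha hb => ⟨S.mul_mem ha.1 hb.1, by rw [hmul a ha.1 b hb.1, ha.2, hb.2, one_mul]⟩
      inv_mem' := fun {a} ha => ⟨S.inv_mem ha.1, by rw [inv_pow, ha.2, inv_one]⟩ }
  have hOmS : Om ≤ S := fun x hx => hx.1
  by_contra hcon
  push Not at hcon
  obtain ⟨s, hs, hsp⟩ := hcon
  have hess : ∀ Q, F.IsEssential p Q → Q = Om := by
    intro Q hQ'
    obtain ⟨-, -, hAD⟩ := ess_sq hS hF hQ hQ'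
    have h1 : Q ≤ Om := fun u hu => ⟨hAD.le hu, hall Q hQ' u hu⟩
    have h2 := Subgroup.relIndex_mul_relIndex Q Om S h1 hOmS
    rw [hAD.idx] at h2
    have h3 : Q.relIndex Om ∣ p := Dvd.intro _ h2
    rcases (Nat.dvd_prime hp.out).mp h3 with h4 | h4
    · exact le_antisymm h1 (Subgroup.relIndex_eq_one.mp h4)
    · exfalso
      rw [h4] at h2
      have h5 : Om.relIndex S = 1 := by
        have : p * Om.relIndex S = p * 1 := by rw [h2, mul_one]
        exact Nat.eq_of_mul_eq_mul_left hp.out.pos this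
      exact hsp ((Subgroup.relIndex_eq_one.mp h5) hs).2
  have hn : F.IsNormal Om := by
    apply normal_of_essential hS hF
    rintro Q (rfl | hQ')
    · refine ⟨hOmS, fun α hα x hx => ⟨(α x).2, ?_⟩⟩
      have h1 : x ^ p = 1 := Subtype.ext hx.2
      have h2 : (α x) ^ p = 1 := by rw [← map_pow, h1, map_one]
      exact congrArg Subtype.val h2
    · rw [hess Q hQ']
      exact ⟨le_rfl, fun α hα x hx => (α x).2⟩
  have h1 : Om = ⊥ := by rw [← le_bot_iff, ← hcore]; exact le_core hn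
  have h2 : Zc S ≤ Om := by
    intro z hz
    refine ⟨(mem_Zc.mp hz).1, pow_eq_one_of_card hZc hz⟩
  rw [h1, le_bot_iff] at h2
  rw [h2, Subgroup.card_bot] at hZc
  exact hp.out.one_lt.ne hZc

end Cfsg.Agent.L0.Fus.Ess
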