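import Cfsg.Agent.L0.Fus.Ess12
import Cfsg.Agent.H7.Dihedral

/-!
S5265, the prime 2.
-/

set_option autoImplicit false
set_option maxHeartbeats 1000000

open Pointwise
open scoped commutatorElement

namespace Cfsg.Agent.L0.Fus.Ess
open Cfsg.Agent.L0 Cfsg.FusionSystem

variable {Ω : Type*} [Group Ω] {S A P Q R : Subgroup Ω} [Finite S] {p : ℕ} [hp : Fact p.Prime] {F : FusionSystem S}

/-- on an invariant subgroup centralized by `Aut_S(P)`, every automorphism agrees with one normalizing `Aut_S(P)` -/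
theorem frat_aut (hS : IsPGroup p S) (hF : F.IsSaturated p) (hP : F.IsFullyNormalized P) {W : Subgroup Ω} (hW : W ≤ P)
    (hWi : ∀ β ∈ F.autGroup P, ∀ w ∈ W, ac β w ∈ W) (hWT : ∀ s ∈ S, ∀ w ∈ W, s * w * s⁻¹ = w) {α : MulAut P} (hα : α ∈ F.autGroup P) :
    ∃ n ∈ F.autGroup P, (∀ t ∈ autInducedBy S P, n * t * n⁻¹ ∈ autInducedBy S P) ∧ ∀ w ∈ W, ac α w = ac n w := by
  have hPS := hP.1
  haveI := finite_of_le hPS
  haveI := finite_autGroup (S := S) hPS
  let C0 : Subgroup (F.autGroup P) :=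
    { carrier := {β | ∀ z ∈ W, ac (β : MulAut P) z = z}
      one_mem' := fun z hz => ac_one (hW hz)
      mul_mem' := by
        intro a b ha hb z hz
        change ac ((a : MulAut P) * (b : MulAut P)) z = z
        rw [ac_mul _ _ (hW hz), hb z hz, ha z hz]
      inv_mem' := by
        intro a ha z hz
        change ac ((a : MulAut P)⁻¹) z = z
        have := ac_inv_ac (a : MulAut P) (hW hz)
        rwa [ha z hz] at this }
  haveI : C0.Normal := ⟨fun a ha b z hz => by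
    change ac ((b : MulAut P) * (a : MulAut P) * (b : MulAut P)⁻¹) z = z
    rw [mul_assoc, ac_mul _ _ (hW hz), ac_mul _ _ (hW hz), ha _ (hWi _ (Subgroup.inv_mem _ b.2) z hz), ac_ac_inv _ (hW hz)]⟩
  obtain ⟨-, T, hT⟩ := fullyAutomized_of_fullyNormalized_sat hS hF hP
  have hTC : (T : Subgroup (F.autGroup P)) ≤ C0 := by
    rw [hT]
    intro a ha z hz
    obtain ⟨s, hs, hse⟩ := mem_autInducedBy.mp (Subgroup.mem_subgroupOf.mp ha)
    rw [ac_apply _ (hW hz), hse]
    exact hWT s hs z hz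
  have hFr : Subgroup.normalizer ((T : Subgroup (F.autGroup P)) : Set (F.autGroup P)) ⊔ C0 = ⊤ := Sylow.normalizer_sup_eq_top' T hTC
  have hαtop : (⟨α, hα⟩ : F.autGroup P) ∈ Subgroup.normalizer ((T : Subgroup (F.autGroup P)) : Set (F.autGroup P)) ⊔ C0 := by
    rw [hFr]; trivial
  obtain ⟨m, hm, c, hc, hmc⟩ := Subgroup.mem_sup_of_normal_right.mp hαtop
  refine ⟨m, m.2, fun t ht => ?_, fun w hw => ?_⟩
  · have h1 : (⟨t, autInducedBy_le_autGroup F hPS ht⟩ : F.autGroup P) ∈ (T : Subgroup (F.autGroup P)) := by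
      rw [hT]; exact Subgroup.mem_subgroupOf.mpr ht
    have h2 := (Subgroup.mem_normalizer_iff.mp hm _).mp h1
    rw [hT] at h2
    exact Subgroup.mem_subgroupOf.mp h2
  · have h1 : α = (m : MulAut P) * (c : MulAut P) := by
      have := congrArg Subtype.val hmc
      exact this.symm
    rw [h1, ac_mul _ _ (hW hw), hc w hw]

/-- the case where `P` is normal in `S` -/
theorem frat_aut_S (hS : IsPGroup p S) (hF : F.IsSaturated p) (hP : F.IsFullyNormalized P) (hPn : ∀ s ∈ S, ∀ u ∈ P, s * u * s⁻¹ ∈ P)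
    {W : Subgroup Ω} (hW : W ≤ P)
    (hWi : ∀ β ∈ F.autGroup P, ∀ w ∈ W, ac β w ∈ W) (hWT : ∀ s ∈ S, ∀ w ∈ W, s * w * s⁻¹ = w) {α : MulAut P} (hα : α ∈ F.autGroup P) :
    ∃ γ ∈ F.autGroup S, ∀ w ∈ W, ac α w = ac γ w := by
  haveI := finite_of_le hP.1
  obtain ⟨n, hn, hnT, hnw⟩ := frat_aut hS hF hP hW hWi hWT hα
  obtain ⟨g, N', hg, hgx⟩ := exists_ext_norm (receptive_of_fullyNormalized_sat hS hF hP) hn hnT
  have hNS : normalizerIn S P = S := by
    refine le_antisymm inf_le_left fun s hs => Subgroup.mem_inf.mpr ⟨hs, ?_⟩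
    exact Subgroup.mem_normalizer_fintype fun u hu => hPn s hs u hu
  rw [hNS] at hg
  have hN' : N' = S := Subgroup.eq_of_le_of_card_ge hg.le' hg.card.le
  rw [hN'] at hg
  obtain ⟨γ, hγ, hγe⟩ := hg.aut
  refine ⟨γ, hγ, fun w hw => ?_⟩
  rw [hnw w hw, hγe w (hP.1 (hW hw)), hgx w (hW hw)]

/-- an automorphism of `S` preserving `P` restricts -/
theorem res_aut' (hPS : P ≤ S) {β : MulAut S} (hβ : β ∈ F.autGroup S) (hβP : ∀ u ∈ P, ac β u ∈ P) :
    ∃ α ∈ F.autGroup P, ∀ u ∈ P, ac α u = ac β u := by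
  haveI := finite_of_le hPS
  obtain ⟨P', hP', hPm, hPe⟩ := ((mi_ac (F := F) (α := β) le_rfl).mpr hβ).restrict hPS
  have h1 : P' = P := by
    have h2 : P' ≤ P := by
      intro y hy
      obtain ⟨u, hu, rfl⟩ := (hPe y).mp hy
      exact hβP u hu
    exact Subgroup.eq_of_le_of_card_ge h2 hPm.card.le
  rw [h1] at hPm
  exact hPm.aut

/-- elements of order 2 lie in the two elementary abelian maximal subgroups -/
theorem sq_two_mem (hQ2 : SQ S 2) (hAD : AD S P 2) (hZP : Zc S ≤ P) (hPe : ∀ u ∈ P, u * u = 1) (hAD' : AD S Q 2) (hZQ : Zc S ≤ Q)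
    (hQe : ∀ u ∈ Q, u * u = 1) (hPQ : P ≠ Q) {w : Ω} (hw : w ∈ S) (hw2 : w * w = 1) : w ∈ P ∨ w ∈ Q := by
  by_contra hcon
  push Not at hcon
  obtain ⟨hwP, hwQ⟩ := hcon
  haveI := finite_of_le hAD.le
  haveI := finite_of_le hAD'.le
  obtain ⟨y, hyQ, hyP⟩ : ∃ y ∈ Q, y ∉ P := by
    by_contra hc
    push Not at hc
    apply hPQ
    symm
    refine Subgroup.eq_of_le_of_card_ge hc ?_
    have h1 := card_mul_relIndex' hAD.le
    have h2 := card_mul_relIndex' hAD'.le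
    rw [hAD.idx] at h1
    rw [hAD'.idx] at h2
    omega
  have hyS := hAD'.le hyQ
  -- `w⁻¹ y ∈ P`
  have hidx : (P.subgroupOf S).index = 2 := hAD.idx
  have hmem : ∀ a ∈ S, ∀ b ∈ S, a ∉ P → b ∉ P → a * b ∈ P := by
    intro a ha b hb haP hbP
    have := (Subgroup.mul_mem_iff_of_index_two hidx (a := ⟨a, ha⟩) (b := ⟨b, hb⟩)).mpr
      ⟨fun h => absurd h haP, fun h => absurd h hbP⟩
    exact this
  have hp1 : w * y ∈ P := hmem w hw y hyS hwP hyP
  have hyy := hQe y hyQ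
  have hp1p := hPe _ hp1
  -- w = (w y) y, so w² = 1 means they commute
  have hcomm : (w * y) * y = y * (w * y) := by
    have h1 : w * y * (w * y) = 1 := hp1p
    have h2 : w * y = y * w := by
      have h3 : w * (y * w * y) = 1 := by rw [← h1]; group
      have h4 : y * w * y = w := by
        have h5 := eq_inv_of_mul_eq_one_right h3
        rw [h5]
        exact inv_eq_of_mul_eq_one_left hw2
      calc w * y = (y * w * y) * y := by rw [h4]
        _ = y * w * (y * y) := by group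
        _ = y * w := by rw [hyy, mul_one]
    rw [h2]
    calc y * w * y = y * (w * y) := by group
      _ = y * (y * w) := by rw [h2]
  have hz := hAD.mem_Z hyS hyP hp1 hcomm
  apply hwQ
  have h6 : w = (w * y) * y := by rw [mul_assoc, hyy, mul_one]
  rw [h6]
  exact Q.mul_mem (hZQ hz) hyQ

theorem le_or_le_of_union {G : Type*} [Group G] {H P Q : Subgroup G} (h : ∀ x ∈ H, x ∈ P ∨ x ∈ Q) : H ≤ P ∨ H ≤ Q := by
  by_contra hcon
  push Not at hcon
  obtain ⟨h1, h2⟩ := hcon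
  obtain ⟨x, hxH, hxP⟩ := Set.not_subset.mp h1
  obtain ⟨y, hyH, hyQ⟩ := Set.not_subset.mp h2
  have hxQ := (h x hxH).resolve_left hxP
  have hyP := (h y hyH).resolve_right hyQ
  rcases h _ (H.mul_mem hxH hyH) with h3 | h3
  · exact hxP ((Subgroup.mul_mem_cancel_right P hyP).mp h3)
  · exact hyQ ((Subgroup.mul_mem_cancel_left Q hxQ).mp h3)

/-- every automorphism in the system preserves an elementary abelian maximal subgroup -/
theorem inv_of_two [hp2 : Fact (Nat.Prime 2)] (hS : IsPGroup 2 S) (hF : F.IsSaturated 2) (hQ2 : SQ S 2) (hAD : AD S P 2) (hZP : Zc S ≤ P)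
    (hPe : ∀ u ∈ P, u * u = 1) {β : MulAut S} (hβ : β ∈ F.autGroup S) : ∀ u ∈ P, ac β u ∈ P := by
  haveI := finite_of_le hAD.le
  have hm : ∀ β : MulAut S, β ∈ F.autGroup S → Mi F S S (ac β) := fun β hβ => (mi_ac (F := F) (α := β) le_rfl).mpr hβ
  by_contra hcon
  push Not at hcon
  obtain ⟨u0, hu0, hu0β⟩ := hcon
  set Q := im β P with hQ
  have hPS := hAD.le
  have hQm : Mi F P Q (ac β) := mi_im hβ hPS
  have hPQ : P ≠ Q := by
    intro h
    apply hu0β
    rw [h]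
    exact (mem_im hPS).mpr ⟨u0, hu0, rfl⟩
  have hQe : ∀ u ∈ Q, u * u = 1 := by
    intro u hu
    obtain ⟨v, hv, rfl⟩ := (mem_im hPS).mp hu
    rw [← hQm.map_mul hv hv, hPe v hv, hQm.map_one]
  have hQS : Q ≤ S := im_le
  have hQab : ∀ x ∈ Q, ∀ y ∈ Q, x * y = y * x := by
    intro x hx y hy
    have h1 := hQe _ (Q.mul_mem hx hy)
    have h2 := hQe x hx
    have h3 := hQe y hy
    calc x * y = x * (x * y * (x * y)) * y := by rw [h1, mul_one]
      _ = (x * x) * y * x * (y * y) := by group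
      _ = y * x := by rw [h2, h3]; group
  have hQi : (Q.subgroupOf S).index = 2 := by
    change Q.relIndex S = 2
    haveI := finite_of_le hQS
    have h1 := card_mul_relIndex' hQS
    have h2 := card_mul_relIndex' hPS
    rw [hAD.idx, hQm.card] at h2
    rw [← h2] at h1
    exact Nat.eq_of_mul_eq_mul_left Nat.card_pos h1
  have hADQ : AD S Q 2 := AD.mk' hS hQS hQab hQi
  have hZinv : ∀ β ∈ F.autGroup S, ∀ z ∈ Zc S, ac β z ∈ Zc S := by
    intro β hβ z hz
    have hzS := (mem_Zc.mp hz).1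
    refine mem_Zc.mpr ⟨ac_mem β hzS, fun s hs => ?_⟩
    obtain ⟨t, ht, rfl⟩ := (hm β hβ).surj hs
    rw [← (hm β hβ).map_mul ht hzS, ← (hm β hβ).map_mul hzS ht, (mem_Zc.mp hz).2 t ht]
  have hZQ : Zc S ≤ Q := by
    intro z hz
    refine (mem_im hPS).mpr ⟨ac β⁻¹ z, hZP (hZinv _ (Subgroup.inv_mem _ hβ) z hz), ac_ac_inv β (mem_Zc.mp hz).1⟩
  -- `β Q = P`
  have hQP : ∀ u ∈ Q, ac β u ∈ P := by
    have h1 : ∀ x ∈ im β Q, x ∈ P ∨ x ∈ Q := by
      intro x hx
      obtain ⟨v, hv, rfl⟩ := (mem_im hQS).mp hx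
      refine sq_two_mem hQ2 hAD hZP hPe hADQ hZQ hQe hPQ (ac_mem β (hQS hv)) ?_
      rw [← (hm β hβ).map_mul (hQS hv) (hQS hv), hQe v hv, (hm β hβ).map_one]
    rcases le_or_le_of_union h1 with h2 | h2
    · intro u hu
      exact h2 ((mem_im hQS).mpr ⟨u, hu, rfl⟩)
    · exfalso
      -- then `β Q = Q = β P`
      apply hPQ
      haveI := finite_of_le hQS
      have h3 : im β Q = Q := Subgroup.eq_of_le_of_card_ge h2 (mi_im hβ hQS).card.le
      apply Subgroup.eq_of_le_of_card_ge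
      · intro u hu
        have h4 : ac β u ∈ Q := (mem_im hPS).mpr ⟨u, hu, rfl⟩
        rw [← h3] at h4
        obtain ⟨v, hv, hve⟩ := (mem_im hQS).mp h4
        rw [← (hm β hβ).inj (hQS hv) (hPS hu) hve]
        exact hv
      · exact hQm.card.ge
  obtain ⟨m, hmc, hmI⟩ := exists_pow_inn hS hF hβ
  have hodd : m % 2 = 1 := by
    rcases Nat.mod_two_eq_zero_or_one m with h0 | h1
    · exfalso
      have : 2 ∣ Nat.gcd m 2 := Nat.dvd_gcd (Nat.dvd_of_mod_eq_zero h0) dvd_rfl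
      rw [hmc] at this
      omega
    · exact h1
  have key : ∀ n : ℕ, (∀ u ∈ P, ac (β ^ (2 * n)) u ∈ P) := by
    intro n
    induction n with
    | zero => intro u hu; rw [mul_zero, pow_zero, ac_one (hPS hu)]; exact hu
    | succ n ih =>
      intro u hu
      have e1 : β ^ (2 * (n + 1)) = β * β * β ^ (2 * n) := by rw [← pow_two, ← pow_add]; congr 1; ring
      rw [e1, ac_mul _ _ (hPS hu), ac_mul _ _ (hPS (ih u hu))]
      exact hQP _ ((mem_im hPS).mpr ⟨_, ih u hu, rfl⟩)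
  obtain ⟨g, hg⟩ := mem_Inn.mp hmI
  obtain ⟨k, hk⟩ : ∃ k, m = 2 * k + 1 := ⟨m / 2, by omega⟩
  apply hPQ
  haveI := finite_of_le hQS
  symm
  refine Subgroup.eq_of_le_of_card_ge ?_ hQm.card.le
  intro y hy
  obtain ⟨v, hv, rfl⟩ := (mem_im hPS).mp hy
  -- `β v = β^m (β^{-2k} v)`
  have h1 : β ^ m = β * β ^ (2 * k) := by rw [hk, pow_succ']
  have h3 : ∀ w ∈ P, ac (β ^ m) w ∈ P := by
    intro w hw
    rw [ac_apply _ (hPS hw), hg]
    exact hAD.nor g g.2 w hw
  -- surjectivity of `β^{2k}` on `P`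
  obtain ⟨w, hw, hwv⟩ : ∃ w ∈ P, ac (β ^ (2 * k)) w = v := by
    have h4 : im (β ^ (2 * k)) P = P := by
      have h5 : β ^ (2 * k) ∈ F.autGroup S := Subgroup.pow_mem _ hβ _
      refine Subgroup.eq_of_le_of_card_ge ?_ (mi_im h5 hPS).card.le
      intro y hy
      obtain ⟨w, hw, rfl⟩ := (mem_im hPS).mp hy
      exact key k w hw
    have h6 : v ∈ im (β ^ (2 * k)) P := by rw [h4]; exact hv
    exact (mem_im hPS).mp h6
  rw [← hwv, ← ac_mul _ _ (hPS hw), ← h1]
  exact h3 w hw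

end Cfsg.Agent.L0.Fus.Ess
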