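import Cfsg.Agent.L0.Fus.Ess13

/-!
S5265, the prime 2, conclusion.
-/

set_option autoImplicit false
set_option maxHeartbeats 1000000

open Pointwise
open scoped commutatorElement

namespace Cfsg.Agent.L0.Fus.Ess
open Cfsg.Agent.L0 Cfsg.FusionSystem

variable {Ω : Type*} [Group Ω] {S A P Q R : Subgroup Ω} [Finite S] {p : ℕ} [hp : Fact p.Prime] {F : FusionSystem S}

/-- if all automorphisms of `S` and of the essential subgroups move elements only modulo `W`, so do all maps -/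
theorem map_mod_of_essential (hS : IsPGroup p S) (hF : F.IsSaturated p) {W : Subgroup Ω} (hWS : W ≤ S)
    (hW : ∀ s ∈ S, ∀ t ∈ S, s * t * s⁻¹ * t⁻¹ ∈ W)
    (hE : ∀ P, (P = S ∨ F.IsEssential p P) → ∀ α ∈ F.autGroup P, ∀ x ∈ P, x⁻¹ * ac α x ∈ W)
    {P Q : Subgroup Ω} {f : Ω → Ω} (hf : Mi F P Q f) : ∀ x ∈ P, x⁻¹ * f x ∈ W := by
  have hWn : ∀ s ∈ S, ∀ w ∈ W, s * w * s⁻¹ ∈ W := by
    intro s hs w hw
    have h1 := W.mul_mem (hW s hs w (hWS hw)) hw
    have e : s * w * s⁻¹ * w⁻¹ * w = s * w * s⁻¹ := by group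
    rwa [e] at h1
  let E : FusionSystem S := ofRel F (fun P _ f => ∀ x ∈ P, x⁻¹ * f x ∈ W)
    (fun P Q f g hfg h x hx => by rw [← hfg x hx]; exact h x hx)
    (fun P s hP hs x hx => by
      have h1 := hW x⁻¹ (S.inv_mem (hP hx)) s hs
      have e : x⁻¹ * s * x⁻¹⁻¹ * s⁻¹ = x⁻¹ * (s * x * s⁻¹) := by group
      rwa [e] at h1)
    (fun P Q R f g hf hg h1 h2 x hx => by
      have h3 := W.mul_mem (h1 x hx) (h2 _ (hf.mem hx))
      have e : x⁻¹ * f x * ((f x)⁻¹ * g (f x)) = x⁻¹ * g (f x) := by group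
      rwa [e] at h3)
    (fun P Q f g hf hg hgf h1 y hy => by
      obtain ⟨x, hx, rfl⟩ := hf.surj hy
      have h3 := W.inv_mem (h1 x hx)
      rw [hgf x hx]
      have e : (x⁻¹ * f x)⁻¹ = (f x)⁻¹ * x := by group
      rwa [e] at h3)
    (fun P Q f P' Q' hf hf' hPP h1 x hx => h1 x (hPP hx))
  have hle : F ≤ E := by
    apply alperin_goldschmidt hS hF
    intro P hP α hα
    have hPS : P ≤ S := by
      rcases hP with rfl | h
      · exact le_rfl
      · exact h.1.1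
    haveI := finite_of_le hPS
    rw [← mi_ac (F := E) hPS]
    exact mi_ofRel.mpr ⟨(mi_ac (F := F) hPS).mpr hα, hE P hP α hα⟩
  have h1 : Mi E P Q f := by
    obtain ⟨φ, hφ, h1, h2⟩ := hf
    exact ⟨φ, hle P hφ, h1, h2⟩
  exact (mi_ofRel.mp h1).2

theorem sq_elem {C : Subgroup Ω} {e f : Ω} {γ : MulAut S} (hAD : AD S P 2) (hZP : Zc S ≤ P) (hD : Dat F 2 ((commutator ↥S).map S.subtype) C e γ)
    (hfP : f ∈ P) (hf2 : f ^ 2 = 1) (hdx : ∀ u ∈ P, ∃ c ∈ C, ∃ i j : ℤ, u = f ^ j * (e ^ i * c)) (hZ2 : ∀ z ∈ Zc S, z * z = 1) :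
    ∀ u ∈ P, u * u = 1 := by
  intro u hu
  obtain ⟨c, hc, i, j, rfl⟩ := hdx u hu
  have hz : e ^ i * c ∈ Zc S := (Zc S).mul_mem ((Zc S).zpow_mem hD.mem i) (hD.le hc)
  have h1 := hAD.ab _ (P.zpow_mem hfP j) _ (hZP hz)
  have h2 : f ^ j * f ^ j = 1 := by
    rw [← zpow_add, ← two_mul, zpow_mul]
    have : f ^ (2 : ℤ) = 1 := by rw [← hf2]; norm_cast
    rw [this, one_zpow]
  calc f ^ j * (e ^ i * c) * (f ^ j * (e ^ i * c)) = f ^ j * ((e ^ i * c) * f ^ j) * (e ^ i * c) := by group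
    _ = f ^ j * (f ^ j * (e ^ i * c)) * (e ^ i * c) := by rw [h1]
    _ = (f ^ j * f ^ j) * ((e ^ i * c) * (e ^ i * c)) := by group
    _ = 1 := by rw [h2, hZ2 _ hz, one_mul]

theorem Z_exp_two [hp2 : Fact (Nat.Prime 2)] (hS : IsPGroup 2 S) (hF : F.IsSaturated 2) (hQ : SQ S 2) (hcore : F.core = ⊥) :
    ∀ z ∈ Zc S, z * z = 1 := by
  have hm : ∀ β : MulAut S, β ∈ F.autGroup S → Mi F S S (ac β) := fun β hβ => (mi_ac (F := F) (α := β) le_rfl).mpr hβ
  have hZc : ∀ z ∈ Zc S, ∀ w ∈ Zc S, z * w = w * z := fun z hz w hw => (mem_Zc.mp hw).2 z (mem_Zc.mp hz).1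
  let M : Subgroup Ω :=
    { carrier := {m | ∃ z ∈ Zc S, m = z * z}
      one_mem' := ⟨1, (Zc S).one_mem, (mul_one _).symm⟩
      mul_mem' := by
        rintro _ _ ⟨z, hz, rfl⟩ ⟨w, hw, rfl⟩
        refine ⟨z * w, (Zc S).mul_mem hz hw, ?_⟩
        calc z * z * (w * w) = z * (z * w) * w := by group
          _ = z * (w * z) * w := by rw [hZc z hz w hw]
          _ = z * w * (z * w) := by group
      inv_mem' := by
        rintro _ ⟨z, hz, rfl⟩
        exact ⟨z⁻¹, (Zc S).inv_mem hz, by group⟩ }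
  have hMZ : M ≤ Zc S := by
    rintro _ ⟨z, hz, rfl⟩
    exact (Zc S).mul_mem hz hz
  have hn : F.IsNormal M := by
    apply normal_of_essential hS hF
    rintro Q (rfl | hQ')
    · refine ⟨hMZ.trans inf_le_left, fun α hα x hx => ?_⟩
      rw [← ac_apply α x.2]
      obtain ⟨z, hz, hxz⟩ := hx
      have hzS := (mem_Zc.mp hz).1
      refine ⟨ac α z, ?_, ?_⟩
      · refine mem_Zc.mpr ⟨ac_mem α hzS, fun s hs => ?_⟩
        obtain ⟨t, ht, rfl⟩ := (hm α hα).surj hs
        rw [← (hm α hα).map_mul ht hzS, ← (hm α hα).map_mul hzS ht, (mem_Zc.mp hz).2 t ht]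
      · rw [hxz, (hm α hα).map_mul hzS hzS]
    · obtain ⟨C, e, f, γ, hD, -, -, -, -, hCi, -, -⟩ := lemma_Q hS hF hQ hQ'
      obtain ⟨hZQ, -, hAD⟩ := ess_sq hS hF hQ hQ'
      refine ⟨hMZ.trans hZQ, fun α hα x hx => ?_⟩
      rw [← ac_apply α x.2]
      obtain ⟨z, hz, hxz⟩ := hx
      obtain ⟨c, hc, i, rfl⟩ := hD.dec z hz
      have hmα := (mi_ac (F := F) (α := α) hAD.le).mpr hα
      have hcQ := hZQ (hD.le hc)
      refine ⟨ac α c, hD.le (hCi α hα c hc), ?_⟩
      have hee : e ^ i * e ^ i = 1 := by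
        rw [← zpow_add, ← two_mul, zpow_mul]
        have : e ^ (2 : ℤ) = 1 := by rw [← hD.pow]; norm_cast
        rw [this, one_zpow]
      have h1 : e ^ i * c * (e ^ i * c) = c * c := by
        have h2 := hZc c (hD.le hc) (e ^ i) ((Zc S).zpow_mem hD.mem i)
        calc e ^ i * c * (e ^ i * c) = e ^ i * (c * e ^ i) * c := by group
          _ = e ^ i * (e ^ i * c) * c := by rw [h2]
          _ = (e ^ i * e ^ i) * (c * c) := by group
          _ = c * c := by rw [hee, one_mul]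
      rw [hxz, h1, hmα.map_mul hcQ hcQ]
  have h1 : M = ⊥ := by rw [← le_bot_iff, ← hcore]; exact le_core hn
  intro z hz
  have h2 : z * z ∈ M := ⟨z, hz, rfl⟩
  rw [h1, Subgroup.mem_bot] at h2
  exact h2

/-- S5265 for the prime 2 -/
theorem s5265_two [hp2 : Fact (Nat.Prime 2)] (hS : IsPGroup 2 S) (hF : F.IsSaturated 2) (hQ : SQ S 2) (hcore : F.core = ⊥) (hS1 : S ≠ ⊥)
    (hhyp : F.hyperfocalSubgroup 2 = S) : Nat.card (Zc S) = 2 ∧ Nonempty (↥S ≃* DihedralGroup 4) := by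
  have hm : ∀ β : MulAut S, β ∈ F.autGroup S → Mi F S S (ac β) := fun β hβ => (mi_ac (F := F) (α := β) le_rfl).mpr hβ
  have hZ2 := Z_exp_two hS hF hQ hcore
  -- first essential subgroup
  obtain ⟨P, hP⟩ : ∃ P, F.IsEssential 2 P := by
    by_contra hcon
    push Not at hcon
    apply hS1
    rw [← le_bot_iff, ← hcore]
    apply le_core
    apply normal_of_essential hS hF
    rintro Q (rfl | hQ')
    · exact ⟨le_rfl, fun α hα x hx => (α x).2⟩
    · exact absurd hQ' (hcon Q)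
  obtain ⟨C, e, f, γ, hD, hfP, hfZ, hf2, hdx, hCi, hV, hV2⟩ := lemma_Q hS hF hQ hP
  obtain ⟨hZP, hZi, hAD⟩ := ess_sq hS hF hQ hP
  have hPe := sq_elem hAD hZP hD hfP hf2 hdx hZ2
  have hPinv : ∀ β ∈ F.autGroup S, ∀ u ∈ P, ac β u ∈ P := fun β hβ => inv_of_two hS hF hQ hAD hZP hPe hβ
  have hZ1 : Zc S ≠ ⊥ := by
    intro hb
    have := hD.mem
    rw [hb, Subgroup.mem_bot] at this
    exact hD.nmem (by rw [this]; exact C.one_mem)
  -- second essential subgroup
  obtain ⟨P', hP', hPP⟩ : ∃ P', F.IsEssential 2 P' ∧ P' ≠ P := by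
    by_contra hcon
    push Not at hcon
    apply hZ1
    rw [← le_bot_iff, ← hcore]
    refine hZP.trans (le_core ?_)
    apply normal_of_essential hS hF
    rintro Q (rfl | hQ')
    · exact ⟨hAD.le, fun α hα x hx => by rw [← ac_apply α x.2]; exact hPinv α hα _ hx⟩
    · rw [hcon Q hQ']
      exact ⟨le_rfl, fun α hα x hx => (α x).2⟩
  obtain ⟨C', e', f', γ', hD', hfP', hfZ', hf2', hdx', hCi', hV', hV2'⟩ := lemma_Q hS hF hQ hP'
  obtain ⟨hZP', hZi', hAD'⟩ := ess_sq hS hF hQ hP'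
  have hPe' := sq_elem hAD' hZP' hD' hfP' hf2' hdx' hZ2
  have hPinv' : ∀ β ∈ F.autGroup S, ∀ u ∈ P', ac β u ∈ P' := fun β hβ => inv_of_two hS hF hQ hAD' hZP' hPe' hβ
  have hZe : Subgroup.zpowers e = Subgroup.zpowers e' := by rw [← hD.gen, hD'.gen]
  have he1 : e ≠ 1 := fun h => hD.nmem (by rw [h]; exact C.one_mem)
  have hzp : ∀ i : ℤ, e ^ i = 1 ∨ e ^ i = e := by
    intro i
    have h2 : e ^ (2 : ℤ) = 1 := by rw [← hD.pow]; norm_cast
    rcases Int.even_or_odd' i with ⟨k, hk | hk⟩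
    · left; rw [hk, zpow_mul, h2, one_zpow]
    · right; rw [hk, zpow_add, zpow_mul, h2, one_zpow, one_mul, zpow_one]
  have hee' : e' = e := by
    have h1 : e' ∈ Subgroup.zpowers e := by rw [hZe]; exact Subgroup.mem_zpowers e'
    obtain ⟨i, hi⟩ := Subgroup.mem_zpowers_iff.mp h1
    rcases hzp i with h | h
    · exfalso
      rw [h] at hi
      exact hD'.nmem (by rw [← hi]; exact C'.one_mem)
    · rw [← hi, h]
  have hee'' := hee'.symm
  subst hee''
  -- the intersection of the complements is normal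
  have hCS : ∀ β ∈ F.autGroup S, ∀ c ∈ C, ac β c ∈ C := by
    intro β hβ c hc
    obtain ⟨α, hα, hαe⟩ := res_aut' (F := F) hAD.le hβ (hPinv β hβ)
    rw [← hαe c (hZP (hD.le hc))]
    exact hCi α hα c hc
  have hCS' : ∀ β ∈ F.autGroup S, ∀ c ∈ C', ac β c ∈ C' := by
    intro β hβ c hc
    obtain ⟨α, hα, hαe⟩ := res_aut' (F := F) hAD'.le hβ (hPinv' β hβ)
    rw [← hαe c (hZP' (hD'.le hc))]
    exact hCi' α hα c hc
  have hess : ∀ Q, F.IsEssential 2 Q → Q = P ∨ Q = P' := by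
    intro Q hQ'
    obtain ⟨C₁, e₁, f₁, γ₁, hD₁, hfP₁, hfZ₁, hf2₁, hdx₁, hCi₁, -, -⟩ := lemma_Q hS hF hQ hQ'
    obtain ⟨hZP₁, hZi₁, hAD₁⟩ := ess_sq hS hF hQ hQ'
    have hPe₁ := sq_elem hAD₁ hZP₁ hD₁ hfP₁ hf2₁ hdx₁ hZ2
    have h1 : ∀ x ∈ Q, x ∈ P ∨ x ∈ P' := fun x hx => sq_two_mem hQ hAD hZP hPe hAD' hZP' hPe' (Ne.symm hPP) (hAD₁.le hx) (hPe₁ x hx)
    have hc : ∀ {X Y : Subgroup Ω}, AD S X 2 → AD S Y 2 → X ≤ Y → X = Y := by
      intro X Y hX hY hXY
      haveI := finite_of_le hY.le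
      refine Subgroup.eq_of_le_of_card_ge hXY ?_
      have h1 := card_mul_relIndex' hX.le
      have h2 := card_mul_relIndex' hY.le
      rw [hX.idx] at h1
      rw [hY.idx] at h2
      omega
    rcases le_or_le_of_union h1 with h2 | h2
    · exact Or.inl (hc hAD₁ hAD h2)
    · exact Or.inr (hc hAD₁ hAD' h2)
  have hWT : ∀ {W : Subgroup Ω}, W ≤ Zc S → ∀ s ∈ S, ∀ w ∈ W, s * w * s⁻¹ = w := by
    intro W hW s hs w hw
    rw [(mem_Zc.mp (hW hw)).2 s hs, mul_inv_cancel_right]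
  have hCC : C ⊓ C' = ⊥ := by
    rw [← le_bot_iff, ← hcore]
    apply le_core
    apply normal_of_essential hS hF
    rintro Q (rfl | hQ')
    · refine ⟨inf_le_left.trans (hD.le.trans inf_le_left), fun α hα x hx => ?_⟩
      rw [← ac_apply α x.2]
      obtain ⟨h1, h2⟩ := Subgroup.mem_inf.mp hx
      exact Subgroup.mem_inf.mpr ⟨hCS α hα _ h1, hCS' α hα _ h2⟩
    · rcases hess Q hQ' with rfl | rfl
      · refine ⟨inf_le_left.trans (hD.le.trans hZP), fun α hα x hx => ?_⟩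
        rw [← ac_apply α x.2]
        obtain ⟨h1, h2⟩ := Subgroup.mem_inf.mp hx
        obtain ⟨β, hβ, hβe⟩ := frat_aut_S hS hF hQ'.2.1 hAD.nor (hD.le.trans hZP) hCi (hWT hD.le) hα
        rw [hβe _ h1]
        exact Subgroup.mem_inf.mpr ⟨hCS β hβ _ h1, hCS' β hβ _ h2⟩
      · refine ⟨inf_le_left.trans (hD.le.trans hZP'), fun α hα x hx => ?_⟩
        rw [← ac_apply α x.2]
        obtain ⟨h1, h2⟩ := Subgroup.mem_inf.mp hx
        obtain ⟨β, hβ, hβe⟩ := frat_aut_S hS hF hQ'.2.1 hAD'.nor (hD'.le.trans hZP') hCi' (hWT hD'.le) hα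
        rw [hβe _ h2]
        exact Subgroup.mem_inf.mpr ⟨hCS β hβ _ h1, hCS' β hβ _ h2⟩
  -- `f` and `f'` do not commute
  have hfS := hAD.le hfP
  have hfS' := hAD'.le hfP'
  have hf'P : f' ∉ P := by
    intro h1
    -- `P' = ⟨f'⟩ Z ≤ P`
    have h2 : P' ≤ P := by
      intro u hu
      obtain ⟨c, hc, i, j, rfl⟩ := hdx' u hu
      exact P.mul_mem (P.zpow_mem h1 j) (hZP ((Zc S).mul_mem ((Zc S).zpow_mem hD'.mem i) (hD'.le hc)))
    rcases le_or_le_of_union (H := P') (P := P) (Q := P) (fun x hx => Or.inl (h2 hx)) with h3 | h3 <;>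
    · apply hPP
      haveI := finite_of_le hAD.le
      refine Subgroup.eq_of_le_of_card_ge h3 ?_
      have h1 := card_mul_relIndex' hAD.le
      have h2 := card_mul_relIndex' hAD'.le
      rw [hAD.idx] at h1
      rw [hAD'.idx] at h2
      omega
  have hnc : f * f' ≠ f' * f := fun h => hfZ (hAD.mem_Z hfS' hf'P hfP h)
  have hcomm : ∀ s ∈ S, ∀ t ∈ S, s * t * s⁻¹ * t⁻¹ ∈ Subgroup.zpowers e := by
    intro s hs t ht
    rw [← hD.gen]
    exact ⟨⁅⟨s, hs⟩, ⟨t, ht⟩⁆, Subgroup.commutator_mem_commutator (Subgroup.mem_top _) (Subgroup.mem_top _), rfl⟩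
  have heS := (mem_Zc.mp hD.mem).1
  have hec : ∀ s ∈ S, s * e = e * s := (mem_Zc.mp hD.mem).2
  have hff : f * f = 1 := by rw [← pow_two]; exact hf2
  have hff' : f' * f' = 1 := by rw [← pow_two]; exact hf2'
  have hee : e * e = 1 := by rw [← pow_two]; exact hD.pow
  -- `C = ⊥`
  have hC1 : C = ⊥ := by
    by_contra hC
    obtain ⟨⟨c₁, hc₁⟩, hc₁1⟩ := Subgroup.ne_bot_iff_exists_ne_one.mp hC
    have hc₁1' : c₁ ≠ 1 := fun h => hc₁1 (Subtype.ext h)
    have hCc : ∀ c ∈ C, c ≠ 1 → c = c₁ := by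
      intro c hc hc1
      have hout : ∀ c ∈ C, c ≠ 1 → ∃ d ∈ C', c = e * d := by
        intro c hc hc1
        obtain ⟨d, hd, i, hi⟩ := hD'.dec c (hD.le hc)
        rcases hzp i with h | h
        · exfalso
          rw [h, one_mul] at hi
          have : c ∈ C ⊓ C' := Subgroup.mem_inf.mpr ⟨hc, by rw [hi]; exact hd⟩
          rw [hCC, Subgroup.mem_bot] at this
          exact hc1 this
        · exact ⟨d, hd, by rw [hi, h]⟩
      obtain ⟨d, hd, hcd⟩ := hout c hc hc1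
      obtain ⟨d₁, hd₁, hcd₁⟩ := hout c₁ hc₁ hc₁1'
      have h1 : c * c₁ = d * d₁ := by
        rw [hcd, hcd₁]
        have := hec d (mem_Zc.mp (hD'.le hd)).1
        calc e * d * (e * d₁) = e * (d * e) * d₁ := by group
          _ = e * (e * d) * d₁ := by rw [this]
          _ = (e * e) * (d * d₁) := by group
          _ = d * d₁ := by rw [hee, one_mul]
      have h2 : c * c₁ ∈ C ⊓ C' := Subgroup.mem_inf.mpr ⟨C.mul_mem hc hc₁, by rw [h1]; exact C'.mul_mem hd hd₁⟩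
      rw [hCC, Subgroup.mem_bot] at h2
      have h3 := hZ2 c₁ (hD.le hc₁)
      calc c = c * (c₁ * c₁) := by rw [h3, mul_one]
        _ = (c * c₁) * c₁ := by group
        _ = c₁ := by rw [h2, one_mul]
    have hCfix : ∀ {X : Subgroup Ω} (hX : C ≤ X) (α : MulAut X), (∀ c ∈ C, ac α c ∈ C) → ∀ c ∈ C, ac α c = c := by
      intro X hX α hα c hc
      by_cases hc1 : c = 1
      · rw [hc1, ac_apply α X.one_mem]
        have : α (⟨1, X.one_mem⟩ : X) = 1 := map_one α
        rw [this]; rfl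
      · have h1 : ac α c ≠ 1 := by
          intro h
          apply hc1
          rw [ac_apply α (hX hc)] at h
          have h2 : α ⟨c, hX hc⟩ = 1 := Subtype.ext h
          have h3 := (map_eq_one_iff α α.injective).mp h2
          exact congrArg Subtype.val h3
        rw [hCc _ (hα c hc) h1, hCc c hc hc1]
    -- same for `C'`
    have hC'c : ∀ c ∈ C', ∀ d ∈ C', c ≠ 1 → d ≠ 1 → c = d := by
      intro c hc d hd hc1 hd1
      have hout : ∀ c ∈ C', c ≠ 1 → ∃ d ∈ C, c = e * d := by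
        intro c hc hc1
        obtain ⟨d, hd, i, hi⟩ := hD.dec c (hD'.le hc)
        rcases hzp i with h | h
        · exfalso
          rw [h, one_mul] at hi
          have : c ∈ C ⊓ C' := Subgroup.mem_inf.mpr ⟨by rw [hi]; exact hd, hc⟩
          rw [hCC, Subgroup.mem_bot] at this
          exact hc1 this
        · exact ⟨d, hd, by rw [hi, h]⟩
      obtain ⟨a, ha, hca⟩ := hout c hc hc1
      obtain ⟨b, hb, hdb⟩ := hout d hd hd1
      have h1 : c * d = a * b := by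
        rw [hca, hdb]
        have := hec a (mem_Zc.mp (hD.le ha)).1
        calc e * a * (e * b) = e * (a * e) * b := by group
          _ = e * (e * a) * b := by rw [this]
          _ = (e * e) * (a * b) := by group
          _ = a * b := by rw [hee, one_mul]
      have h2 : c * d ∈ C ⊓ C' := Subgroup.mem_inf.mpr ⟨by rw [h1]; exact C.mul_mem ha hb, C'.mul_mem hc hd⟩
      rw [hCC, Subgroup.mem_bot] at h2
      have h3 := hZ2 d (hD'.le hd)
      calc c = c * (d * d) := by rw [h3, mul_one]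
        _ = (c * d) * d := by group
        _ = d := by rw [h2, one_mul]
    have hCfix' : ∀ {X : Subgroup Ω} (hX : C' ≤ X) (α : MulAut X), (∀ c ∈ C', ac α c ∈ C') → ∀ c ∈ C', ac α c = c := by
      intro X hX α hα c hc
      by_cases hc1 : c = 1
      · rw [hc1, ac_apply α X.one_mem]
        have : α (⟨1, X.one_mem⟩ : X) = 1 := map_one α
        rw [this]; rfl
      · have h1 : ac α c ≠ 1 := by
          intro h
          apply hc1
          rw [ac_apply α (hX hc)] at h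
          have h2 : α ⟨c, hX hc⟩ = 1 := Subtype.ext h
          have h3 := (map_eq_one_iff α α.injective).mp h2
          exact congrArg Subtype.val h3
        exact hC'c _ (hα c hc) c hc h1 hc1
    -- the subgroup `W`
    have hfe : ∀ i j : ℤ, f' ^ i * f ^ j = f ^ j * f' ^ i * (f ^ j * f' ^ i)⁻¹ * (f' ^ i * f ^ j) := by intro i j; group
    have hmove : ∀ i j : ℤ, ∃ k : ℤ, f' ^ i * f ^ j = f ^ j * f' ^ i * e ^ k := by
      intro i j
      have h1 := hcomm (f' ^ i)⁻¹ (S.inv_mem (S.zpow_mem hfS' i)) (f ^ j)⁻¹ (S.inv_mem (S.zpow_mem hfS j))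
      obtain ⟨k, hk⟩ := Subgroup.mem_zpowers_iff.mp h1
      refine ⟨k, ?_⟩
      rw [hk]; group
    have hek : ∀ (k : ℤ) (s : Ω), s ∈ S → e ^ k * s = s * e ^ k := by
      intro k s hs
      have : Commute e s := (hec s hs).symm
      exact (this.zpow_left k).eq
    let W : Subgroup Ω :=
      { carrier := {w | ∃ i j k : ℤ, w = f ^ i * f' ^ j * e ^ k}
        one_mem' := ⟨0, 0, 0, by simp⟩
        mul_mem' := by
          rintro _ _ ⟨i, j, k, rfl⟩ ⟨i', j', k', rfl⟩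
          obtain ⟨l, hl⟩ := hmove j i'
          refine ⟨i + i', j + j', l + k + k', ?_⟩
          calc f ^ i * f' ^ j * e ^ k * (f ^ i' * f' ^ j' * e ^ k')
              = f ^ i * f' ^ j * (e ^ k * (f ^ i' * f' ^ j')) * e ^ k' := by group
            _ = f ^ i * f' ^ j * ((f ^ i' * f' ^ j') * e ^ k) * e ^ k' := by
                rw [hek k _ (S.mul_mem (S.zpow_mem hfS i') (S.zpow_mem hfS' j'))]
            _ = f ^ i * (f' ^ j * f ^ i') * f' ^ j' * e ^ k * e ^ k' := by group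
            _ = f ^ i * (f ^ i' * f' ^ j * e ^ l) * f' ^ j' * e ^ k * e ^ k' := by rw [hl]
            _ = f ^ i * f ^ i' * f' ^ j * (e ^ l * f' ^ j') * e ^ k * e ^ k' := by group
            _ = f ^ i * f ^ i' * f' ^ j * (f' ^ j' * e ^ l) * e ^ k * e ^ k' := by rw [hek l _ (S.zpow_mem hfS' j')]
            _ = f ^ (i + i') * f' ^ (j + j') * e ^ (l + k + k') := by
                rw [zpow_add, zpow_add, zpow_add, zpow_add]; group
        inv_mem' := by
          rintro _ ⟨i, j, k, rfl⟩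
          obtain ⟨l, hl⟩ := hmove (-j) (-i)
          refine ⟨-i, -j, l - k, ?_⟩
          calc (f ^ i * f' ^ j * e ^ k)⁻¹ = e ^ (-k) * (f' ^ (-j) * f ^ (-i)) := by group
            _ = e ^ (-k) * (f ^ (-i) * f' ^ (-j) * e ^ l) := by rw [hl]
            _ = (e ^ (-k) * (f ^ (-i) * f' ^ (-j))) * e ^ l := by group
            _ = ((f ^ (-i) * f' ^ (-j)) * e ^ (-k)) * e ^ l := by
                rw [hek (-k) _ (S.mul_mem (S.zpow_mem hfS _) (S.zpow_mem hfS' _))]
            _ = f ^ (-i) * f' ^ (-j) * e ^ (l - k) := by rw [mul_assoc, ← zpow_add]; congr 2; ring }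
    have hWS : W ≤ S := by
      rintro _ ⟨i, j, k, rfl⟩
      exact S.mul_mem (S.mul_mem (S.zpow_mem hfS i) (S.zpow_mem hfS' j)) (S.zpow_mem heS k)
    have hfW : f ∈ W := ⟨1, 0, 0, by simp⟩
    have hfW' : f' ∈ W := ⟨0, 1, 0, by simp⟩
    have heW : e ∈ W := ⟨0, 0, 1, by simp⟩
    have hcW : ∀ s ∈ S, ∀ t ∈ S, s * t * s⁻¹ * t⁻¹ ∈ W := by
      intro s hs t ht
      obtain ⟨k, hk⟩ := Subgroup.mem_zpowers_iff.mp (hcomm s hs t ht)
      rw [← hk]; exact W.zpow_mem heW k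
    -- automorphisms of `P` and `P'`
    have hPW : ∀ α ∈ F.autGroup P, ∀ x ∈ P, x⁻¹ * ac α x ∈ W := by
      intro α hα x hx
      obtain ⟨c, hc, i, j, rfl⟩ := hdx x hx
      have hmα := (mi_ac (F := F) (α := α) hAD.le).mpr hα
      have heP := hZP hD.mem
      have hcP := hZP (hD.le hc)
      have h1 : ac α (f ^ j * (e ^ i * c)) = (ac α f) ^ j * ((ac α e) ^ i * c) := by
        have hz : ∀ (x : Ω) (hx : x ∈ P) (k : ℤ), ac α (x ^ k) = (ac α x) ^ k := by
          intro x hx k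
          rw [ac_apply α (P.zpow_mem hx k), ac_apply α hx]
          have h4 : (⟨x ^ k, P.zpow_mem hx k⟩ : P) = ⟨x, hx⟩ ^ k := rfl
          rw [h4, map_zpow]; rfl
        rw [hmα.map_mul (P.zpow_mem hfP j) (P.mul_mem (P.zpow_mem heP i) hcP), hmα.map_mul (P.zpow_mem heP i) hcP,
          hz f hfP, hz e heP, hCfix (hD.le.trans hZP) α (hCi α hα) c hc]
      rw [h1]
      have h2 : ac α e ∈ W := by
        obtain ⟨i', j', h⟩ := hV α hα
        rw [h]; exact W.mul_mem (W.zpow_mem hfW _) (W.zpow_mem heW _)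
      have h3 : ac α f ∈ W := by
        obtain ⟨β, hβ, hβe⟩ := hV2
        rw [← hβe, ← ac_mul _ _ heP]
        obtain ⟨i', j', h⟩ := hV (α * β) (Subgroup.mul_mem _ hα hβ)
        rw [h]; exact W.mul_mem (W.zpow_mem hfW _) (W.zpow_mem heW _)
      have h4 : ac α f ∈ P := ac_mem α hfP
      have h5 : ac α e ∈ P := ac_mem α heP
      have h6 : (f ^ j * (e ^ i * c))⁻¹ * ((ac α f) ^ j * ((ac α e) ^ i * c)) = (f ^ j * e ^ i)⁻¹ * ((ac α f) ^ j * (ac α e) ^ i) := by
        have h7 := hAD.ab c⁻¹ (P.inv_mem hcP) ((f ^ j * e ^ i)⁻¹ * ((ac α f) ^ j * (ac α e) ^ i))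
          (P.mul_mem (P.inv_mem (P.mul_mem (P.zpow_mem hfP j) (P.zpow_mem heP i))) (P.mul_mem (P.zpow_mem h4 j) (P.zpow_mem h5 i)))
        calc (f ^ j * (e ^ i * c))⁻¹ * ((ac α f) ^ j * ((ac α e) ^ i * c))
            = (c⁻¹ * ((f ^ j * e ^ i)⁻¹ * ((ac α f) ^ j * (ac α e) ^ i))) * c := by group
          _ = ((f ^ j * e ^ i)⁻¹ * ((ac α f) ^ j * (ac α e) ^ i) * c⁻¹) * c := by rw [h7]
          _ = _ := by group
      rw [h6]
      exact W.mul_mem (W.inv_mem (W.mul_mem (W.zpow_mem hfW j) (W.zpow_mem heW i))) (W.mul_mem (W.zpow_mem h3 j) (W.zpow_mem h2 i))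
    have hPW' : ∀ α ∈ F.autGroup P', ∀ x ∈ P', x⁻¹ * ac α x ∈ W := by
      intro α hα x hx
      obtain ⟨c, hc, i, j, rfl⟩ := hdx' x hx
      have hmα := (mi_ac (F := F) (α := α) hAD'.le).mpr hα
      have heP := hZP' hD'.mem
      have hcP := hZP' (hD'.le hc)
      have h1 : ac α (f' ^ j * (e ^ i * c)) = (ac α f') ^ j * ((ac α e) ^ i * c) := by
        have hz : ∀ (x : Ω) (hx : x ∈ P') (k : ℤ), ac α (x ^ k) = (ac α x) ^ k := by
          intro x hx k
          rw [ac_apply α (P'.zpow_mem hx k), ac_apply α hx]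
          have h4 : (⟨x ^ k, P'.zpow_mem hx k⟩ : P') = ⟨x, hx⟩ ^ k := rfl
          rw [h4, map_zpow]; rfl
        rw [hmα.map_mul (P'.zpow_mem hfP' j) (P'.mul_mem (P'.zpow_mem heP i) hcP), hmα.map_mul (P'.zpow_mem heP i) hcP,
          hz f' hfP', hz e heP, hCfix' (hD'.le.trans hZP') α (hCi' α hα) c hc]
      rw [h1]
      have h2 : ac α e ∈ W := by
        obtain ⟨i', j', h⟩ := hV' α hα
        rw [h]; exact W.mul_mem (W.zpow_mem hfW' _) (W.zpow_mem heW _)
      have h3 : ac α f' ∈ W := by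
        obtain ⟨β, hβ, hβe⟩ := hV2'
        rw [← hβe, ← ac_mul _ _ heP]
        obtain ⟨i', j', h⟩ := hV' (α * β) (Subgroup.mul_mem _ hα hβ)
        rw [h]; exact W.mul_mem (W.zpow_mem hfW' _) (W.zpow_mem heW _)
      have h4 : ac α f' ∈ P' := ac_mem α hfP'
      have h5 : ac α e ∈ P' := ac_mem α heP
      have h6 : (f' ^ j * (e ^ i * c))⁻¹ * ((ac α f') ^ j * ((ac α e) ^ i * c)) = (f' ^ j * e ^ i)⁻¹ * ((ac α f') ^ j * (ac α e) ^ i) := by
        have h7 := hAD'.ab c⁻¹ (P'.inv_mem hcP) ((f' ^ j * e ^ i)⁻¹ * ((ac α f') ^ j * (ac α e) ^ i))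
          (P'.mul_mem (P'.inv_mem (P'.mul_mem (P'.zpow_mem hfP' j) (P'.zpow_mem heP i))) (P'.mul_mem (P'.zpow_mem h4 j) (P'.zpow_mem h5 i)))
        calc (f' ^ j * (e ^ i * c))⁻¹ * ((ac α f') ^ j * ((ac α e) ^ i * c))
            = (c⁻¹ * ((f' ^ j * e ^ i)⁻¹ * ((ac α f') ^ j * (ac α e) ^ i))) * c := by group
          _ = ((f' ^ j * e ^ i)⁻¹ * ((ac α f') ^ j * (ac α e) ^ i) * c⁻¹) * c := by rw [h7]
          _ = _ := by group
      rw [h6]
      exact W.mul_mem (W.inv_mem (W.mul_mem (W.zpow_mem hfW' j) (W.zpow_mem heW i))) (W.mul_mem (W.zpow_mem h3 j) (W.zpow_mem h2 i))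
    have hidx : (P.subgroupOf S).index = 2 := hAD.idx
    have hmem : ∀ a ∈ S, ∀ b ∈ S, a ∉ P → b ∉ P → a * b ∈ P := by
      intro a ha b hb haP hbP
      have := (Subgroup.mul_mem_iff_of_index_two hidx (a := ⟨a, ha⟩) (b := ⟨b, hb⟩)).mpr
        ⟨fun h => absurd h haP, fun h => absurd h hbP⟩
      exact this
    have hWn : ∀ s ∈ S, ∀ w ∈ W, s * w * s⁻¹ ∈ W := by
      intro s hs w hw
      have h1 := W.mul_mem (hcW s hs w (hWS hw)) hw
      have e1 : s * w * s⁻¹ * w⁻¹ * w = s * w * s⁻¹ := by group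
      rwa [e1] at h1
    have hSW : ∀ β ∈ F.autGroup S, ∀ x ∈ S, x⁻¹ * ac β x ∈ W := by
      intro β hβ x hx
      obtain ⟨α, hα, hαe⟩ := res_aut' (F := F) hAD.le hβ (hPinv β hβ)
      obtain ⟨α', hα', hαe'⟩ := res_aut' (F := F) hAD'.le hβ (hPinv' β hβ)
      by_cases hxP : x ∈ P
      · rw [← hαe x hxP]; exact hPW α hα x hxP
      · have h1 : x * f' ∈ P := hmem x hx f' hfS' hxP hf'P
        have h2 := hPW α hα _ h1
        have h3 := hPW' α' hα' _ hfP'
        rw [hαe _ h1, (hm β hβ).map_mul hx hfS'] at h2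
        rw [hαe' _ hfP'] at h3
        -- x⁻¹ β x = f' (f'⁻¹ x⁻¹ βx βf') (βf')⁻¹ f' ·…
        have h4 : x⁻¹ * ac β x = (f' * ((x * f')⁻¹ * (ac β x * ac β f')) * f'⁻¹) * (f'⁻¹ * ac β f')⁻¹ * (f' * (f'⁻¹ * ac β f') * f'⁻¹ * (f'⁻¹ * ac β f')⁻¹)⁻¹ := by
          group
        rw [h4]
        have h5 := hWn f' hfS' _ h2
        have h6 := hWn f' hfS' _ h3
        exact W.mul_mem (W.mul_mem h5 (W.inv_mem h3)) (W.inv_mem (W.mul_mem h6 (W.inv_mem h3)))
    have hall : ∀ {X Y : Subgroup Ω} {g : Ω → Ω}, Mi F X Y g → ∀ x ∈ X, x⁻¹ * g x ∈ W := by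
      intro X Y g hg
      refine map_mod_of_essential hS hF hWS hcW ?_ hg
      rintro Q (rfl | hQ') α hα x hx
      · exact hSW α hα x hx
      · rcases hess Q hQ' with rfl | rfl
        · exact hPW α hα x hx
        · exact hPW' α hα x hx
    have hSle : S ≤ W := by
      rw [← hhyp]
      unfold FusionSystem.hyperfocalSubgroup
      rw [Subgroup.closure_le]
      rintro y ⟨X, α, x, hX, hα, rfl⟩
      have h1 := hall ((mi_ac (F := F) (α := (α : MulAut X)) hX).mpr α.2) x x.2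
      rw [ac_apply _ x.2] at h1
      exact h1
    -- `c₁ ∈ W` is impossible
    obtain ⟨i, j, k, hijk⟩ := hSle (mem_Zc.mp (hD.le hc₁)).1
    have hfj : ∀ j : ℤ, f' ^ j = 1 ∨ f' ^ j = f' := by
      intro i
      have h2 : f' ^ (2 : ℤ) = 1 := by rw [← hf2']; norm_cast
      rcases Int.even_or_odd' i with ⟨k, hk | hk⟩
      · left; rw [hk, zpow_mul, h2, one_zpow]
      · right; rw [hk, zpow_add, zpow_mul, h2, one_zpow, one_mul, zpow_one]
    have hfj1 : ∀ j : ℤ, f ^ j = 1 ∨ f ^ j = f := by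
      intro i
      have h2 : f ^ (2 : ℤ) = 1 := by rw [← hf2]; norm_cast
      rcases Int.even_or_odd' i with ⟨k, hk | hk⟩
      · left; rw [hk, zpow_mul, h2, one_zpow]
      · right; rw [hk, zpow_add, zpow_mul, h2, one_zpow, one_mul, zpow_one]
    have hc₁P := hZP (hD.le hc₁)
    have heP := hZP hD.mem
    have h1 : f' ^ j ∈ P := by
      have h2 : f' ^ j = (f ^ i)⁻¹ * c₁ * (e ^ k)⁻¹ := by rw [hijk]; group
      rw [h2]
      exact P.mul_mem (P.mul_mem (P.inv_mem (P.zpow_mem hfP i)) hc₁P) (P.inv_mem (P.zpow_mem heP k))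
    have h2 : f' ^ j = 1 := by
      rcases hfj j with h | h
      · exact h
      · rw [h] at h1; exact absurd h1 hf'P
    rw [h2, mul_one] at hijk
    have h3 : f ^ i ∈ Zc S := by
      have h4 : f ^ i = c₁ * (e ^ k)⁻¹ := by rw [hijk]; group
      rw [h4]
      exact (Zc S).mul_mem (hD.le hc₁) ((Zc S).inv_mem ((Zc S).zpow_mem hD.mem k))
    have h4 : f ^ i = 1 := by
      rcases hfj1 i with h | h
      · exact h
      · rw [h] at h3; exact absurd h3 hfZ
    rw [h4, one_mul] at hijk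
    rcases hzp k with h | h
    · exact hc₁1' (by rw [hijk, h])
    · exact hD.nmem (by rw [← h, ← hijk]; exact hc₁)
  -- conclusions
  have hZeq : Zc S = Subgroup.zpowers e := by
    apply le_antisymm
    · intro z hz
      obtain ⟨c, hc, i, rfl⟩ := hD.dec z hz
      rw [hC1, Subgroup.mem_bot] at hc
      rw [hc, mul_one]
      exact Subgroup.zpow_mem _ (Subgroup.mem_zpowers e) i
    · rw [Subgroup.zpowers_le]; exact hD.mem
  have hZc : Nat.card (Zc S) = 2 := by rw [hZeq, Nat.card_zpowers, orderOf_eq_prime hD.pow he1]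
  refine ⟨hZc, ?_⟩
  have hcS : Nat.card S = 8 := by
    have := card_mul_relIndex' (inf_le_left : Zc S ≤ S)
    rw [← this, hZc, hQ.idx]
    norm_num
  have hsq : (f * f') * (f * f') = e := by
    have h1 := hcomm f hfS f' hfS'
    have h2 : f⁻¹ = f := inv_eq_of_mul_eq_one_left hff
    have h3 : f'⁻¹ = f' := inv_eq_of_mul_eq_one_left hff'
    rw [h2, h3] at h1
    obtain ⟨k, hk⟩ := Subgroup.mem_zpowers_iff.mp h1
    rcases hzp k with h | h
    · exfalso
      rw [h] at hk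
      apply hnc
      have h5 : (f * f') * (f * f') = 1 := by rw [← mul_assoc]; exact hk.symm
      have h6 := eq_inv_of_mul_eq_one_left h5
      rw [h6, mul_inv_rev, h2, h3]
    · rw [← h, hk]; group
  have hR4 : orderOf (f * f') = 4 := by
    have h1 : (f * f') ^ 4 = 1 := by
      calc (f * f') ^ 4 = ((f * f') * (f * f')) * ((f * f') * (f * f')) := by
            simp only [pow_succ, pow_zero, one_mul, mul_assoc]
        _ = 1 := by rw [hsq, hee]
    have h2 : ¬ (f * f') ^ 2 = 1 := by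
      rw [pow_two, hsq]; exact he1
    have := orderOf_eq_prime_pow (p := 2) (n := 1) (x := f * f') (by rw [pow_one]; exact h2) (by norm_num; exact h1)
    rw [this]; norm_num
  apply H7.dihedral_equiv (⟨f * f', S.mul_mem hfS hfS'⟩ : S) ⟨f, hfS⟩
  · rw [← Subgroup.orderOf_coe]; exact hR4
  · exact Subtype.ext hff
  · apply Subtype.ext
    change f * (f * f') * f = (f * f')⁻¹
    have h2 : f⁻¹ = f := inv_eq_of_mul_eq_one_left hff
    have h3 : f'⁻¹ = f' := inv_eq_of_mul_eq_one_left hff'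
    rw [mul_inv_rev, h2, h3, ← mul_assoc, hff, one_mul]
  · intro h1
    obtain ⟨k, hk⟩ := Subgroup.mem_zpowers_iff.mp h1
    have h2 : (f * f') ^ k = f := congrArg Subtype.val hk
    have h3 : Commute ((f * f') ^ k) (f * f') := (Commute.refl (f * f')).zpow_left k
    rw [h2] at h3
    apply hnc
    have h4 : f * (f * f') = (f * f') * f := h3
    calc f * f' = f * (f * (f * f')) := by rw [← mul_assoc f f, hff, one_mul]
      _ = f * ((f * f') * f) := by rw [h4]
      _ = (f * f) * f' * f := by group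
      _ = f' * f := by rw [hff, one_mul]
  · rw [hcS]

end Cfsg.Agent.L0.Fus.Ess
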