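import Cfsg.Agent.L0.Fus.Ess12

/-!
S5178: extraspecial subgroup of index `p`.
-/

set_option autoImplicit false
set_option maxHeartbeats 1000000

open Pointwise
open scoped commutatorElement

namespace Cfsg.Agent.L0.Fus.Ess
open Cfsg.Agent.L0 Cfsg.FusionSystem

variable {Ω : Type*} [Group Ω] {S A P R : Subgroup Ω} [Finite S] {p : ℕ} [hp : Fact p.Prime] {F : FusionSystem S}

theorem exsp_center {Q : Subgroup Ω} (hQ : Cfsg.IsExtraspecial p ↥Q) :
    Nat.card (Zc Q) = p ∧ (∀ x ∈ Q, ∀ y ∈ Q, x * y * x⁻¹ * y⁻¹ ∈ Zc Q) ∧ ¬ ∀ x ∈ Q, ∀ y ∈ Q, x * y = y * x := by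
  have h0 : Nat.card (Zc Q) = p := by
    rw [← hQ.2, center_eq_Zc]
    exact (Nat.card_congr (Subgroup.subgroupOfEquivOfLe inf_le_left).toEquiv).symm
  refine ⟨h0, ?_, ?_⟩
  · intro x hx y hy
    have h1 : ⁅(⟨x, hx⟩ : Q), ⟨y, hy⟩⁆ ∈ commutator Q := Subgroup.commutator_mem_commutator (Subgroup.mem_top _) (Subgroup.mem_top _)
    rw [hQ.1.2.2, center_eq_Zc] at h1
    exact h1
  · intro hab
    have h1 : commutator Q = ⊥ := by
      rw [commutator_def, Subgroup.commutator_eq_bot_iff_le_centralizer]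
      intro x _
      rw [Subgroup.mem_centralizer_iff]
      intro y _
      exact Subtype.ext (hab y y.2 x x.2)
    rw [hQ.1.2.2] at h1
    have h2 := hQ.2
    rw [h1, Subgroup.card_bot] at h2
    exact hp.out.one_lt.ne h2

theorem s5178 (hp2 : p ≠ 2) (hS : IsPGroup p S) {Q : Subgroup Ω} (hQS : Q ≤ S) (hQ : Cfsg.IsExtraspecial p ↥Q)
    (hQi : (Q.subgroupOf S).index = p) (hF : F.IsSaturated p) (hO : F.core = ⊥) : Zc S = Zc Q := by
  obtain ⟨hZc, hcl, hna⟩ := exsp_center hQ
  haveI := finite_of_le hQS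
  haveI : Finite (Zc Q) := finite_of_le (S := Q) inf_le_left
  by_cases hle : Zc S ≤ Q
  · have h1 : Zc S ≤ Zc Q := fun z hz => mem_Zc.mpr ⟨hle hz, fun s hs => (mem_Zc.mp hz).2 s (hQS hs)⟩
    have h2 := Subgroup.card_dvd_of_le h1
    rw [hZc, Nat.dvd_prime hp.out] at h2
    rcases h2 with h2 | h2
    · exfalso
      haveI : Nontrivial S := by
        rw [Subgroup.nontrivial_iff_ne_bot]
        rintro rfl
        apply hna
        intro x hx y hy
        have h3 := hQS hx
        have h4 := hQS hy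
        rw [Subgroup.mem_bot] at h3 h4
        rw [h3, h4]
      haveI := hS.center_nontrivial
      have h3 : Nat.card (Subgroup.center S) = 1 := by
        rw [center_eq_Zc, ← h2]
        exact Nat.card_congr (Subgroup.subgroupOfEquivOfLe inf_le_left).toEquiv
      have := Finite.one_lt_card (α := Subgroup.center S)
      omega
    · exact Subgroup.eq_of_le_of_card_ge h1 (by rw [hZc, h2])
  exfalso
  obtain ⟨z, hz, hzQ⟩ := Set.not_subset.mp hle
  have hz' : z ∈ Zc S := hz
  have hzS := (mem_Zc.mp hz').1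
  have hzc := (mem_Zc.mp hz').2
  -- decomposition
  have hdec : ∀ s ∈ S, ∃ q ∈ Q, ∃ i : ℤ, s = q * z ^ i := by
    intro s hs
    haveI : (Q.subgroupOf S).Normal := normal_of_index_p hS hQi
    have h1 : Nat.card (S ⧸ Q.subgroupOf S) = p := hQi
    have h2 : (QuotientGroup.mk (⟨z, hzS⟩ : S) : S ⧸ Q.subgroupOf S) ≠ 1 := by
      rw [Ne, QuotientGroup.eq_one_iff]; exact hzQ
    obtain ⟨i, hi⟩ := mem_zpowers_of_prime_card (g' := (QuotientGroup.mk (⟨s, hs⟩ : S) : S ⧸ Q.subgroupOf S)) h1 h2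
    refine ⟨s * z ^ (-i), ?_, i, by group⟩
    have h3 : (QuotientGroup.mk ((⟨s, hs⟩ : S) * ⟨z, hzS⟩ ^ (-i)) : S ⧸ Q.subgroupOf S) = 1 := by
      rw [QuotientGroup.mk_mul, QuotientGroup.mk_zpow, ← hi]; group
    rw [QuotientGroup.eq_one_iff] at h3
    exact h3
  have hZZ : Zc Q ≤ Zc S := by
    intro c hc
    obtain ⟨hcQ, hcc⟩ := mem_Zc.mp hc
    refine mem_Zc.mpr ⟨hQS hcQ, fun s hs => ?_⟩
    obtain ⟨q, hq, i, rfl⟩ := hdec s hs
    have h1 : Commute q c := hcc q hq
    have h2 : Commute z c := (hzc c (hQS hcQ)).symm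
    exact (h1.mul_left (h2.zpow_left i))
  have hclS : ∀ x ∈ S, ∀ y ∈ S, x * y * x⁻¹ * y⁻¹ ∈ Zc Q := by
    intro x hx y hy
    obtain ⟨q, hq, i, rfl⟩ := hdec x hx
    obtain ⟨r, hr, j, rfl⟩ := hdec y hy
    have h1 : Commute (z ^ i) (r * z ^ j) := ((show Commute z (r * z ^ j) from (hzc _ hy).symm).zpow_left i)
    have h2 : Commute (z ^ j) q := ((show Commute z q from (hzc _ (hQS hq)).symm).zpow_left j)
    have h3 : q * z ^ i * (r * z ^ j) * (q * z ^ i)⁻¹ * (r * z ^ j)⁻¹ = q * r * q⁻¹ * r⁻¹ := by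
      calc q * z ^ i * (r * z ^ j) * (q * z ^ i)⁻¹ * (r * z ^ j)⁻¹
          = q * (z ^ i * (r * z ^ j)) * (z ^ i)⁻¹ * q⁻¹ * (r * z ^ j)⁻¹ := by group
        _ = q * ((r * z ^ j) * z ^ i) * (z ^ i)⁻¹ * q⁻¹ * (r * z ^ j)⁻¹ := by rw [h1.eq]
        _ = q * r * (z ^ j * q⁻¹) * (z ^ j)⁻¹ * r⁻¹ := by group
        _ = q * r * (q⁻¹ * z ^ j) * (z ^ j)⁻¹ * r⁻¹ := by rw [h2.inv_right.eq]
        _ = q * r * q⁻¹ * r⁻¹ := by group
    rw [h3]
    exact hcl q hq r hr
  have hnaS : ¬ ∀ x ∈ S, ∀ y ∈ S, x * y = y * x := fun h => hna fun x hx y hy => h x (hQS hx) y (hQS hy)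
  have hpow : ∀ c ∈ Zc Q, c ≠ 1 → Zc Q = Subgroup.zpowers c := by
    intro c hc hc1
    refine (Subgroup.eq_of_le_of_card_ge (by rwa [Subgroup.zpowers_le]) ?_).symm
    rw [Nat.card_zpowers, orderOf_eq_prime (pow_eq_one_of_card hZc hc) hc1, hZc]
  by_cases hE : ∃ P, F.IsEssential p P ∧ ∀ x ∈ P, ∀ y ∈ P, x * y = y * x
  · obtain ⟨P, hP, hPab⟩ := hE
    have hPS := hP.1.1
    haveI := finite_of_le hPS
    have hcP : centralizerIn S P ≤ P := hP.1.2 P (isConj_refl hPS)
    obtain ⟨hPc, hPr⟩ := essential_centric_radical hS hP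
    have hlt := essential_lt hS hF hP
    have hZP : Zc S ≤ P := by
      intro z hz
      refine hcP (Subgroup.mem_inf.mpr ⟨(mem_Zc.mp hz).1, ?_⟩)
      rw [Subgroup.mem_centralizer_iff]
      exact fun y hy => (mem_Zc.mp hz).2 y (hPS hy)
    have hnorm : ∀ s ∈ S, ∀ u ∈ P, s * u * s⁻¹ ∈ P := by
      intro s hs u hu
      have h1 := P.mul_mem (hZP (hZZ (hclS s hs u (hPS hu)))) hu
      have h2 : s * u * s⁻¹ * u⁻¹ * u = s * u * s⁻¹ := by group
      rwa [h2] at h1
    have hNS : normalizerIn S P = S := by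
      refine le_antisymm inf_le_left fun s hs => Subgroup.mem_inf.mpr ⟨hs, ?_⟩
      exact Subgroup.mem_normalizer_fintype fun u hu => hnorm s hs u hu
    have hcen : centralizerIn S P = P := by
      refine le_antisymm hcP fun u hu => Subgroup.mem_inf.mpr ⟨hPS hu, ?_⟩
      rw [Subgroup.mem_centralizer_iff]
      exact fun y hy => hPab y hy u hu
    obtain ⟨a, ha, haP⟩ := Set.not_subset.mp hlt.not_ge
    have haS : a ∈ S := ha
    have han : a ∈ Subgroup.normalizer (P : Set Ω) := by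
      have : a ∈ normalizerIn S P := by rw [hNS]; exact haS
      exact (Subgroup.mem_inf.mp this).2
    obtain ⟨Y, hTY, hY⟩ := exists_sem hS hF hP hPab
    have hT : Nat.card (autInducedBy S P) ≤ p := by
      letI : CommGroup P := { (inferInstance : Group P) with mul_comm := fun x y => Subtype.ext (hPab x x.2 y y.2) }
      refine tv1' (P := P) (L := (Zc Q).subgroupOf P) hTY hY ?_ ?_ ?_ ?_ ?_
      · exact isPGroup_autInducedBy hS hPS
      · rw [← hZc]
        exact Nat.card_congr (Subgroup.subgroupOfEquivOfLe (hZZ.trans hZP)).toEquiv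
      · intro t ht c hc
        obtain ⟨g, hg, hgt⟩ := mem_autInducedBy.mp ht
        apply Subtype.ext
        rw [hgt]
        have h9 : g * (c : Ω) = c * g := (mem_Zc.mp (hZZ hc)).2 g hg
        rw [h9, mul_inv_cancel_right]
      · intro t ht x
        obtain ⟨g, hg, hgt⟩ := mem_autInducedBy.mp ht
        change ((t x : P) : Ω) * (x : Ω)⁻¹ ∈ Zc Q
        rw [hgt]
        exact hclS g hg x (hPS x.2)
      · intro hinv
        apply haP
        refine mem_of_trivial_chain hS hPc hPr (hZZ.trans hZP) ?_ haS han ?_ ?_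
        · intro β hβ c hc
          have := hinv β hβ ⟨c, hZP (hZZ hc)⟩ hc
          rw [ac_apply _ (hZP (hZZ hc))]
          exact this
        · intro c hc
          rw [(mem_Zc.mp (hZZ hc)).2 a haS, mul_inv_cancel_right]
        · intro x hx
          exact hclS a haS x (hPS hx)
    have h4 : Nat.card (autInducedBy S P) * Nat.card P = Nat.card (normalizerIn S P) := by rw [card_normalizerIn, hcen]
    rw [hNS, ← card_mul_relIndex' hPS, mul_comm (Nat.card P)] at h4
    have h5 : Nat.card (autInducedBy S P) = P.relIndex S := Nat.eq_of_mul_eq_mul_right Nat.card_pos h4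
    have h6 : P.relIndex S = p := by
      have h7 : P.relIndex S ≠ 1 := fun h => hlt.not_ge (Subgroup.relIndex_eq_one.mp h)
      obtain ⟨k, hk⟩ := (IsPGroup.iff_card.mp hS)
      have h8 : P.relIndex S ∣ p ^ k := by rw [← hk]; exact Dvd.intro_left _ (card_mul_relIndex' hPS)
      obtain ⟨j, -, hj⟩ := (Nat.dvd_prime_pow hp.out).mp h8
      rw [h5, hj] at hT
      rw [hj] at h7 ⊢
      have h9 : j ≠ 0 := by rintro rfl; exact h7 (pow_zero p)
      have h10 : j ≤ 1 := by
        by_contra hcon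
        have := Nat.pow_lt_pow_right hp.out.one_lt (show 1 < j by omega)
        rw [pow_one] at this
        omega
      obtain rfl : j = 1 := by omega
      exact pow_one p
    have hAD : AD S P p := AD.mk' hS hPS hPab h6
    have hkc := kim_card hAD (hx := haS) haP (N := P) le_rfl
    have hkle : kim hAD a haS P ≤ Zc Q := by
      intro y hy
      obtain ⟨b, hb, -, rfl⟩ := (mem_kim hAD).mp hy
      exact hclS b (hPS hb) a haS
    have h7 : P ⊓ Zc S = Zc S := inf_eq_right.mpr hZP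
    rw [h7, ← card_mul_relIndex' hZP, mul_comm] at hkc
    haveI : Finite (Zc S) := finite_of_le (S := S) inf_le_left
    have h8 : Nat.card (kim hAD a haS P) = (Zc S).relIndex P := Nat.eq_of_mul_eq_mul_left Nat.card_pos hkc
    have h9 := Subgroup.card_dvd_of_le hkle
    rw [hZc, h8, Nat.dvd_prime hp.out] at h9
    have h10 : (Zc S).relIndex P = p := by
      rcases h9 with h9 | h9
      · exfalso
        rw [Subgroup.relIndex_eq_one] at h9
        apply haP
        apply hcP
        refine Subgroup.mem_inf.mpr ⟨haS, ?_⟩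
        rw [Subgroup.mem_centralizer_iff]
        exact fun y hy => ((mem_Zc.mp (h9 hy)).2 a haS).symm
      · exact h9
    have hSQ : SQ S p := by
      refine ⟨fun s hs t ht => hZZ (hclS s hs t ht), ?_, hnaS⟩
      rw [← Subgroup.relIndex_mul_relIndex (Zc S) P S hZP hPS, h10, h6, pow_two]
    have hS1 : S ≠ ⊥ := by
      rintro rfl
      apply haP
      rw [Subgroup.mem_bot] at haS
      rw [haS]
      exact P.one_mem
    have h11 := (s5265_odd hp2 hS hF hSQ hO hS1).1
    have h12 : Zc Q = Zc S := Subgroup.eq_of_le_of_card_ge hZZ (by rw [h11, hZc])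
    apply hzQ
    have : z ∈ Zc Q := by rw [h12]; exact hz'
    exact (mem_Zc.mp this).1
  · push Not at hE
    have hn : F.IsNormal (Zc Q) := by
      apply normal_of_essential hS hF
      intro P hP
      have hPS : P ≤ S := by
        rcases hP with rfl | hP
        · exact le_rfl
        · exact hP.1.1
      have hP' : ∃ x ∈ P, ∃ y ∈ P, x * y ≠ y * x := by
        rcases hP with rfl | hP
        · by_contra hcon
          push Not at hcon
          exact hnaS hcon
        · exact hE P hP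
      obtain ⟨x, hx, y, hy, hxy⟩ := hP'
      have hc := hclS x (hPS hx) y (hPS hy)
      have hc1 : x * y * x⁻¹ * y⁻¹ ≠ 1 := by
        intro h1
        apply hxy
        rw [mul_inv_eq_one, mul_inv_eq_iff_eq_mul] at h1
        exact h1
      have hz1 := hpow _ hc hc1
      have hcP : x * y * x⁻¹ * y⁻¹ ∈ P := P.mul_mem (P.mul_mem (P.mul_mem hx hy) (P.inv_mem hx)) (P.inv_mem hy)
      refine ⟨by rw [hz1, Subgroup.zpowers_le]; exact hcP, fun α hα u hu => ?_⟩
      rw [hz1] at hu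
      obtain ⟨i, hi⟩ := Subgroup.mem_zpowers_iff.mp hu
      have h1 : u = ((⟨x, hx⟩ : P) * ⟨y, hy⟩ * ⟨x, hx⟩⁻¹ * ⟨y, hy⟩⁻¹) ^ i := Subtype.ext hi.symm
      rw [h1, map_zpow, map_mul, map_mul, map_mul, map_inv, map_inv]
      exact (Zc Q).zpow_mem (hclS _ (hPS (α ⟨x, hx⟩).2) _ (hPS (α ⟨y, hy⟩).2)) i
    have h1 := le_core hn
    rw [hO, le_bot_iff] at h1
    rw [h1, Subgroup.card_bot] at hZc
    exact hp.out.one_lt.ne hZc

end Cfsg.Agent.L0.Fus.Ess
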