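import Cfsg.Agent.L0.Fus.Prime10
set_option autoImplicit false
/-! Radical centric subgroups and strongly closed subgroups. -/

open Pointwise

namespace Cfsg.Agent.L0.Fus

open Cfsg.Agent.L0 Cfsg.FusionSystem

variable {Ω : Type*} [Group Ω] {S : Subgroup Ω}

section
variable {F : FusionSystem S} {P Q R D D' X X' W W' P' : Subgroup Ω} {f g μ : Ω → Ω} {a b : MulAut S} {p : ℕ}
variable [Fact p.Prime] [Finite S]

theorem radical_iff (hS : IsPGroup p S) (hPS : P ≤ S) : F.IsRadical p P ↔ ∀ O : Subgroup (MulAut P), O ≤ F.autGroup P → IsPGroup p O →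
    (∀ α ∈ F.autGroup P, ∀ o ∈ O, α * o * α⁻¹ ∈ O) → O ≤ Inn P := by
  haveI := finite_of_le hPS
  haveI := finite_autGroup (S := S) hPS
  haveI : Finite (F.autGroup P) := inferInstance
  constructor
  · intro hr O hO hOp hOn
    have h1 : (O.subgroupOf (F.autGroup P)).Normal := ⟨fun o ho α => hOn α α.2 o ho⟩
    have h2 : O.subgroupOf (F.autGroup P) ≤ pCore p (F.autGroup P) := le_pCore (IsPGroup.comap_subtype hOp)
    intro o ho
    rw [← hr.2]
    exact ⟨⟨o, hO ho⟩, h2 ho, rfl⟩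
  · intro h
    refine ⟨hPS, le_antisymm ?_ ?_⟩
    · refine h _ (Subgroup.map_subtype_le _) ((pCore_isPGroup p _).map _) ?_
      rintro α hα _ ⟨o, ho, rfl⟩
      have hN : (pCore p (F.autGroup P)).Normal := inferInstance
      exact ⟨_, hN.conj_mem o ho ⟨α, hα⟩, rfl⟩
    · intro x hx
      have h1 := inn_le_autGroup (F := F) hPS hx
      exact ⟨⟨x, h1⟩, isPGroup_inn' hS hPS (Subgroup.mem_subgroupOf.mpr hx), rfl⟩

theorem radical_conj (hS : IsPGroup p S) (h : F.IsRadical p P) (hPQ : F.IsConj P Q) : F.IsRadical p Q := by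
  obtain ⟨e, he⟩ := isConj_iff.mp hPQ
  have hPS := he.le_left
  have hQS := he.le_right
  rw [radical_iff hS hPS] at h
  rw [radical_iff hS hQS]
  intro O hO hOp hOn
  have h1 := h (O.comap (autCongr e).toMonoidHom) (fun α hα => by
      have h2 := autCongr_mem he.symm (hO hα)
      have h3 : autCongr e.symm ((autCongr e) α) = α := (autCongr e).symm_apply_apply α
      have h4 : autCongr e.symm ((autCongr e).toMonoidHom α) = α := h3
      rwa [h4] at h2)
    (by
      intro x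
      obtain ⟨k, hk⟩ := hOp ⟨_, x.2⟩
      refine ⟨k, Subtype.ext ((autCongr e).injective ?_)⟩
      have h2 := congrArg Subtype.val hk
      rw [Subgroup.coe_pow, map_pow]
      rw [Subgroup.coe_pow] at h2
      rw [Subgroup.coe_one, map_one]
      exact h2)
    (fun α hα o ho => by
      change (autCongr e) (α * o * α⁻¹) ∈ O
      rw [map_mul, map_mul, map_inv]
      exact hOn _ (autCongr_mem he hα) _ ho)
  intro o ho
  have h2 := h1 (x := (autCongr e).symm o) (by
    change (autCongr e) ((autCongr e).symm o) ∈ O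
    rw [(autCongr e).apply_symm_apply]; exact ho)
  rw [mem_Inn] at h2 ⊢
  obtain ⟨x, hx⟩ := h2
  refine ⟨e x, fun y => ?_⟩
  have h3 := hx (e.symm y)
  rw [autCongr_symm, autCongr_apply] at h3
  have h4 := congrArg e h3
  simp only [map_mul, map_inv, MulEquiv.apply_symm_apply, MulEquiv.symm_symm] at h4
  exact h4

theorem centralizer_le_of_radical (hS : IsPGroup p S) {T : Subgroup Ω} (hT : F.StronglyClosed T) (hPc : F.IsCentric P) (hPr : F.IsRadical p P) :
    centralizerIn T (P ⊓ T) ≤ P ⊓ T := by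
  have hPS := hPc.1
  have hTS := hT.1
  haveI := finite_of_le hPS
  haveI := finite_autGroup (S := S) hPS
  suffices hle : centralizerIn T (P ⊓ T) ≤ P from le_inf hle inf_le_left
  by_contra hcon
  set C := centralizerIn T (P ⊓ T) with hC
  have hPn : P ≤ Subgroup.normalizer (C : Set Ω) := by
    intro u hu
    have huT := (StronglyClosed.le_normalizer hT) (hPS hu)
    have key : ∀ v ∈ P, ∀ c ∈ C, v * c * v⁻¹ ∈ C := by
      intro v hv c hc
      obtain ⟨hcT, hcc⟩ := mem_centralizerIn.mp hc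
      have hvT := (StronglyClosed.le_normalizer hT) (hPS hv)
      refine mem_centralizerIn.mpr ⟨(Subgroup.mem_normalizer_iff.mp hvT c).mp hcT, fun x hx => ?_⟩
      have hx' := Subgroup.mem_inf.mp hx
      have h1 : v⁻¹ * x * v ∈ P ⊓ T := Subgroup.mem_inf.mpr ⟨P.mul_mem (P.mul_mem (P.inv_mem hv) hx'.1) hv,
        (Subgroup.mem_normalizer_iff''.mp hvT x).mp hx'.2⟩
      have h2 := hcc _ h1
      calc x * (v * c * v⁻¹) = v * ((v⁻¹ * x * v) * c) * v⁻¹ := by group
        _ = v * (c * (v⁻¹ * x * v)) * v⁻¹ := by rw [h2]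
        _ = v * c * v⁻¹ * x := by group
    rw [Subgroup.mem_normalizer_iff]
    intro c
    refine ⟨key u hu c, fun h => ?_⟩
    have h1 := key u⁻¹ (P.inv_mem hu) _ h
    have h2 : u⁻¹ * (u * c * u⁻¹) * u⁻¹⁻¹ = c := by group
    rwa [h2] at h1
  have hCS : C ≤ S := inf_le_left.trans hTS
  have hM : P ⊔ C ≤ S := sup_le hPS hCS
  have hlt : P < P ⊔ C := lt_of_le_of_ne le_sup_left fun h => hcon (by rw [h]; exact le_sup_right)
  haveI := finite_of_le hM
  obtain ⟨y, hyM, hyN, hyP⟩ := exists_mem_normalizer_of_lt (hS.to_le hM) hlt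
  have h1 : y ∈ ((P ⊔ C : Subgroup Ω) : Set Ω) := hyM
  rw [Subgroup.coe_mul_of_left_le_normalizer_right P C hPn] at h1
  obtain ⟨u, hu, c, hc, rfl⟩ := Set.mem_mul.mp h1
  have huN : u ∈ Subgroup.normalizer (P : Set Ω) := Subgroup.le_normalizer hu
  have hcN : c ∈ Subgroup.normalizer (P : Set Ω) := by
    have h2 := (Subgroup.normalizer (P : Set Ω)).mul_mem ((Subgroup.normalizer (P : Set Ω)).inv_mem huN) hyN
    rwa [inv_mul_cancel_left] at h2
  have hcP : c ∉ P := fun h => hyP (P.mul_mem hu h)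
  have hcS : c ∈ S := hCS hc
  obtain ⟨hcT, hcc⟩ := mem_centralizerIn.mp hc
  -- the normal p-subgroup
  let B : Subgroup (MulAut P) :=
    { carrier := {β | β ∈ F.autGroup P ∧ (∀ x : P, (x : Ω) ∈ T → β x = x) ∧ ∀ x : P, (x : Ω)⁻¹ * (β x : P) ∈ T}
      one_mem' := ⟨Subgroup.one_mem _, fun x _ => rfl, fun x => by
        change (x : Ω)⁻¹ * (x : Ω) ∈ T
        rw [inv_mul_cancel]; exact T.one_mem⟩
      mul_mem' := by
        rintro β γ ⟨h1, h2, h3⟩ ⟨h4, h5, h6⟩
        refine ⟨Subgroup.mul_mem _ h1 h4, fun x hx => by rw [MulAut.mul_apply, h5 x hx, h2 x hx], fun x => ?_⟩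
        rw [MulAut.mul_apply]
        have h7 := T.mul_mem (h6 x) (h3 (γ x))
        have h8 : (x : Ω)⁻¹ * (γ x : P) * ((γ x : P) : Ω)⁻¹ * (β (γ x) : P) = (x : Ω)⁻¹ * (β (γ x) : P) := by group
        rw [← mul_assoc, h8] at h7
        exact h7
      inv_mem' := by
        rintro β ⟨h1, h2, h3⟩
        refine ⟨Subgroup.inv_mem _ h1, fun x hx => by rw [MulAut.inv_apply, MulEquiv.symm_apply_eq, h2 x hx], fun x => ?_⟩
        have h4 := h3 (β⁻¹ x)
        rw [MulAut.apply_inv_self] at h4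
        have h5 := T.inv_mem h4
        rwa [mul_inv_rev, inv_inv] at h5 }
  have hBmem : ∀ β : MulAut P, β ∈ B ↔ β ∈ F.autGroup P ∧ (∀ x : P, (x : Ω) ∈ T → β x = x) ∧ ∀ x : P, (x : Ω)⁻¹ * (β x : P) ∈ T := fun β => Iff.rfl
  have hBp : IsPGroup p B := by
    obtain ⟨k, hk⟩ := IsPGroup.iff_card.mp (hS.to_le hPS)
    rintro ⟨β, hβ⟩
    obtain ⟨h1, h2, h3⟩ := (hBmem β).mp hβ
    refine ⟨k, Subtype.ext ?_⟩
    change β ^ p ^ k = 1
    have h4 : ∀ (n : ℕ) (x : P), (β ^ n) x = x * (x⁻¹ * β x) ^ n := by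
      intro n x
      induction n with
      | zero => simp
      | succ n ih =>
        rw [pow_succ', MulAut.mul_apply, ih, map_mul, map_pow]
        have h5 : β (x⁻¹ * β x) = x⁻¹ * β x := h2 _ (h3 x)
        rw [h5, pow_succ', ← mul_assoc x, mul_inv_cancel_left]
    ext x
    rw [h4, ← hk, pow_card_eq_one']
    simp
  have hBn : ∀ α ∈ F.autGroup P, ∀ o ∈ B, α * o * α⁻¹ ∈ B := by
    intro α hα o ho
    obtain ⟨h1, h2, h3⟩ := (hBmem o).mp ho
    refine ⟨Subgroup.mul_mem _ (Subgroup.mul_mem _ hα h1) (Subgroup.inv_mem _ hα), fun x hx => ?_, fun x => ?_⟩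
    · rw [MulAut.mul_apply, MulAut.mul_apply, h2 _ (StronglyClosed.aut_mem hT hPS (Subgroup.inv_mem _ hα) hx), MulAut.apply_inv_self]
    · rw [MulAut.mul_apply, MulAut.mul_apply]
      have h4 := StronglyClosed.aut_mem hT hPS hα (x := (α⁻¹ x)⁻¹ * o (α⁻¹ x)) (h3 (α⁻¹ x))
      rw [map_mul, map_inv, MulAut.apply_inv_self] at h4
      exact h4
  set τ := P.normalizerMonoidHom ⟨c, hcN⟩ with hτ
  have hτA : τ ∈ F.autGroup P := autInducedBy_le_autGroup F hPS (mem_autInducedBy.mpr ⟨c, hcS, fun x => rfl⟩)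
  have hτB : τ ∈ B := by
    refine (hBmem τ).mpr ⟨hτA, fun x hx => Subtype.ext ?_, fun x => ?_⟩
    · change c * x * c⁻¹ = x
      rw [← hcc x (Subgroup.mem_inf.mpr ⟨x.2, hx⟩)]; group
    · change (x : Ω)⁻¹ * (c * x * c⁻¹) ∈ T
      have h2 := (Subgroup.mem_normalizer_iff''.mp ((StronglyClosed.le_normalizer hT) (hPS x.2)) c).mp hcT
      have h3 : (x : Ω)⁻¹ * (c * x * c⁻¹) = ((x : Ω)⁻¹ * c * x) * c⁻¹ := by group
      rw [h3]
      exact T.mul_mem h2 (T.inv_mem hcT)
  have h2 : τ ∈ Inn P := (radical_iff hS hPS).mp hPr B (fun β hβ => hβ.1) hBp hBn hτB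
  exact hcP (mem_of_induced_inn (hPc.2 P (isConj_refl hPS)) hcS h2 (fun x => rfl) hPS)

omit [Fact p.Prime] [Finite S] in
theorem cent_of_im {Y : Subgroup Ω} (ha : a ∈ F.autGroup S) (hY : Y ≤ S) (h : centralizerIn S (im a Y) ≤ im a Y) :
    centralizerIn S Y ≤ Y := by
  have hi := mi_im ha hY
  have hm := (mi_ac (F := F) (P := S) le_rfl).mpr ha
  intro c hc
  have hcS := (mem_centralizerIn.mp hc).1
  have h2 := h (mem_centralizerIn.mpr ⟨ac_mem a hcS, fun x hx => by
    obtain ⟨y, hy, rfl⟩ := hi.surj hx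
    rw [← hm.map_mul (hY hy) hcS, ← hm.map_mul hcS (hY hy), (mem_centralizerIn.mp hc).2 y hy]⟩)
  obtain ⟨y, hy, hyc⟩ := hi.surj h2
  have : y = c := hm.inj (hY hy) hcS hyc
  rwa [← this]

/-- centricity in `G` is invariant under `F` -/
theorem centric_of_fr {G : FusionSystem S} (hG : GD F G) (hfr : ∀ P Q f, Mi F P Q f → ∃ a, V F G P Q f a)
    (hP : G.IsCentric P) (hf : Mi F P Q f) : G.IsCentric Q := by
  refine ⟨hf.le', fun Y hY => ?_⟩
  obtain ⟨g, hg⟩ := exists_mi_of_isConj hY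
  have h1 := hf.comp (hg.mono hG.le)
  obtain ⟨a, ha, haV⟩ := hfr _ _ _ h1
  exact cent_of_im ((F.autGroup S).inv_mem ha) h1.le' (hP.2 _ haV.isConj)

theorem inf_centric (hS : IsPGroup p S) {T : Subgroup Ω} {E : FusionSystem T} (hE : E.IsWeaklyNormalIn F p)
    (hPc : F.IsCentric P) (hPr : F.IsRadical p P) : E.IsCentric (P ⊓ T) := by
  have hF := hE.2.1
  have hinv := hE.2.2
  have hT := hinv.2.1
  have hTS : T ≤ S := hT.1
  haveI : Finite T := finite_of_le hTS
  have hPS := hPc.1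
  obtain ⟨Q, hRQ, hQ⟩ := exists_fullyNormalized (F := F) (show P ⊓ T ≤ S from inf_le_left.trans hPS)
  obtain ⟨φ, hφ, hφN, hφR⟩ := exists_map_normalizerIn hS (fullyAutomized_of_fullyNormalized_sat hS hF hQ)
    (receptive_of_fullyNormalized_sat hS hF hQ) hRQ
  have hκ := mi_toF.mpr hφ
  have hPN : P ≤ normalizerIn S (P ⊓ T) := by
    intro u hu
    refine mem_normalizerIn.mpr ⟨hPS hu, ?_⟩
    have huT := (StronglyClosed.le_normalizer hT) (hPS hu)
    rw [Subgroup.mem_normalizer_iff]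
    intro x
    constructor
    · intro hx
      have hx' := Subgroup.mem_inf.mp hx
      exact Subgroup.mem_inf.mpr ⟨P.mul_mem (P.mul_mem hu hx'.1) (P.inv_mem hu), (Subgroup.mem_normalizer_iff.mp huT x).mp hx'.2⟩
    · intro hx
      have hx' := Subgroup.mem_inf.mp hx
      refine Subgroup.mem_inf.mpr ⟨?_, (Subgroup.mem_normalizer_iff.mp huT x).mpr hx'.2⟩
      have h1 := P.mul_mem (P.mul_mem (P.inv_mem hu) hx'.1) hu
      have h2 : u⁻¹ * (u * x * u⁻¹) * u = x := by group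
      rwa [h2] at h1
  obtain ⟨P₁, hP₁, hκP, -⟩ := hκ.restrict hPN
  have h1 := hκP.inf hTS hT
  have hR : P₁ ⊓ T = Q := by
    have h2 : Mi F (P ⊓ T) Q (toF φ) := by
      have hRN : P ⊓ T ≤ normalizerIn S (P ⊓ T) := inf_le_left.trans hPN
      refine hκ.restrict_of hRN fun y => ?_
      rw [← hφR]
      constructor
      · rintro ⟨x, hx, rfl⟩
        exact ⟨x, hx, toF_apply φ x.2⟩
      · rintro ⟨x, hx, rfl⟩
        exact ⟨⟨x, hRN hx⟩, hx, (toF_apply φ (hRN hx)).symm⟩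
    exact ((mi_restrictSystem hTS).mp h1).1.range_unique h2 (fun _ _ => rfl)
  have hP₁c : F.IsCentric P₁ := by
    obtain ⟨θ, hθ, e1, e2⟩ := hκP
    rw [← e2]; exact centric_range hPc hθ
  have h2 := centralizer_le_of_radical hS hT hP₁c (radical_conj hS hPr hκP.isConj)
  rw [hR] at h2
  have hQT : Q ≤ T := by rw [← hR]; exact inf_le_right
  have h3 := fullyNormalized_sub inferInstance hS hF hinv.1 hT hQT hQ
  have h4 := centric_of_fullyCentralized (fc_of_fn (hS.to_le hTS) hE.1 h3) h2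
  have hG := gd_of_invariant hTS hinv
  rw [hR] at h1
  obtain ⟨g, hg, -, -⟩ := h1.symm
  exact centric_of_fr hG (fun _ _ _ h => fr_of_invariant hTS hinv h) h4 hg

end

end Cfsg.Agent.L0.Fus
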