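import Cfsg.Agent.L0.Fus.Prime11
set_option autoImplicit false
/-! Comparing two saturated systems `E ≤ F` over the same group. -/

open Pointwise

namespace Cfsg.Agent.L0.Fus

open Cfsg.Agent.L0 Cfsg.FusionSystem

variable {Ω : Type*} [Group Ω] {S : Subgroup Ω}

section
variable {F E : FusionSystem S} {P Q R R' A : Subgroup Ω} {f g : Ω → Ω} {p : ℕ}
variable [Fact p.Prime] [Finite S]

theorem exists_mi_norm (hS : IsPGroup p S) (hF : F.IsSaturated p) (hQ : F.IsFullyNormalized Q) (hP : F.IsConj P Q) :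
    ∃ κ N', Mi F (normalizerIn S P) N' κ ∧ N' ≤ normalizerIn S Q ∧ Mi F P Q κ := by
  obtain ⟨φ, hφ, hφN, hφD⟩ := exists_map_normalizerIn hS (fullyAutomized_of_fullyNormalized_sat hS hF hQ)
    (receptive_of_fullyNormalized_sat hS hF hQ) hP
  have hκ := mi_toF.mpr hφ
  have hQN : P ≤ normalizerIn S P := le_normalizerIn (isConj_le_left hP)
  have hκD : Mi F P Q (toF φ) := by
    refine hκ.restrict_of hQN fun y => ?_
    rw [← hφD]
    constructor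
    · rintro ⟨x, hx, rfl⟩
      exact ⟨x, hx, toF_apply φ x.2⟩
    · rintro ⟨x, hx, rfl⟩
      exact ⟨⟨x, hQN hx⟩, hx, (toF_apply φ (hQN hx)).symm⟩
  exact ⟨toF φ, _, hκ, by rintro _ ⟨x, rfl⟩; exact hφN x, hκD⟩

omit [Fact p.Prime] in
/-- automorphisms of `P` trivial on a normal self-centralizing `Q` have `p`-power order -/
theorem pow_eq_one_of_trivial {P : Subgroup Ω} [Finite P] (hP : IsPGroup p P) {Q : Subgroup Ω} (hQP : Q ≤ P) (hQn : P ≤ Subgroup.normalizer (Q : Set Ω))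
    (hC : ∀ x ∈ P, (∀ y ∈ Q, x * y = y * x) → x ∈ Q) {k : ℕ} (hk : Nat.card P = p ^ k) {γ : MulAut P}
    (hγ : ∀ x : P, (x : Ω) ∈ Q → γ x = x) : γ ^ p ^ k = 1 := by
  have h3 : ∀ x : P, ((x⁻¹ * γ x : P) : Ω) ∈ Q := by
    intro x
    refine hC _ (x⁻¹ * γ x).2 fun y hy => ?_
    have hxQ := hQn x.2
    have h1 : (x : Ω) * y * (x : Ω)⁻¹ ∈ Q := (Subgroup.mem_normalizer_iff.mp hxQ y).mp hy
    have h2 := hγ (x * ⟨y, hQP hy⟩ * x⁻¹) h1
    rw [map_mul, map_mul, map_inv, hγ ⟨y, hQP hy⟩ hy] at h2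
    have h4 := congrArg Subtype.val h2
    change ((γ x : P) : Ω) * y * ((γ x : P) : Ω)⁻¹ = x * y * (x : Ω)⁻¹ at h4
    change (x : Ω)⁻¹ * ((γ x : P) : Ω) * y = y * ((x : Ω)⁻¹ * ((γ x : P) : Ω))
    have h5 : (x : Ω)⁻¹ * ((γ x : P) : Ω) * y = (x : Ω)⁻¹ * (((γ x : P) : Ω) * y * ((γ x : P) : Ω)⁻¹) * ((γ x : P) : Ω) := by group
    rw [h5, h4]; group
  have h4 : ∀ (n : ℕ) (x : P), (γ ^ n) x = x * (x⁻¹ * γ x) ^ n := by
    intro n x
    induction n with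
    | zero => simp
    | succ n ih =>
      rw [pow_succ', MulAut.mul_apply, ih, map_mul, map_pow]
      have h5 : γ (x⁻¹ * γ x) = x⁻¹ * γ x := hγ _ (h3 x)
      rw [h5, pow_succ', ← mul_assoc x, mul_inv_cancel_left]
  ext x
  rw [h4, ← hk, pow_card_eq_one']
  simp

/-- Lemma Y -/
theorem aut_le_of_radical (hS : IsPGroup p S) (hE : E.IsSaturated p) (hEF : E.IsSubsystemOf F)
    (hPc : F.IsCentric P) (hPr : F.IsRadical p P) (hQP : Q ≤ P) (hQi : ∀ β ∈ F.autGroup P, ∀ x ∈ Q, ac β x ∈ Q)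
    (hC : ∀ x ∈ P, (∀ y ∈ Q, x * y = y * x) → x ∈ Q) (hQE : ∀ β ∈ F.autGroup P, Mi E Q Q (ac β)) : F.autGroup P ≤ E.autGroup P := by
  have hPS := hPc.1
  haveI := finite_of_le hPS
  have hQS := hQP.trans hPS
  haveI := finite_of_le hQS
  -- `Q` is normal in `P`
  have hPQ : P ≤ Subgroup.normalizer (Q : Set Ω) := by
    have key : ∀ u ∈ P, ∀ x ∈ Q, u * x * u⁻¹ ∈ Q := by
      intro u hu x hx
      have h1 : P.normalizerMonoidHom ⟨u, Subgroup.le_normalizer hu⟩ ∈ F.autGroup P :=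
        autInducedBy_le_autGroup F hPS (mem_autInducedBy.mpr ⟨u, hPS hu, fun x => rfl⟩)
      have h2 := hQi _ h1 x hx
      rw [ac_apply _ (hQP hx)] at h2
      exact h2
    intro u hu
    rw [Subgroup.mem_normalizer_iff]
    intro x
    refine ⟨key u hu x, fun h => ?_⟩
    have h1 := key u⁻¹ (P.inv_mem hu) _ h
    have h2 : u⁻¹ * (u * x * u⁻¹) * u⁻¹⁻¹ = x := by group
    rwa [h2] at h1
  obtain ⟨Q₁, hQQ₁, hQ₁⟩ := exists_fullyNormalized (F := E) hQS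
  obtain ⟨κ, N', hκ, hN', hκQ⟩ := exists_mi_norm hS hE hQ₁ hQQ₁
  have hPN : P ≤ normalizerIn S Q := le_inf hPS hPQ
  obtain ⟨P₁, hP₁, hκP, -⟩ := hκ.restrict hPN
  have hκPF := hκP.mono hEF
  have hP₁S := hκP.le'
  have hQ₁S := hQ₁.1
  haveI := finite_of_le hP₁S
  haveI := finite_of_le hQ₁S
  have hP₁c : F.IsCentric P₁ := by
    obtain ⟨θ, hθ, e1, e2⟩ := hκPF
    rw [← e2]; exact centric_range hPc hθ
  have hP₁r := radical_conj hS hPr hκPF.isConj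
  have hQ₁P₁ : Q₁ ≤ P₁ := by
    intro y hy
    obtain ⟨x, hx, rfl⟩ := hκQ.surj hy
    exact hκP.mem (hQP hx)
  have hP₁N : P₁ ≤ normalizerIn S Q₁ := hP₁.trans hN'
  obtain ⟨κi, hκi, hκi1, hκi2⟩ := hκP.symm
  have hκiQ : Mi E Q₁ Q κi := hκQ.symm_of fun x hx => hκi1 x (hQP hx)
  have hC₁ : ∀ x ∈ P₁, (∀ y ∈ Q₁, x * y = y * x) → x ∈ Q₁ := by
    intro x hx h
    obtain ⟨u, hu, rfl⟩ := hκP.surj hx
    refine hκQ.mem (hC u hu fun y hy => ?_)
    apply hκP.inj (P.mul_mem hu (hQP hy)) (P.mul_mem (hQP hy) hu)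
    rw [hκP.map_mul hu (hQP hy), hκP.map_mul (hQP hy) hu, h _ (hκQ.mem hy)]
  -- invariance of Q₁
  have hQ₁i : ∀ β ∈ F.autGroup P₁, ∀ x ∈ Q₁, ac β x ∈ Q₁ := by
    intro β hβ x hx
    have h1 := (hκPF.comp ((mi_ac hP₁S).mpr hβ)).comp (hκi.mono hEF)
    obtain ⟨γ, hγ, hγe⟩ := h1.aut
    have h2 := hQi γ hγ _ (hκiQ.mem hx)
    rw [hγe _ (hQP (hκiQ.mem hx))] at h2
    simp only [Function.comp_apply] at h2
    rw [hκi2 x (hQ₁P₁ hx)] at h2
    have h3 := hκQ.mem h2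
    rwa [hκi2 _ (ac_mem β (hQ₁P₁ hx))] at h3
  -- the kernel
  have hker : ∀ γ ∈ F.autGroup P₁, (∀ x : P₁, (x : Ω) ∈ Q₁ → γ x = x) → γ ∈ Inn P₁ := by
    obtain ⟨k, hk⟩ := IsPGroup.iff_card.mp (hS.to_le hP₁S)
    let B : Subgroup (MulAut P₁) :=
      { carrier := {β | β ∈ F.autGroup P₁ ∧ (∀ x : P₁, (x : Ω) ∈ Q₁ → β x = x)}
        one_mem' := ⟨Subgroup.one_mem _, fun x _ => rfl⟩
        mul_mem' := by
          rintro β γ ⟨h1, h2⟩ ⟨h4, h5⟩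
          exact ⟨Subgroup.mul_mem _ h1 h4, fun x hx => by rw [MulAut.mul_apply, h5 x hx, h2 x hx]⟩
        inv_mem' := by
          rintro β ⟨h1, h2⟩
          exact ⟨Subgroup.inv_mem _ h1, fun x hx => by rw [MulAut.inv_apply, MulEquiv.symm_apply_eq, h2 x hx]⟩ }
    have hBmem : ∀ β : MulAut P₁, β ∈ B ↔ β ∈ F.autGroup P₁ ∧ (∀ x : P₁, (x : Ω) ∈ Q₁ → β x = x) := fun β => Iff.rfl
    have hBle := (radical_iff hS hP₁S).mp hP₁r B (fun β hβ => hβ.1) (by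
      rintro ⟨β, hβ⟩
      exact ⟨k, Subtype.ext (pow_eq_one_of_trivial (hS.to_le hP₁S) hQ₁P₁ (hP₁N.trans inf_le_right) hC₁ hk hβ.2)⟩) (by
      intro α hα o ho
      refine (hBmem _).mpr ⟨Subgroup.mul_mem _ (Subgroup.mul_mem _ hα ho.1) (Subgroup.inv_mem _ hα), fun x hx => ?_⟩
      have h1 : ((α⁻¹ x : P₁) : Ω) ∈ Q₁ := by
        have h2 := hQ₁i _ (Subgroup.inv_mem _ hα) x hx
        rwa [ac_apply _ x.2] at h2
      rw [MulAut.mul_apply, MulAut.mul_apply, ho.2 _ h1, MulAut.apply_inv_self])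
    exact fun γ hγ hγ1 => hBle ((hBmem γ).mpr ⟨hγ, hγ1⟩)
  -- C_S(Q₁) ≤ Q₁
  have hCP : centralizerIn S Q₁ ≤ P₁ := by
    by_contra hcon
    set C := centralizerIn S Q₁ with hCdef
    have hPn : P₁ ≤ Subgroup.normalizer (C : Set Ω) := by
      have key : ∀ v ∈ P₁, ∀ c ∈ C, v * c * v⁻¹ ∈ C := by
        intro v hv c hc
        obtain ⟨hcS, hcc⟩ := mem_centralizerIn.mp hc
        have hvN := (mem_normalizerIn.mp (hP₁N hv)).2
        refine mem_centralizerIn.mpr ⟨S.mul_mem (S.mul_mem (hP₁S hv) hcS) (S.inv_mem (hP₁S hv)), fun x hx => ?_⟩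
        have h1 : v⁻¹ * x * v ∈ Q₁ := (Subgroup.mem_normalizer_iff''.mp hvN x).mp hx
        have h2 := hcc _ h1
        calc x * (v * c * v⁻¹) = v * ((v⁻¹ * x * v) * c) * v⁻¹ := by group
          _ = v * (c * (v⁻¹ * x * v)) * v⁻¹ := by rw [h2]
          _ = v * c * v⁻¹ * x := by group
      intro u hu
      rw [Subgroup.mem_normalizer_iff]
      intro c
      refine ⟨key u hu c, fun h => ?_⟩
      have h1 := key u⁻¹ (P₁.inv_mem hu) _ h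
      have h2 : u⁻¹ * (u * c * u⁻¹) * u⁻¹⁻¹ = c := by group
      rwa [h2] at h1
    have hCS : C ≤ S := inf_le_left
    have hM : P₁ ⊔ C ≤ S := sup_le hP₁S hCS
    have hlt : P₁ < P₁ ⊔ C := lt_of_le_of_ne le_sup_left fun h => hcon (by rw [h]; exact le_sup_right)
    haveI := finite_of_le hM
    obtain ⟨y, hyM, hyN, hyP⟩ := exists_mem_normalizer_of_lt (hS.to_le hM) hlt
    have h1 : y ∈ ((P₁ ⊔ C : Subgroup Ω) : Set Ω) := hyM
    rw [Subgroup.coe_mul_of_left_le_normalizer_right P₁ C hPn] at h1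
    obtain ⟨u, hu, c, hc, rfl⟩ := Set.mem_mul.mp h1
    have huN : u ∈ Subgroup.normalizer (P₁ : Set Ω) := Subgroup.le_normalizer hu
    have hcN : c ∈ Subgroup.normalizer (P₁ : Set Ω) := by
      have h2 := (Subgroup.normalizer (P₁ : Set Ω)).mul_mem ((Subgroup.normalizer (P₁ : Set Ω)).inv_mem huN) hyN
      rwa [inv_mul_cancel_left] at h2
    have hcP : c ∉ P₁ := fun h => hyP (P₁.mul_mem hu h)
    have hcS : c ∈ S := hCS hc
    have hτA : P₁.normalizerMonoidHom ⟨c, hcN⟩ ∈ F.autGroup P₁ := autInducedBy_le_autGroup F hP₁S (mem_autInducedBy.mpr ⟨c, hcS, fun x => rfl⟩)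
    have h2 := hker _ hτA fun x hx => Subtype.ext (by
      change c * x * c⁻¹ = x
      rw [← (mem_centralizerIn.mp hc).2 x hx]; group)
    exact hcP (mem_of_induced_inn (hP₁c.2 P₁ (isConj_refl hP₁S)) hcS h2 (fun x => rfl) hP₁S)
  intro β hβ
  have hβM := (mi_ac hPS).mpr hβ
  have hθ := ((hκi.mono hEF).comp hβM).comp hκPF
  set θ := κ ∘ ac β ∘ κi with hθdef
  have hθQ : Mi E Q₁ Q₁ θ := (hκiQ.comp (hQE β hβ)).comp hκQ
  obtain ⟨g, W', hg, hgθ⟩ := mi_extend (W := P₁) (receptive_of_fullyNormalized_sat hS hE hQ₁) hθQ hQ₁P₁ hP₁N (by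
    intro w hw
    refine ⟨θ w, hP₁S (hθ.mem hw), fun x hx => ?_⟩
    have hx' := hQ₁P₁ hx
    exact (hθ.map_mul (P₁.mul_mem hw hx') (P₁.inv_mem hw)).trans (by rw [hθ.map_mul hw hx', hθ.map_inv hw]))
  have hgQ : Mi E Q₁ Q₁ g := hθQ.congr fun x hx => (hgθ x hx).symm
  have hgP : Mi E P₁ P₁ g := by
    refine mi_of_maps hg le_rfl fun w hw => ?_
    have h1 : (θ w)⁻¹ * g w ∈ centralizerIn S Q₁ := by
      refine mem_centralizerIn.mpr ⟨S.mul_mem (S.inv_mem (hP₁S (hθ.mem hw))) (hg.le' (hg.mem hw)), fun z hz => ?_⟩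
      obtain ⟨u, hu, rfl⟩ := hgQ.surj hz
      have hwN := (mem_normalizerIn.mp (hP₁N hw)).2
      have hwu : w * u * w⁻¹ ∈ Q₁ := (Subgroup.mem_normalizer_iff.mp hwN u).mp hu
      have hu' := hQ₁P₁ hu
      have e1 : g (w * u * w⁻¹) = g w * g u * (g w)⁻¹ := by
        rw [hg.map_mul (P₁.mul_mem hw hu') (P₁.inv_mem hw), hg.map_mul hw hu', hg.map_inv hw]
      have e2 : θ (w * u * w⁻¹) = θ w * θ u * (θ w)⁻¹ :=
        (hθ.map_mul (P₁.mul_mem hw hu') (P₁.inv_mem hw)).trans (by rw [hθ.map_mul hw hu', hθ.map_inv hw])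
      rw [hgθ _ hwu, e2, ← hgθ u hu] at e1
      have h4 : g u * ((θ w)⁻¹ * g w) = (θ w)⁻¹ * (θ w * g u * (θ w)⁻¹) * g w := by group
      rw [h4, e1]; group
    have h3 : g w = θ w * ((θ w)⁻¹ * g w) := by group
    rw [h3]
    exact P₁.mul_mem (hθ.mem hw) (hCP h1)
  obtain ⟨gi, hgi, hgi1, hgi2⟩ := hgP.symm
  have hγ := hθ.comp (hgi.mono hEF)
  obtain ⟨γ, hγA, hγe⟩ := hγ.aut
  have hγI : γ ∈ Inn P₁ := hker γ hγA fun x hx => Subtype.ext (by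
    rw [← ac_apply γ x.2, hγe x x.2]
    change gi (θ x) = x
    rw [← hgθ x hx, hgi1 x x.2])
  have hγE : Mi E P₁ P₁ (gi ∘ θ) := by
    have h1 : γ ∈ E.autGroup P₁ := inn_le_autGroup hP₁S hγI
    exact ((mi_ac hP₁S).mpr h1).congr hγe
  have hθE : Mi E P₁ P₁ θ := (hγE.comp hgP).congr fun x hx => hgi2 _ (hθ.mem hx)
  have hβE := (hκP.comp hθE).comp hκi
  rw [← mi_ac hPS]
  refine hβE.congr fun x hx => ?_
  simp only [hθdef, Function.comp_apply]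
  rw [hκi1 x hx, hκi1 _ (ac_mem β hx)]

end

end Cfsg.Agent.L0.Fus
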