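import Cfsg.Agent.L0.Fus.Ess2
import Cfsg.Agent.L0.Fus.Small2
import Cfsg.Agent.L0.Fus.Prime11

/-!
Essential subgroups: consequences of radicality, of the strongly embedded subgroup.
-/

set_option autoImplicit false
set_option maxHeartbeats 1000000

open Pointwise

namespace Cfsg.Agent.L0.Fus
open Cfsg.Agent.L0 Cfsg.FusionSystem Ess

variable {Ω : Type*} [Group Ω] {S : Subgroup Ω} [Finite S] {p : ℕ} [Fact p.Prime] {F : FusionSystem S} {P : Subgroup Ω}

/-- automorphisms trivial on `N` and `P/N`, with `N` invariant, lie in `O_p`: elements of `S` inducing them are in `P` -/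
theorem mem_of_trivial_chain (hS : IsPGroup p S) (hPc : F.IsCentric P) (hPr : F.IsRadical p P) {N : Subgroup Ω} (hN : N ≤ P)
    (hNi : ∀ β ∈ F.autGroup P, ∀ x ∈ N, ac β x ∈ N) {g : Ω} (hg : g ∈ S) (hgn : g ∈ Subgroup.normalizer (P : Set Ω))
    (h1 : ∀ x ∈ N, g * x * g⁻¹ = x) (h2 : ∀ x ∈ P, g * x * g⁻¹ * x⁻¹ ∈ N) : g ∈ P := by
  have hPS := hPc.1
  haveI := finite_of_le hPS
  haveI := finite_autGroup (S := S) hPS
  let O : Subgroup (MulAut P) :=
    { carrier := {α | α ∈ F.autGroup P ∧ (∀ x ∈ N, ac α x = x) ∧ ∀ x ∈ P, ac α x * x⁻¹ ∈ N}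
      one_mem' := ⟨Subgroup.one_mem _, fun x hx => ac_one (hN hx), fun x hx => by rw [ac_one hx, mul_inv_cancel]; exact N.one_mem⟩
      mul_mem' := by
        rintro a b ⟨ha, ha1, ha2⟩ ⟨hb, hb1, hb2⟩
        refine ⟨Subgroup.mul_mem _ ha hb, fun x hx => by rw [ac_mul a b (hN hx), hb1 x hx, ha1 x hx], fun x hx => ?_⟩
        rw [ac_mul a b hx]
        have h3 : ac a (ac b x) * x⁻¹ = (ac a (ac b x) * (ac b x)⁻¹) * (ac b x * x⁻¹) := by group
        rw [h3]
        exact N.mul_mem (ha2 _ (ac_mem b hx)) (hb2 x hx)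
      inv_mem' := by
        rintro a ⟨ha, ha1, ha2⟩
        refine ⟨Subgroup.inv_mem _ ha, fun x hx => ?_, fun x hx => ?_⟩
        · have := ac_inv_ac a (hN hx)
          rwa [ha1 x hx] at this
        · have h3 := ha2 _ (ac_mem a⁻¹ hx)
          rw [ac_ac_inv a hx] at h3
          have := N.inv_mem h3
          rwa [mul_inv_rev, inv_inv] at this }
  have hOp : IsPGroup p O := by
    haveI := finite_of_le (S := S) (hN.trans hPS)
    obtain ⟨m, hm⟩ := IsPGroup.iff_card.mp (hS.to_le (hN.trans hPS))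
    rintro ⟨a, ha, ha1, ha2⟩
    refine ⟨m, Subtype.ext ?_⟩
    change a ^ p ^ m = 1
    have key : ∀ x ∈ P, ∀ n : ℕ, ac (a ^ n) x = (ac a x * x⁻¹) ^ n * x := by
      intro x hx n
      induction n with
      | zero => rw [pow_zero, pow_zero, one_mul, ac_one hx]
      | succ n ih =>
        rw [pow_succ', ac_mul _ _ hx, ih]
        have h3 : (ac a x * x⁻¹) ^ n ∈ N := N.pow_mem (ha2 x hx) n
        have h4 : ac a ((ac a x * x⁻¹) ^ n * x) = ac a ((ac a x * x⁻¹) ^ n) * ac a x := by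
          have h5 := (mi_ac (F := F) (α := a) hPS).mpr ha
          exact h5.map_mul (hN h3) hx
        rw [h4, ha1 _ h3]
        have h6 : ac a x = (ac a x * x⁻¹) * x := by group
        conv_lhs => rw [h6]
        rw [← mul_assoc]
        congr 1
        rw [pow_succ]
        congr 1
        group
    ext x
    have h3 := key x x.2 (p ^ m)
    have h4 : (ac a (x : Ω) * (x : Ω)⁻¹) ^ p ^ m = 1 := by
      have h5 : (⟨_, ha2 x x.2⟩ : N) ^ p ^ m = 1 := by rw [← hm]; exact pow_card_eq_one'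
      exact congrArg Subtype.val h5
    rw [h4, one_mul, ac_apply _ x.2] at h3
    exact h3
  have hOn : ∀ α ∈ F.autGroup P, ∀ o ∈ O, α * o * α⁻¹ ∈ O := by
    rintro β hβ a ⟨ha, ha1, ha2⟩
    have hβi : β⁻¹ ∈ F.autGroup P := Subgroup.inv_mem _ hβ
    refine ⟨Subgroup.mul_mem _ (Subgroup.mul_mem _ hβ ha) hβi, fun x hx => ?_, fun x hx => ?_⟩
    · rw [mul_assoc, ac_mul _ _ (hN hx), ac_mul _ _ (hN hx), ha1 _ (hNi _ hβi x hx), ac_ac_inv β (hN hx)]
    · rw [mul_assoc, ac_mul _ _ hx, ac_mul _ _ hx]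
      have hy := ac_mem β⁻¹ hx
      have h5 := (mi_ac (F := F) (α := β) hPS).mpr hβ
      have h6 := hNi β hβ _ (ha2 _ hy)
      rw [h5.map_mul (ac_mem a hy) (P.inv_mem hy), h5.map_inv hy, ac_ac_inv β hx] at h6
      exact h6
  have hO := (radical_iff hS hPS).mp hPr O (fun a ha => ha.1) hOp hOn
  have hc : centralizerIn S P ≤ P := hPc.2 P (isConj_refl hPS)
  -- the automorphism induced by `g`
  have hcg : Mi F P (P.map (MulAut.conj g).toMonoidHom) (fun x => g * x * g⁻¹) := mi_conj hPS hg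
  have hPm : P.map (MulAut.conj g).toMonoidHom = P := by
    have := mem_normalizer_conj.mp hgn
    rwa [conj_smul_eq_map] at this
  rw [hPm] at hcg
  obtain ⟨α, hα, hαe⟩ := hcg.aut
  have hαO : α ∈ O := by
    refine ⟨hα, fun x hx => ?_, fun x hx => ?_⟩
    · rw [hαe x (hN hx)]; exact h1 x hx
    · rw [hαe x hx]; exact h2 x hx
  refine mem_of_induced_inn hc hg (hO hαO) (fun x => ?_) hPS
  have := hαe x x.2
  rwa [ac_apply _ x.2] at this

/-- strongly embedded data for an abelian essential subgroup -/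
theorem exists_sem (hS : IsPGroup p S) (hF : F.IsSaturated p) (hP : F.IsEssential p P) (hab : ∀ x ∈ P, ∀ y ∈ P, x * y = y * x) :
    ∃ Y : Subgroup (MulAut P), autInducedBy S P ≤ Y ∧ SEm p (F.autGroup P) Y := by
  have hPS := hP.1.1
  haveI := finite_of_le hPS
  haveI := finite_autGroup (S := S) hPS
  obtain ⟨hcen, hfn, hN, E, hE⟩ := hP
  have hInn : ∀ α ∈ Inn P, α = 1 := by
    intro α hα
    obtain ⟨g, hg⟩ := mem_Inn.mp hα
    ext x
    rw [hg x]
    change (g : Ω) * x * (g : Ω)⁻¹ = x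
    rw [hab _ g.2 _ x.2, mul_inv_cancel_right]
  set Q := (Inn P).subgroupOf (F.autGroup P) with hQ
  set π : F.autGroup P →* F.autGroup P ⧸ Q := QuotientGroup.mk' Q with hπ
  have hπi : Function.Injective π := by
    rw [← MonoidHom.ker_eq_bot_iff, hπ, QuotientGroup.ker_mk', eq_bot_iff]
    intro a ha
    rw [Subgroup.mem_bot]
    exact Subtype.ext (hInn _ (Subgroup.mem_subgroupOf.mp ha))
  obtain ⟨P0, hP0E, -⟩ := IsStronglyPEmbedded.exists_sylow hE
  have hTp : IsPGroup p (autInducedBy S P) := by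
    obtain ⟨-, R, hR⟩ := fullyAutomized_of_fullyNormalized_sat hS hF hfn
    have h1 := R.isPGroup'
    rw [hR] at h1
    exact h1.of_equiv (Subgroup.subgroupOfEquivOfLe (autInducedBy_le_autGroup F hPS))
  have hT' : IsPGroup p (((autInducedBy S P).subgroupOf (F.autGroup P)).map π) :=
    (IsPGroup.of_equiv hTp (Subgroup.subgroupOfEquivOfLe (autInducedBy_le_autGroup F hPS)).symm).map _
  obtain ⟨R, hR⟩ := hT'.exists_le_sylow
  obtain ⟨g0, hg0⟩ := MulAction.exists_smul_eq (F.autGroup P ⧸ Q) P0 R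
  obtain ⟨g, rfl⟩ := QuotientGroup.mk'_surjective Q g0
  refine ⟨(MulAut.conj g • (E.comap π)).map (F.autGroup P).subtype, ?_, ?_, ?_, ?_⟩
  · intro t ht
    have htG := autInducedBy_le_autGroup F hPS ht
    have h1 : π ⟨t, htG⟩ ∈ (R : Subgroup _) := hR ⟨⟨t, htG⟩, Subgroup.mem_subgroupOf.mpr ht, rfl⟩
    rw [← hg0] at h1
    obtain ⟨y, hy, hye⟩ := h1
    refine ⟨⟨t, htG⟩, ?_, rfl⟩
    refine ⟨g⁻¹ * ⟨t, htG⟩ * g, ?_, ?_⟩
    · change π _ ∈ E
      have h2 : π (g⁻¹ * ⟨t, htG⟩ * g) = y := by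
        have h3 : π g * y * (π g)⁻¹ = π ⟨t, htG⟩ := hye
        rw [map_mul, map_mul, map_inv, ← h3]
        group
      rw [h2]
      exact hP0E hy
    · change g * (g⁻¹ * ⟨t, htG⟩ * g) * g⁻¹ = _
      group
  · exact Subgroup.map_subtype_le _
  · intro hcon
    apply hE.2.1
    rw [eq_top_iff]
    intro x _
    obtain ⟨a, rfl⟩ := QuotientGroup.mk'_surjective Q x
    have h1 : ((g * a * g⁻¹ : F.autGroup P) : MulAut P) ∈ (MulAut.conj g • (E.comap π)).map (F.autGroup P).subtype := by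
      rw [hcon]; exact (g * a * g⁻¹).2
    obtain ⟨b, hb, hbe⟩ := h1
    have h2 : b = g * a * g⁻¹ := Subtype.ext hbe
    subst h2
    obtain ⟨c, hc, hce⟩ := hb
    have h3 : g * c * g⁻¹ = g * a * g⁻¹ := hce
    have h4 : c = a := by
      have := congrArg (fun z => g⁻¹ * z * g) h3
      simpa [mul_assoc] using this
    rw [← h4]
    exact hc
  · rintro _ ⟨x, ⟨x0, hx0, rfl⟩, rfl⟩ hx1 ⟨k, hk⟩ a ha ⟨b, ⟨b0, hb0, rfl⟩, hbe⟩
    have hx0' : π x0 ∈ E := hx0
    have hb0' : π b0 ∈ E := hb0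
    have hx01 : x0 ≠ 1 := by
      rintro rfl
      apply hx1
      change ((g * 1 * g⁻¹ : F.autGroup P) : MulAut P) = 1
      simp
    have hk' : x0 ^ p ^ k = 1 := by
      have h1 : (g * x0 * g⁻¹) ^ p ^ k = 1 := Subtype.ext hk
      rw [conj_pow] at h1
      have := congrArg (fun z => g⁻¹ * z * g) h1
      simpa [mul_assoc] using this
    have hbe' : g * b0 * g⁻¹ = ⟨a, ha⟩ * (g * x0 * g⁻¹) * (⟨a, ha⟩ : F.autGroup P)⁻¹ := Subtype.ext hbe
    have hQp : IsPGroup p (Subgroup.zpowers (π x0)) := by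
      rintro ⟨y, hy⟩
      obtain ⟨i, rfl⟩ := Subgroup.mem_zpowers_iff.mp hy
      refine ⟨k, Subtype.ext ?_⟩
      change (π x0 ^ i) ^ p ^ k = 1
      rw [← zpow_natCast, ← zpow_mul, mul_comm, zpow_mul, zpow_natCast, ← map_pow, hk', map_one, one_zpow]
    have h2 := IsStronglyPEmbedded.mem_of_conj hE hQp (by
      rw [Ne, Subgroup.zpowers_eq_bot]
      intro h
      exact hx01 (hπi (h.trans (map_one π).symm))) (by rwa [Subgroup.zpowers_le]) (g := π (g⁻¹ * ⟨a, ha⟩ * g)) (by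
      rintro _ ⟨y, hy, rfl⟩
      obtain ⟨i, rfl⟩ := Subgroup.mem_zpowers_iff.mp hy
      change π (g⁻¹ * ⟨a, ha⟩ * g) * (π x0) ^ i * (π (g⁻¹ * ⟨a, ha⟩ * g))⁻¹ ∈ E
      rw [← conj_zpow]
      apply Subgroup.zpow_mem
      rw [← map_mul, ← map_inv, ← map_mul]
      have h3 : g⁻¹ * ⟨a, ha⟩ * g * x0 * (g⁻¹ * ⟨a, ha⟩ * g)⁻¹ = b0 := by
        have h4 : b0 = g⁻¹ * (g * b0 * g⁻¹) * g := by group
        rw [h4, hbe']
        group
      rw [h3]
      exact hb0')
    refine ⟨⟨a, ha⟩, ⟨g⁻¹ * ⟨a, ha⟩ * g, h2, ?_⟩, rfl⟩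
    change g * (g⁻¹ * ⟨a, ha⟩ * g) * g⁻¹ = _
    group

theorem card_le_of_automized (hS : IsPGroup p S) (hF : F.IsSaturated p) (hP : F.IsFullyNormalized P) (h : Nat.card (autInducedBy S P) ≤ p)
    (Q : Subgroup (MulAut P)) (hQ : Q ≤ F.autGroup P) (hQp : IsPGroup p Q) : Nat.card Q ≤ p := by
  have hPS := hP.1
  haveI := finite_of_le hPS
  haveI := finite_autGroup (S := S) hPS
  obtain ⟨-, R, hR⟩ := fullyAutomized_of_fullyNormalized_sat hS hF hP
  have h1 : IsPGroup p (Q.subgroupOf (F.autGroup P)) := IsPGroup.of_equiv hQp (Subgroup.subgroupOfEquivOfLe hQ).symm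
  obtain ⟨R', hR'⟩ := h1.exists_le_sylow
  have h2 : Nat.card (R' : Subgroup (F.autGroup P)) = Nat.card (R : Subgroup (F.autGroup P)) := by
    rw [R'.card_eq_multiplicity, R.card_eq_multiplicity]
  calc Nat.card Q = Nat.card (Q.subgroupOf (F.autGroup P)) := (Nat.card_congr (Subgroup.subgroupOfEquivOfLe hQ).toEquiv).symm
    _ ≤ Nat.card (R' : Subgroup (F.autGroup P)) := Nat.card_le_card_of_injective _ (Subgroup.inclusion_injective hR')
    _ = Nat.card (R : Subgroup (F.autGroup P)) := h2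
    _ = Nat.card (autInducedBy S P) := by
      rw [hR]; exact Nat.card_congr (Subgroup.subgroupOfEquivOfLe (autInducedBy_le_autGroup F hPS)).toEquiv
    _ ≤ p := h

/-- the whole group is not essential -/
theorem essential_lt (hS : IsPGroup p S) (hF : F.IsSaturated p) (hP : F.IsEssential p P) : P < S := by
  refine lt_of_le_of_ne hP.1.1 ?_
  rintro rfl
  haveI := finite_autGroup (S := P) (P := P) le_rfl
  obtain ⟨hcen, hfn, hN, E, hE⟩ := hP
  obtain ⟨-, R, hR⟩ := fullyAutomized_of_fullyNormalized_sat hS hF hfn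
  have h1 : (R : Subgroup (F.autGroup P)) ≤ (Inn P).subgroupOf (F.autGroup P) := by
    rw [hR]
    intro a ha
    rw [Subgroup.mem_subgroupOf] at ha ⊢
    obtain ⟨g, hg, h⟩ := mem_autInducedBy.mp ha
    exact mem_Inn.mpr ⟨⟨g, hg⟩, fun x => Subtype.ext (h x)⟩
  have h2 : p ∣ Nat.card (F.autGroup P ⧸ (Inn P).subgroupOf (F.autGroup P)) := hE.1
  have h3 : Nat.card (F.autGroup P ⧸ (Inn P).subgroupOf (F.autGroup P)) ∣ (R : Subgroup (F.autGroup P)).index := by
    exact Subgroup.index_dvd_of_le h1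
  exact R.not_dvd_index (h2.trans h3)

end Cfsg.Agent.L0.Fus
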