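import Cfsg.Agent.L0.Fus.Ess3

/-!
`p`-groups with an abelian subgroup of index `p`.
-/

set_option autoImplicit false
set_option maxHeartbeats 1000000

open Pointwise

namespace Cfsg.Agent.L0.Fus.Ess
open Cfsg.Agent.L0 Cfsg.FusionSystem

variable {Ω : Type*} [Group Ω] {S A : Subgroup Ω} {p : ℕ}

/-- `A` is an abelian subgroup of index `p` of the `p`-group `S` -/
structure AD (S A : Subgroup Ω) (p : ℕ) : Prop where
  le : A ≤ S
  ab : ∀ x ∈ A, ∀ y ∈ A, x * y = y * x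
  nor : ∀ s ∈ S, ∀ a ∈ A, s * a * s⁻¹ ∈ A
  gen : ∀ x ∈ S, x ∉ A → ∀ s ∈ S, ∃ i : ℤ, ∃ a ∈ A, s = x ^ i * a
  com : ∀ s ∈ S, ∀ t ∈ S, s * t * s⁻¹ * t⁻¹ ∈ A
  idx : A.relIndex S = p

theorem card_mul_relIndex' {G : Type*} [Group G] {H K : Subgroup G} (h : H ≤ K) : Nat.card H * H.relIndex K = Nat.card K := by
  have := Subgroup.relIndex_mul_relIndex (⊥ : Subgroup G) H K bot_le h
  rwa [Subgroup.relIndex_bot_left, Subgroup.relIndex_bot_left] at this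

theorem normal_of_index_p [Finite S] [hp : Fact p.Prime] (hS : IsPGroup p S) {B : Subgroup Ω} (hi : (B.subgroupOf S).index = p) :
    (B.subgroupOf S).Normal := by
  obtain ⟨n, hn⟩ := IsPGroup.iff_card.mp hS
  have hn0 : n ≠ 0 := by
    rintro rfl
    have h1 := (B.subgroupOf S).index_dvd_card
    rw [hi, hn, pow_zero, Nat.dvd_one] at h1
    exact hp.out.one_lt.ne h1.symm
  apply Subgroup.normal_of_index_eq_minFac_card
  rw [hi, hn, Nat.Prime.pow_minFac hp.out hn0]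

theorem AD.mk' [Finite S] [hp : Fact p.Prime] (hS : IsPGroup p S) (hAS : A ≤ S) (hab : ∀ x ∈ A, ∀ y ∈ A, x * y = y * x)
    (hi : (A.subgroupOf S).index = p) : AD S A p := by
  haveI := normal_of_index_p hS hi
  have hnor : ∀ s ∈ S, ∀ a ∈ A, s * a * s⁻¹ ∈ A := by
    intro s hs a ha
    exact (this.conj_mem ⟨a, hAS ha⟩ (Subgroup.mem_subgroupOf.mpr ha) ⟨s, hs⟩)
  have hc : Nat.card (S ⧸ A.subgroupOf S) = p := hi
  haveI : IsCyclic (S ⧸ A.subgroupOf S) := isCyclic_of_prime_card hc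
  letI := IsCyclic.commGroup (α := S ⧸ A.subgroupOf S)
  refine ⟨hAS, hab, hnor, ?_, ?_, hi⟩
  · intro x hx hxA s hs
    have h1 : (QuotientGroup.mk ⟨x, hx⟩ : S ⧸ A.subgroupOf S) ≠ 1 := fun h =>
      hxA ((QuotientGroup.eq_one_iff (N := A.subgroupOf S) (⟨x, hx⟩ : S)).mp h)
    have h2 : (QuotientGroup.mk ⟨s, hs⟩ : S ⧸ A.subgroupOf S) ∈ Subgroup.zpowers (QuotientGroup.mk ⟨x, hx⟩ : S ⧸ A.subgroupOf S) := by
      rw [zpowers_eq_top_of_prime_card hc h1]; trivial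
    obtain ⟨i, hi⟩ := Subgroup.mem_zpowers_iff.mp h2
    refine ⟨i, (x ^ i)⁻¹ * s, ?_, by group⟩
    have h3 : (⟨x, hx⟩ ^ i : S)⁻¹ * ⟨s, hs⟩ ∈ A.subgroupOf S := by
      rw [← QuotientGroup.eq, ← hi]; rfl
    exact h3
  · intro s hs t ht
    have h3 : (⟨s, hs⟩ * ⟨t, ht⟩ * ⟨s, hs⟩⁻¹ * ⟨t, ht⟩⁻¹ : S) ∈ A.subgroupOf S := by
      rw [← QuotientGroup.eq_one_iff]
      change (QuotientGroup.mk ⟨s, hs⟩ * QuotientGroup.mk ⟨t, ht⟩ * (QuotientGroup.mk ⟨s, hs⟩)⁻¹ * (QuotientGroup.mk ⟨t, ht⟩)⁻¹ : S ⧸ A.subgroupOf S) = 1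
      rw [mul_comm (QuotientGroup.mk ⟨s, hs⟩ : S ⧸ A.subgroupOf S)]
      group
    exact h3

/-- the centre -/
abbrev Zc (S : Subgroup Ω) : Subgroup Ω := S ⊓ Subgroup.centralizer (S : Set Ω)

theorem mem_Zc {z : Ω} : z ∈ Zc S ↔ z ∈ S ∧ ∀ s ∈ S, s * z = z * s := by
  rw [Subgroup.mem_inf, Subgroup.mem_centralizer_iff]
  exact Iff.rfl

section
variable (h : AD S A p)
include h

theorem AD.conj_pow' {x a : Ω} (i : ℤ) : a * x ^ i * a⁻¹ = (a * x * a⁻¹) ^ i := by rw [conj_zpow]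

theorem AD.mem_Z {x a : Ω} (hx : x ∈ S) (hxA : x ∉ A) (ha : a ∈ A) (hc : a * x = x * a) : a ∈ Zc S := by
  rw [mem_Zc]
  refine ⟨h.le ha, fun s hs => ?_⟩
  obtain ⟨i, b, hb, rfl⟩ := h.gen x hx hxA s hs
  have h1 : Commute a (x ^ i) := (show Commute a x from hc).zpow_right i
  rw [mul_assoc, ← h.ab a ha b hb, ← mul_assoc, ← h1.eq, mul_assoc]

theorem AD.Z_le (hna : ¬ ∀ x ∈ S, ∀ y ∈ S, x * y = y * x) : Zc S ≤ A := by
  intro z hz
  by_contra hzA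
  obtain ⟨hzS, hzc⟩ := mem_Zc.mp hz
  apply hna
  have hcomm : ∀ a ∈ A, ∀ s ∈ S, a * s = s * a := by
    intro a ha s hs
    have := h.mem_Z hzS hzA ha (hzc a (h.le ha))
    exact ((mem_Zc.mp this).2 s hs).symm
  intro x hx y hy
  obtain ⟨i, a, ha, rfl⟩ := h.gen z hzS hzA x hx
  have h1 : Commute (z ^ i) y := (show Commute z y from (hzc y hy).symm).zpow_left i
  have h2 : Commute a y := hcomm a ha y hy
  exact (h1.mul_left h2).eq

/-- commutation with `x` on `A` -/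
def kap (x : Ω) (hx : x ∈ S) : A →* A where
  toFun a := ⟨a * x * (a : Ω)⁻¹ * x⁻¹, by
    have h1 := h.nor x hx _ (A.inv_mem a.2)
    have h2 := A.mul_mem a.2 h1
    rwa [← mul_assoc, ← mul_assoc] at h2⟩
  map_one' := by apply Subtype.ext; change (1 : Ω) * x * 1⁻¹ * x⁻¹ = 1; group
  map_mul' a b := by
    apply Subtype.ext
    change (a * b : Ω) * x * (a * b : Ω)⁻¹ * x⁻¹ = (a * x * (a : Ω)⁻¹ * x⁻¹) * (b * x * (b : Ω)⁻¹ * x⁻¹)
    have hb1 : (b : Ω) * x * (b : Ω)⁻¹ * x⁻¹ ∈ A := by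
      have h1 := h.nor x hx _ (A.inv_mem b.2)
      have h2 := A.mul_mem b.2 h1
      rwa [← mul_assoc, ← mul_assoc] at h2
    have ha1 : (a : Ω) * x * (a : Ω)⁻¹ * x⁻¹ ∈ A := by
      have h1 := h.nor x hx _ (A.inv_mem a.2)
      have h2 := A.mul_mem a.2 h1
      rwa [← mul_assoc, ← mul_assoc] at h2
    have h3 : (a * b : Ω) * x * (a * b : Ω)⁻¹ * x⁻¹ = a * (b * x * (b : Ω)⁻¹ * x⁻¹) * (a : Ω)⁻¹ * (a * x * (a : Ω)⁻¹ * x⁻¹) := by group
    rw [h3, h.ab _ a.2 _ hb1, mul_inv_cancel_right, h.ab _ hb1 _ ha1]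

/-- image under commutation with `x` -/
def kim (x : Ω) (hx : x ∈ S) (N : Subgroup Ω) : Subgroup Ω := ((N.subgroupOf A).map (kap h x hx)).map A.subtype

/-- preimage under commutation with `x` -/
def kpre (x : Ω) (hx : x ∈ S) (N : Subgroup Ω) : Subgroup Ω := ((N.subgroupOf A).comap (kap h x hx)).map A.subtype

theorem mem_kim {x : Ω} {hx : x ∈ S} {N : Subgroup Ω} {y : Ω} : y ∈ kim h x hx N ↔ ∃ a ∈ A, a ∈ N ∧ a * x * a⁻¹ * x⁻¹ = y := by
  constructor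
  · rintro ⟨_, ⟨a, ha, rfl⟩, rfl⟩
    exact ⟨a, a.2, ha, rfl⟩
  · rintro ⟨a, ha, haN, rfl⟩
    exact ⟨_, ⟨⟨a, ha⟩, haN, rfl⟩, rfl⟩

theorem mem_kpre {x : Ω} {hx : x ∈ S} {N : Subgroup Ω} {y : Ω} : y ∈ kpre h x hx N ↔ y ∈ A ∧ y * x * y⁻¹ * x⁻¹ ∈ N := by
  constructor
  · rintro ⟨a, ha, rfl⟩
    exact ⟨a.2, ha⟩
  · rintro ⟨ha, haN⟩
    exact ⟨⟨y, ha⟩, haN, rfl⟩

theorem kim_le {x : Ω} {hx : x ∈ S} {N : Subgroup Ω} : kim h x hx N ≤ A := Subgroup.map_subtype_le _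
theorem kpre_le {x : Ω} {hx : x ∈ S} {N : Subgroup Ω} : kpre h x hx N ≤ A := Subgroup.map_subtype_le _

theorem kim_card [Finite S] {x : Ω} {hx : x ∈ S} (hxA : x ∉ A) {N : Subgroup Ω} (hN : N ≤ A) :
    Nat.card (kim h x hx N) * Nat.card (N ⊓ Zc S : Subgroup Ω) = Nat.card N := by
  haveI := finite_of_le h.le
  have h1 : Nat.card (kim h x hx N) = Nat.card ((N.subgroupOf A).map (kap h x hx)) :=
    Subgroup.card_map_of_injective A.subtype_injective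
  have h2 : Nat.card ((N.subgroupOf A).map (kap h x hx)) * Nat.card ((kap h x hx).ker ⊓ N.subgroupOf A : Subgroup A) =
      Nat.card (N.subgroupOf A) := by
    have h3 := card_mul_relIndex' (inf_le_right : (kap h x hx).ker ⊓ N.subgroupOf A ≤ N.subgroupOf A)
    rw [Subgroup.inf_relIndex_right, Subgroup.relIndex_ker] at h3
    rw [mul_comm, h3]
  have h6 : Nat.card ((kap h x hx).ker ⊓ N.subgroupOf A : Subgroup A) = Nat.card (N ⊓ Zc S : Subgroup Ω) := by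
    have h7 : (N ⊓ Zc S : Subgroup Ω) = ((kap h x hx).ker ⊓ N.subgroupOf A : Subgroup A).map A.subtype := by
      ext y
      constructor
      · intro hy
        obtain ⟨hyN, hyZ⟩ := Subgroup.mem_inf.mp hy
        refine ⟨⟨y, hN hyN⟩, Subgroup.mem_inf.mpr ⟨?_, hyN⟩, rfl⟩
        apply Subtype.ext
        change y * x * y⁻¹ * x⁻¹ = 1
        rw [← (mem_Zc.mp hyZ).2 x hx]; group
      · rintro ⟨a, ha, rfl⟩
        obtain ⟨ha1, ha2⟩ := Subgroup.mem_inf.mp ha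
        refine Subgroup.mem_inf.mpr ⟨ha2, ?_⟩
        apply h.mem_Z hx hxA a.2
        have h8 : (a : Ω) * x * (a : Ω)⁻¹ * x⁻¹ = 1 := congrArg Subtype.val ha1
        have h9 := mul_inv_eq_one.mp h8
        exact mul_inv_eq_iff_eq_mul.mp h9
    rw [h7]
    exact (Subgroup.card_map_of_injective A.subtype_injective).symm
  rw [h1, ← h6, h2]
  exact Nat.card_congr (Subgroup.subgroupOfEquivOfLe hN).toEquiv

theorem kpre_card [Finite S] {x : Ω} {hx : x ∈ S} (hxA : x ∉ A) (hZA : Zc S ≤ A) {N : Subgroup Ω} :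
    Nat.card (kpre h x hx N) = Nat.card (N ⊓ kim h x hx A : Subgroup Ω) * Nat.card (Zc S) := by
  have h1 := kim_card h (hx := hx) hxA (kpre_le h (hx := hx) (N := N))
  have h2 : kim h x hx (kpre h x hx N) = N ⊓ kim h x hx A := by
    ext y
    rw [mem_kim, Subgroup.mem_inf, mem_kim]
    constructor
    · rintro ⟨a, ha, haN, rfl⟩
      exact ⟨((mem_kpre h).mp haN).2, a, ha, ha, rfl⟩
    · rintro ⟨hy, a, ha, -, rfl⟩
      exact ⟨a, ha, (mem_kpre h).mpr ⟨ha, hy⟩, rfl⟩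
  have h3 : kpre h x hx N ⊓ Zc S = Zc S := by
    rw [inf_eq_right]
    intro z hz
    rw [mem_kpre]
    refine ⟨hZA hz, ?_⟩
    have : z * x * z⁻¹ * x⁻¹ = 1 := by rw [← (mem_Zc.mp hz).2 x hx]; group
    rw [this]; exact N.one_mem
  rw [h2, h3] at h1
  exact h1.symm

/-- a subgroup not contained in `A` meets `A` in a subgroup of index `p` -/
theorem AD.card_eq [Finite S] [hp : Fact p.Prime] {R : Subgroup Ω} (hR : R ≤ S) (hRA : ¬ R ≤ A) :
    Nat.card R = p * Nat.card (R ⊓ A : Subgroup Ω) := by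
  haveI : (A.subgroupOf S).Normal := ⟨fun a ha s => h.nor s s.2 a ha⟩
  have h1 : A.relIndex R ∣ p := by
    have h2 := Subgroup.relIndex_dvd_index_of_normal (A.subgroupOf S) (R.subgroupOf S)
    have h3 : (A.subgroupOf S).relIndex (R.subgroupOf S) = A.relIndex R := Subgroup.relIndex_subgroupOf hR
    rw [h3] at h2
    exact h2.trans h.idx.dvd
  have h4 : A.relIndex R ≠ 1 := fun h5 => hRA (Subgroup.relIndex_eq_one.mp h5)
  have h6 : A.relIndex R = p := (Nat.dvd_prime hp.out).mp h1 |>.resolve_left h4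
  have h7 := card_mul_relIndex' (inf_le_left : R ⊓ A ≤ R)
  rw [Subgroup.inf_relIndex_left, h6] at h7
  rw [← h7, mul_comm]

theorem AD.inf_eq {x : Ω} (hx : x ∈ S) (hxA : x ∉ A) {R : Subgroup Ω} (hR : R ≤ S) (hxR : x ∈ R) {u : Ω} (hu : u ∈ R) :
    ∃ i : ℤ, ∃ b ∈ R ⊓ A, u = x ^ i * b := by
  obtain ⟨i, b, hb, rfl⟩ := h.gen x hx hxA u (hR hu)
  exact ⟨i, b, Subgroup.mem_inf.mpr ⟨(Subgroup.mul_mem_cancel_left R (R.zpow_mem hxR i)).mp hu, hb⟩, rfl⟩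

/-- `N_A(P)` -/
theorem AD.mem_norm [Finite S] {x : Ω} (hx : x ∈ S) (hxA : x ∉ A) {R : Subgroup Ω} (hR : R ≤ S) (hxR : x ∈ R) {a : Ω} (ha : a ∈ A) :
    a ∈ Subgroup.normalizer (R : Set Ω) ↔ a ∈ kpre h x hx (R ⊓ A) := by
  rw [mem_kpre]
  constructor
  · intro hn
    refine ⟨ha, Subgroup.mem_inf.mpr ⟨?_, h.com a (h.le ha) x hx⟩⟩
    exact R.mul_mem ((Subgroup.mem_normalizer_iff.mp hn x).mp hxR) (R.inv_mem hxR)
  · rintro ⟨-, hk⟩
    haveI := finite_of_le hR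
    apply Subgroup.mem_normalizer_fintype
    intro u hu
    obtain ⟨i, b, hb, rfl⟩ := h.inf_eq hx hxA hR hxR hu
    have h1 : a * (x ^ i * b) * a⁻¹ = (a * x * a⁻¹) ^ i * b := by
      rw [conj_zpow]
      have := h.ab a ha b (Subgroup.mem_inf.mp hb).2
      calc a * (x ^ i * b) * a⁻¹ = a * x ^ i * (b * a⁻¹) := by group
        _ = a * x ^ i * (a⁻¹ * b) := by
          congr 1
          have h2 := h.ab a⁻¹ (A.inv_mem ha) b (Subgroup.mem_inf.mp hb).2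
          exact h2.symm
        _ = a * x ^ i * a⁻¹ * b := by group
    rw [SetLike.mem_coe, h1]
    refine R.mul_mem (R.zpow_mem ?_ i) (Subgroup.mem_inf.mp hb).1
    have h3 : a * x * a⁻¹ = (a * x * a⁻¹ * x⁻¹) * x := by group
    rw [h3]
    exact R.mul_mem (Subgroup.mem_inf.mp hk).1 hxR

end

end Cfsg.Agent.L0.Fus.Ess
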