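import Cfsg.Agent.L0.Fus.Ess4

/-!
Essential subgroups over a `p`-group with an abelian subgroup of index `p`.
-/

set_option autoImplicit false
set_option maxHeartbeats 1000000

open Pointwise

namespace Cfsg.Agent.L0.Fus.Ess
open Cfsg.Agent.L0 Cfsg.FusionSystem

variable {Ω : Type*} [Group Ω] {S A P : Subgroup Ω} [Finite S] {p : ℕ} [hp : Fact p.Prime] {F : FusionSystem S}

theorem card_eq_p_mul {R₁ R₂ : Subgroup Ω} [Finite R₂] (h : R₁ ≤ R₂) (hR : IsPGroup p R₂) (hne : R₁ ≠ R₂)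
    (hle : Nat.card R₂ ≤ p * Nat.card R₁) : Nat.card R₂ = p * Nat.card R₁ := by
  have h1 := card_mul_relIndex' h
  obtain ⟨n, hn⟩ := IsPGroup.iff_card.mp hR
  have h2 : R₁.relIndex R₂ ∣ p ^ n := by rw [← hn, ← h1]; exact Dvd.intro_left _ rfl
  obtain ⟨k, -, hk⟩ := (Nat.dvd_prime_pow hp.out).mp h2
  have hk0 : k ≠ 0 := by
    rintro rfl
    rw [pow_zero] at hk
    exact hne (le_antisymm h (Subgroup.relIndex_eq_one.mp hk))
  haveI : Finite R₁ := Finite.of_injective _ (Subgroup.inclusion_injective h)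
  have hpos : 0 < Nat.card R₁ := Nat.card_pos
  have h3 : p ≤ R₁.relIndex R₂ := by
    rw [hk]
    calc p = p ^ 1 := (pow_one p).symm
      _ ≤ p ^ k := Nat.pow_le_pow_right hp.out.pos (by omega)
  rw [← h1] at hle ⊢
  have h4 : R₁.relIndex R₂ ≤ p := by
    have : Nat.card R₁ * R₁.relIndex R₂ ≤ Nat.card R₁ * p := by rw [mul_comm _ p]; exact hle
    exact Nat.le_of_mul_le_mul_left this hpos
  rw [le_antisymm h4 h3, mul_comm]

theorem not_le_of_ne (h : AD S A p) (hP : F.IsCentric P) (hPA : P ≠ A) : ¬ P ≤ A := by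
  intro hle
  have h1 : A ≤ P := by
    intro a ha
    refine hP.2 P (isConj_refl hP.1) (Subgroup.mem_inf.mpr ⟨h.le ha, ?_⟩)
    rw [Subgroup.mem_centralizer_iff]
    intro y hy
    exact h.ab y (hle hy) a ha
  exact hPA (le_antisymm hle h1)

theorem card_norm_eq (h : AD S A p) {x : Ω} (hx : x ∈ S) (hxA : x ∉ A) (hPS : P ≤ S) (hxP : x ∈ P) :
    Nat.card (normalizerIn S P) = p * Nat.card (kpre h x hx (P ⊓ A)) := by
  have h1 : ¬ normalizerIn S P ≤ A := fun hh => hxA (hh (Subgroup.mem_inf.mpr ⟨hx, Subgroup.le_normalizer hxP⟩))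
  rw [h.card_eq (R := normalizerIn S P) inf_le_left h1]
  congr 1
  have h2 : normalizerIn S P ⊓ A = kpre h x hx (P ⊓ A) := by
    ext a
    constructor
    · intro ha
      obtain ⟨ha1, ha2⟩ := Subgroup.mem_inf.mp ha
      exact (h.mem_norm hx hxA hPS hxP ha2).mp (Subgroup.mem_inf.mp ha1).2
    · intro ha
      have ha2 := kpre_le h ha
      exact Subgroup.mem_inf.mpr ⟨Subgroup.mem_inf.mpr ⟨h.le ha2, (h.mem_norm hx hxA hPS hxP ha2).mpr ha⟩, ha2⟩
  rw [h2]

theorem ess_main (hS : IsPGroup p S) (hF : F.IsSaturated p) (h : AD S A p) (hna : ¬ ∀ x ∈ S, ∀ y ∈ S, x * y = y * x)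
    (hP : F.IsEssential p P) {x : Ω} (hx : x ∈ S) (hxA : x ∉ A) (hxP : x ∈ P) :
    Nat.card (kpre h x hx (Zc S)) = p * Nat.card (Zc S) ∧ Nat.card (kpre h x hx (P ⊓ A)) = p * Nat.card (P ⊓ A : Subgroup Ω) ∧
      (P ⊓ A = Zc S ∨ P ⊓ A = kpre h x hx (Zc S)) := by
  have hPS := hP.1.1
  haveI := finite_of_le hPS
  haveI := finite_autGroup (S := S) hPS
  have hPlt := essential_lt hS hF hP
  obtain ⟨hPc, hPr⟩ := essential_centric_radical hS hP
  have hcP : centralizerIn S P ≤ P := hPc.2 P (isConj_refl hPS)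
  have hZP : Zc S ≤ P := by
    intro z hz
    refine hcP (Subgroup.mem_inf.mpr ⟨(mem_Zc.mp hz).1, ?_⟩)
    rw [Subgroup.mem_centralizer_iff]
    exact fun y hy => (mem_Zc.mp hz).2 y (hPS hy)
  have hZA := h.Z_le hna
  have hZ0 : Zc S ≤ P ⊓ A := le_inf hZP hZA
  have hPnA : ¬ P ≤ A := fun hh => hxA (hh hxP)
  have hcP2 := h.card_eq hPS hPnA
  have hcN := card_norm_eq h hx hxA hPS hxP
  have hNlt : Nat.card P < Nat.card (normalizerIn S P) := by
    haveI := finite_of_le (S := S) (P := normalizerIn S P) inf_le_left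
    have h1 := lt_normalizerIn hS hPlt
    refine lt_of_le_of_ne (Nat.card_le_card_of_injective _ (Subgroup.inclusion_injective h1.le)) fun he => h1.ne ?_
    exact Subgroup.eq_of_le_of_card_ge h1.le he.ge
  have hAkp : P ⊓ A ≤ kpre h x hx (P ⊓ A) := by
    intro a ha
    rw [mem_kpre]
    obtain ⟨ha1, ha2⟩ := Subgroup.mem_inf.mp ha
    refine ⟨ha2, Subgroup.mem_inf.mpr ⟨?_, h.com a (h.le ha2) x hx⟩⟩
    exact P.mul_mem (P.mul_mem (P.mul_mem ha1 hxP) (P.inv_mem ha1)) (P.inv_mem hxP)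
  have hlt : Nat.card (P ⊓ A : Subgroup Ω) < Nat.card (kpre h x hx (P ⊓ A)) := by
    rw [hcP2, hcN] at hNlt
    exact Nat.lt_of_mul_lt_mul_left hNlt
  haveI := finite_of_le h.le
  haveI hfk : ∀ N, Finite (kpre h x hx N) := fun N => finite_of_le ((kpre_le h).trans h.le)
  have hAne : P ⊓ A ≠ kpre h x hx (P ⊓ A) := fun he => by rw [← he] at hlt; exact lt_irrefl _ hlt
  have hpk : ∀ N, IsPGroup p (kpre h x hx N) := fun N => hS.to_le ((kpre_le h).trans h.le)
  by_cases hA0 : P ⊓ A = Zc S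
  · -- `P` is abelian
    have hPab : ∀ u ∈ P, ∀ v ∈ P, u * v = v * u := by
      intro u hu v hv
      obtain ⟨i, a, ha, rfl⟩ := h.inf_eq hx hxA hPS hxP hu
      obtain ⟨j, b, hb, rfl⟩ := h.inf_eq hx hxA hPS hxP hv
      rw [hA0] at ha hb
      have ca : ∀ s ∈ S, Commute a s := fun s hs => ((mem_Zc.mp ha).2 s hs).symm
      have cb : ∀ s ∈ S, Commute b s := fun s hs => ((mem_Zc.mp hb).2 s hs).symm
      have h1 : Commute (x ^ i) (x ^ j) := (Commute.refl x).zpow_zpow i j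
      have hxi := S.zpow_mem hx i
      have hxj := S.zpow_mem hx j
      exact ((h1.mul_right (cb _ hxi).symm).mul_left ((ca _ hxj).mul_right (ca b (mem_Zc.mp hb).1))).eq
    obtain ⟨Y, hTY, hYs⟩ := exists_sem hS hF hP hPab
    have hcen : centralizerIn S P = P := by
      refine le_antisymm hcP fun u hu => Subgroup.mem_inf.mpr ⟨hPS hu, ?_⟩
      rw [Subgroup.mem_centralizer_iff]
      exact fun y hy => hPab y hy u hu
    have hTc : Nat.card (autInducedBy S P) * Nat.card P = Nat.card (normalizerIn S P) := by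
      rw [card_normalizerIn, hcen]
    have hTp : IsPGroup p (autInducedBy S P) := by
      obtain ⟨-, R, hR⟩ := fullyAutomized_of_fullyNormalized_sat hS hF hP.2.1
      have h1 := R.isPGroup'
      rw [hR] at h1
      exact h1.of_equiv (Subgroup.subgroupOfEquivOfLe (autInducedBy_le_autGroup F hPS))
    have hT : Nat.card (autInducedBy S P) ≤ p := by
      letI : CommGroup P := { (inferInstance : Group P) with mul_comm := fun a b => Subtype.ext (hPab a a.2 b b.2) }
      refine tv1 (G := F.autGroup P) hTY hYs hTp (Z := (Zc S).subgroupOf P) ?_ ?_ ?_ ?_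
      · change (Zc S).relIndex P = p
        have h1 := card_mul_relIndex' hZP
        rw [hcP2, hA0, mul_comm] at h1
        haveI := finite_of_le (S := S) (P := Zc S) inf_le_left
        exact Nat.eq_of_mul_eq_mul_right Nat.card_pos h1
      · intro t ht z hz
        obtain ⟨g, hg, hgt⟩ := mem_autInducedBy.mp ht
        apply Subtype.ext
        rw [hgt z]
        have hz' : (z : Ω) ∈ Zc S := hz
        rw [(mem_Zc.mp hz').2 g hg, mul_inv_cancel_right]
      · intro t ht u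
        obtain ⟨g, hg, hgt⟩ := mem_autInducedBy.mp ht
        change ((t u : P) : Ω) * (u : Ω)⁻¹ ∈ Zc S
        rw [← hA0]
        refine Subgroup.mem_inf.mpr ⟨P.mul_mem (t u).2 (P.inv_mem u.2), ?_⟩
        rw [hgt u]
        exact h.com g hg u (hPS u.2)
      · intro hinv
        have hNP : normalizerIn S P ≤ P := by
          intro g hg
          obtain ⟨hgS, hgn⟩ := Subgroup.mem_inf.mp hg
          refine mem_of_trivial_chain hS hPc hPr hZP ?_ hgS hgn ?_ ?_
          · intro β hβ z hz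
            have := hinv β hβ ⟨z, hZP hz⟩ hz
            rw [ac_apply _ (hZP hz)]
            exact this
          · intro z hz
            rw [(mem_Zc.mp hz).2 g hgS, mul_inv_cancel_right]
          · intro u hu
            rw [← hA0]
            refine Subgroup.mem_inf.mpr ⟨P.mul_mem ((Subgroup.mem_normalizer_iff.mp hgn u).mp hu) (P.inv_mem hu), ?_⟩
            exact h.com g hgS u (hPS hu)
        exact absurd (Subgroup.card_le_of_le hNP) (not_le.mpr hNlt)
    have hle : Nat.card (kpre h x hx (P ⊓ A)) ≤ p * Nat.card (P ⊓ A : Subgroup Ω) := by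
      have h1 : p * Nat.card (kpre h x hx (P ⊓ A)) ≤ p * (p * Nat.card (P ⊓ A : Subgroup Ω)) := by
        rw [← hcN, ← hcP2, ← hTc]
        exact Nat.mul_le_mul_right _ hT
      exact Nat.le_of_mul_le_mul_left h1 hp.out.pos
    have hfin := card_eq_p_mul hAkp (hpk _) hAne hle
    refine ⟨?_, hfin, Or.inl hA0⟩
    rw [hA0] at hfin
    exact hfin
  · -- `P` is nonabelian
    have hx1 : ¬ ∀ β ∈ F.autGroup P, ∀ y ∈ P ⊓ A, ac β y ∈ P ⊓ A := by
      intro hinv
      apply hAne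
      refine le_antisymm hAkp fun a ha => ?_
      have haA := kpre_le h ha
      refine Subgroup.mem_inf.mpr ⟨?_, haA⟩
      have han := (h.mem_norm hx hxA hPS hxP haA).mpr ha
      refine mem_of_trivial_chain hS hPc hPr (inf_le_left : P ⊓ A ≤ P) hinv (h.le haA) han ?_ ?_
      · intro y hy
        rw [h.ab a haA y (Subgroup.mem_inf.mp hy).2, mul_inv_cancel_right]
      · intro u hu
        refine Subgroup.mem_inf.mpr ⟨P.mul_mem ((Subgroup.mem_normalizer_iff.mp han u).mp hu) (P.inv_mem hu), ?_⟩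
        exact h.com a (h.le haA) u (hPS hu)
    push Not at hx1
    obtain ⟨β, hβ, y, hy, hyβ⟩ := hx1
    obtain ⟨hyP, hyA⟩ := Subgroup.mem_inf.mp hy
    have hy1P := ac_mem β hyP
    have hy1A : ac β y ∉ A := fun hh => hyβ (Subgroup.mem_inf.mpr ⟨hy1P, hh⟩)
    have hβm := (mi_ac (F := F) (α := β) hPS).mpr hβ
    obtain ⟨A₁, hA₁P, hA₁m, hA₁⟩ := hβm.restrict (inf_le_left : P ⊓ A ≤ P)
    have hA₁c : Nat.card (P ⊓ A : Subgroup Ω) = Nat.card A₁ := hA₁m.card
    have hA₁S := hA₁P.trans hPS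
    have hy1A₁ : ac β y ∈ A₁ := (hA₁ _).mpr ⟨y, hy, rfl⟩
    have hint : A₁ ⊓ A ≤ Zc S := by
      intro c hc
      obtain ⟨hc1, hc2⟩ := Subgroup.mem_inf.mp hc
      refine h.mem_Z (hPS hy1P) hy1A hc2 ?_
      obtain ⟨d, hd, rfl⟩ := (hA₁ c).mp hc1
      rw [← hβm.map_mul (Subgroup.mem_inf.mp hd).1 hyP, ← hβm.map_mul hyP (Subgroup.mem_inf.mp hd).1,
        h.ab d (Subgroup.mem_inf.mp hd).2 y hyA]
    have hA₁e := h.card_eq hA₁S (fun hh => hy1A (hh hy1A₁))
    have hle0 : Nat.card (P ⊓ A : Subgroup Ω) ≤ p * Nat.card (Zc S) := by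
      rw [hA₁c, hA₁e]
      haveI := finite_of_le (S := S) (P := Zc S) inf_le_left
      exact Nat.mul_le_mul_left _ (Subgroup.card_le_of_le hint)
    haveI := finite_of_le (S := S) (P := P ⊓ A) (inf_le_left.trans hPS)
    have hc0 := card_eq_p_mul hZ0 (hS.to_le (inf_le_left.trans hPS)) (Ne.symm hA0) hle0
    -- centre of `P`
    have hZP' : ∀ c ∈ P, (∀ u ∈ P, u * c = c * u) → c ∈ Zc S := by
      intro c hc hcc
      by_cases hcA : c ∈ A
      · exact h.mem_Z hx hxA hcA (hcc x hxP).symm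
      · exfalso
        apply hA0
        refine le_antisymm (fun a ha => ?_) hZ0
        exact h.mem_Z (hPS hc) hcA (Subgroup.mem_inf.mp ha).2 (hcc a (Subgroup.mem_inf.mp ha).1)
    have hZinv : ∀ β ∈ F.autGroup P, ∀ z ∈ Zc S, ac β z ∈ Zc S := by
      intro β hβ z hz
      refine hZP' _ (ac_mem β (hZP hz)) fun u hu => ?_
      have hm := (mi_ac (F := F) (α := β) hPS).mpr hβ
      have h1 : u = ac β (ac β⁻¹ u) := (ac_ac_inv β hu).symm
      rw [h1, ← hm.map_mul (ac_mem β⁻¹ hu) (hZP hz), ← hm.map_mul (hZP hz) (ac_mem β⁻¹ hu),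
        (mem_Zc.mp hz).2 _ (hPS (ac_mem β⁻¹ hu))]
    -- commutators of `P` are central
    have hcomm : ∀ u ∈ P, ∀ v ∈ P, u * v * u⁻¹ * v⁻¹ ∈ Zc S := by
      have hcenP : (Subgroup.center P) = (Zc S).subgroupOf P := by
        ext c
        rw [Subgroup.mem_center_iff, Subgroup.mem_subgroupOf]
        constructor
        · intro hc
          exact hZP' c c.2 fun u hu => congrArg Subtype.val (hc ⟨u, hu⟩)
        · intro hc u
          exact Subtype.ext ((mem_Zc.mp hc).2 u (hPS u.2))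
      have hidx : Nat.card (P ⧸ Subgroup.center P) = p ^ 2 := by
        have h1 := card_mul_relIndex' hZP
        have h2 : Nat.card (P ⧸ Subgroup.center P) = (Zc S).relIndex P := by
          rw [hcenP]; rfl
        rw [h2]
        rw [hcP2, hc0, mul_comm] at h1
        have h3 : (Zc S).relIndex P * Nat.card (Zc S) = p ^ 2 * Nat.card (Zc S) := by rw [h1]; ring
        haveI := finite_of_le (S := S) (P := Zc S) inf_le_left
        exact Nat.eq_of_mul_eq_mul_right Nat.card_pos h3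
      intro u hu v hv
      have h1 := IsPGroup.commutative_of_card_eq_prime_sq hidx (QuotientGroup.mk ⟨u, hu⟩) (QuotientGroup.mk ⟨v, hv⟩)
      have h2 : (⟨u, hu⟩ * ⟨v, hv⟩ * ⟨u, hu⟩⁻¹ * ⟨v, hv⟩⁻¹ : P) ∈ Subgroup.center P := by
        rw [← QuotientGroup.eq_one_iff]
        change (QuotientGroup.mk ⟨u, hu⟩ * QuotientGroup.mk ⟨v, hv⟩ * (QuotientGroup.mk ⟨u, hu⟩)⁻¹ * (QuotientGroup.mk ⟨v, hv⟩)⁻¹ : P ⧸ Subgroup.center P) = 1
        rw [h1]
        group
      rw [hcenP] at h2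
      exact h2
    have hA2 : P ⊓ A = kpre h x hx (Zc S) := by
      apply le_antisymm
      · intro a ha
        exact (mem_kpre h).mpr ⟨(Subgroup.mem_inf.mp ha).2, hcomm a (Subgroup.mem_inf.mp ha).1 x hxP⟩
      · intro a ha
        obtain ⟨haA, hak⟩ := (mem_kpre h).mp ha
        refine Subgroup.mem_inf.mpr ⟨?_, haA⟩
        have han : a ∈ Subgroup.normalizer (P : Set Ω) := (h.mem_norm hx hxA hPS hxP haA).mpr ((mem_kpre h).mpr ⟨haA, hZ0 hak⟩)
        refine mem_of_trivial_chain hS hPc hPr hZP hZinv (h.le haA) han ?_ ?_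
        · intro z hz
          rw [(mem_Zc.mp hz).2 a (h.le haA), mul_inv_cancel_right]
        · intro u hu
          obtain ⟨i, b, hb, rfl⟩ := h.inf_eq hx hxA hPS hxP hu
          have h1 : a * (x ^ i * b) * a⁻¹ * (x ^ i * b)⁻¹ = (a * x * a⁻¹) ^ i * (x ^ i)⁻¹ := by
            rw [conj_zpow]
            have h2 := h.ab a⁻¹ (A.inv_mem haA) b (Subgroup.mem_inf.mp hb).2
            calc a * (x ^ i * b) * a⁻¹ * (x ^ i * b)⁻¹ = a * x ^ i * (b * a⁻¹) * b⁻¹ * (x ^ i)⁻¹ := by group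
              _ = a * x ^ i * (a⁻¹ * b) * b⁻¹ * (x ^ i)⁻¹ := by rw [h2]
              _ = a * x ^ i * a⁻¹ * (x ^ i)⁻¹ := by group
          rw [h1]
          have h3 : a * x * a⁻¹ = (a * x * a⁻¹ * x⁻¹) * x := by group
          have h4 : Commute (a * x * a⁻¹ * x⁻¹) x := ((mem_Zc.mp hak).2 x hx).symm
          rw [h3, h4.mul_zpow, mul_assoc, mul_inv_cancel, mul_one]
          exact (Zc S).zpow_mem hak i
    refine ⟨by rw [← hA2]; exact hc0, ?_, Or.inr hA2⟩
    have hk1 := kpre_card h (hx := hx) hxA hZA (N := Zc S)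
    have hk2 := kpre_card h (hx := hx) hxA hZA (N := P ⊓ A)
    haveI := finite_of_le (S := S) (P := Zc S) inf_le_left
    have hZpos : 0 < Nat.card (Zc S) := Nat.card_pos
    have hk3 : Nat.card (Zc S ⊓ kim h x hx A : Subgroup Ω) = p := by
      rw [← hA2, hc0] at hk1
      exact (Nat.eq_of_mul_eq_mul_right hZpos hk1).symm
    have hk4 : Nat.card ((P ⊓ A) ⊓ kim h x hx A : Subgroup Ω) ≤ p * p := by
      have h1 : (Zc S).relIndex (P ⊓ A) = p := by
        have := card_mul_relIndex' hZ0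
        rw [hc0, mul_comm] at this
        exact Nat.eq_of_mul_eq_mul_right hZpos this
      have h2 : (Zc S).relIndex ((P ⊓ A) ⊓ kim h x hx A) ≤ p := by
        have := Subgroup.relIndex_le_of_le_right (H := Zc S) (K := (P ⊓ A) ⊓ kim h x hx A) (L := P ⊓ A) inf_le_left (by rw [h1]; exact hp.out.ne_zero)
        rwa [h1] at this
      have h3 := card_mul_relIndex' (inf_le_right : Zc S ⊓ ((P ⊓ A) ⊓ kim h x hx A) ≤ (P ⊓ A) ⊓ kim h x hx A)
      rw [Subgroup.inf_relIndex_right] at h3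
      have h4 : Zc S ⊓ ((P ⊓ A) ⊓ kim h x hx A) = Zc S ⊓ kim h x hx A := by
        rw [← inf_assoc, inf_eq_left.mpr hZ0]
      rw [h4, hk3] at h3
      rw [← h3]
      exact Nat.mul_le_mul_left _ h2
    refine card_eq_p_mul hAkp (hpk _) hAne ?_
    rw [hk2, hc0]
    calc _ ≤ (p * p) * Nat.card (Zc S) := Nat.mul_le_mul_right _ hk4
      _ = p * (p * Nat.card (Zc S)) := by ring

end Cfsg.Agent.L0.Fus.Ess
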