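import Cfsg.Agent.L0.Fus.Ess5

/-!
S5254 and S5257.
-/

set_option autoImplicit false
set_option maxHeartbeats 1000000

open Pointwise
open scoped commutatorElement

namespace Cfsg.Agent.L0.Fus.Ess
open Cfsg.Agent.L0 Cfsg.FusionSystem

variable {Ω : Type*} [Group Ω] {S A P : Subgroup Ω} [Finite S] {p : ℕ} [hp : Fact p.Prime] {F : FusionSystem S}

theorem comm_eq_zpow (h : AD S A p) {x a b : Ω} (hx : x ∈ S) (ha : a ∈ A) (hb : b ∈ A) (hk : a * x * a⁻¹ * x⁻¹ ∈ Zc S) (i : ℤ) :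
    a * (x ^ i * b) * a⁻¹ * (x ^ i * b)⁻¹ = (a * x * a⁻¹ * x⁻¹) ^ i := by
  have h1 : a * (x ^ i * b) * a⁻¹ * (x ^ i * b)⁻¹ = (a * x * a⁻¹) ^ i * (x ^ i)⁻¹ := by
    rw [conj_zpow]
    have h2 := h.ab a⁻¹ (A.inv_mem ha) b hb
    calc a * (x ^ i * b) * a⁻¹ * (x ^ i * b)⁻¹ = a * x ^ i * (b * a⁻¹) * b⁻¹ * (x ^ i)⁻¹ := by group
      _ = a * x ^ i * (a⁻¹ * b) * b⁻¹ * (x ^ i)⁻¹ := by rw [h2]
      _ = a * x ^ i * a⁻¹ * (x ^ i)⁻¹ := by group
  rw [h1]
  have h3 : a * x * a⁻¹ = (a * x * a⁻¹ * x⁻¹) * x := by group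
  have h4 : Commute (a * x * a⁻¹ * x⁻¹) x := ((mem_Zc.mp hk).2 x hx).symm
  conv_lhs => rw [h3]
  rw [h4.mul_zpow, mul_assoc, mul_inv_cancel, mul_one]

theorem abelian_of_inf_eq (h : AD S A p) {x : Ω} (hx : x ∈ S) (hxA : x ∉ A) (hPS : P ≤ S) (hxP : x ∈ P) (hA0 : P ⊓ A = Zc S) :
    ∀ u ∈ P, ∀ v ∈ P, u * v = v * u := by
  intro u hu v hv
  obtain ⟨i, a, ha, rfl⟩ := h.inf_eq hx hxA hPS hxP hu
  obtain ⟨j, b, hb, rfl⟩ := h.inf_eq hx hxA hPS hxP hv
  rw [hA0] at ha hb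
  have ca : ∀ s ∈ S, Commute a s := fun s hs => ((mem_Zc.mp ha).2 s hs).symm
  have cb : ∀ s ∈ S, Commute b s := fun s hs => ((mem_Zc.mp hb).2 s hs).symm
  have h1 : Commute (x ^ i) (x ^ j) := (Commute.refl x).zpow_zpow i j
  have hxi := S.zpow_mem hx i
  have hxj := S.zpow_mem hx j
  exact ((h1.mul_right (cb _ hxi).symm).mul_left ((ca _ hxj).mul_right (ca b (mem_Zc.mp hb).1))).eq

/-- the second centre -/
def Z2 (S : Subgroup Ω) : Subgroup Ω := (Subgroup.upperCentralSeries ↥S 2).map S.subtype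

omit [Finite S] in
theorem mem_Z2 {s : Ω} : s ∈ Z2 S ↔ s ∈ S ∧ ∀ u ∈ S, s * u * s⁻¹ * u⁻¹ ∈ Zc S := by
  have h1 : Subgroup.upperCentralSeries ↥S 1 = Subgroup.center S := Subgroup.upperCentralSeries_one S
  have hc : ∀ w : S, w ∈ Subgroup.upperCentralSeries ↥S 1 ↔ (w : Ω) ∈ Zc S := by
    intro w
    rw [h1, Subgroup.mem_center_iff, mem_Zc]
    exact ⟨fun hw => ⟨w.2, fun s hs => congrArg Subtype.val (hw ⟨s, hs⟩)⟩, fun hw u => Subtype.ext (hw.2 u u.2)⟩
  constructor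
  · rintro ⟨w, hw, rfl⟩
    refine ⟨w.2, fun u hu => ?_⟩
    have := (Subgroup.mem_upperCentralSeries_succ_iff).mp hw ⟨u, hu⟩
    exact (hc _).mp this
  · rintro ⟨hs, hw⟩
    refine ⟨⟨s, hs⟩, ?_, rfl⟩
    refine (Subgroup.mem_upperCentralSeries_succ_iff (n := 1)).mpr fun u => ?_
    exact (hc _).mpr (hw u u.2)

theorem Z2_inf (h : AD S A p) {x : Ω} (hx : x ∈ S) (hxA : x ∉ A) : Z2 S ⊓ A = kpre h x hx (Zc S) := by
  ext y
  rw [Subgroup.mem_inf, mem_Z2, mem_kpre]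
  constructor
  · rintro ⟨⟨hyS, hy⟩, hyA⟩
    exact ⟨hyA, hy x hx⟩
  · rintro ⟨hyA, hk⟩
    refine ⟨⟨h.le hyA, fun u hu => ?_⟩, hyA⟩
    obtain ⟨i, b, hb, rfl⟩ := h.gen x hx hxA u hu
    rw [comm_eq_zpow h hx hyA hb hk i]
    exact (Zc S).zpow_mem hk i

theorem Z2_le (hS : IsPGroup p S) (hF : F.IsSaturated p) (h : AD S A p) (hna : ¬ ∀ x ∈ S, ∀ y ∈ S, x * y = y * x)
    (huniq : ∀ B : Subgroup Ω, B ≤ S → (∀ x ∈ B, ∀ y ∈ B, x * y = y * x) → (B.subgroupOf S).index = p → B = A)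
    (hP : F.IsEssential p P) (hPA : P ≠ A) : Z2 S ≤ A := by
  intro s hs
  by_contra hsA
  obtain ⟨hsS, hs2⟩ := mem_Z2.mp hs
  have hPS := hP.1.1
  obtain ⟨x, hxP, hxA⟩ := Set.not_subset.mp (not_le_of_ne h hP.1 hPA)
  have hx : x ∈ S := hPS hxP
  obtain ⟨h1, h2, h3⟩ := ess_main hS hF h hna hP hx hxA hxP
  have h4 : A ≤ Z2 S := by
    have h5 : Z2 S ⊓ A = A := by
      rw [Z2_inf h hsS hsA]
      refine le_antisymm (kpre_le h) fun a ha => (mem_kpre h).mpr ⟨ha, ?_⟩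
      have := (Zc S).inv_mem (hs2 a (h.le ha))
      have e : (s * a * s⁻¹ * a⁻¹)⁻¹ = a * s * a⁻¹ * s⁻¹ := by group
      rwa [e] at this
    rw [← h5]; exact inf_le_left
  have h6 : kpre h x hx (Zc S) = A := by rw [← Z2_inf h hx hxA]; exact inf_eq_right.mpr h4
  rw [h6] at h1 h3
  rcases h3 with h3 | h3
  · have hPab := abelian_of_inf_eq h hx hxA hPS hxP h3
    have hPc := h.card_eq hPS (not_le_of_ne h hP.1 hPA)
    rw [h3, ← h1] at hPc
    apply hPA
    apply huniq P hPS hPab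
    change P.relIndex S = p
    have h7 := card_mul_relIndex' hPS
    have h8 := card_mul_relIndex' h.le
    haveI := finite_of_le h.le
    rw [hPc, ← h8, h.idx] at h7
    exact Nat.eq_of_mul_eq_mul_left Nat.card_pos h7
  · have hAP : A ≤ P := by rw [← h3]; exact inf_le_left
    have : S ≤ P := by
      intro u hu
      obtain ⟨i, a, ha, rfl⟩ := h.gen x hx hxA u hu
      exact P.mul_mem (P.zpow_mem hxP i) (hAP ha)
    exact absurd this (essential_lt hS hF hP).not_ge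

theorem eq_sup_of_inf (h : AD S A p) {x : Ω} (hx : x ∈ S) (hxA : x ∉ A) (hPS : P ≤ S) (hxP : x ∈ P) {N : Subgroup Ω}
    (hN : P ⊓ A = N) : P = N ⊔ Subgroup.zpowers x := by
  apply le_antisymm
  · intro u hu
    obtain ⟨i, a, ha, rfl⟩ := h.inf_eq hx hxA hPS hxP hu
    rw [hN] at ha
    exact Subgroup.mul_mem _ ((le_sup_right (α := Subgroup Ω)) (Subgroup.zpow_mem _ (Subgroup.mem_zpowers x) i))
      ((le_sup_left (α := Subgroup Ω)) ha)
  · rw [← hN]
    exact sup_le inf_le_left (by rwa [Subgroup.zpowers_le])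

/-- S5254 -/
theorem s5254 (hS : IsPGroup p S) (hF : F.IsSaturated p) (h : AD S A p) (hna : ¬ ∀ x ∈ S, ∀ y ∈ S, x * y = y * x)
    (huniq : ∀ B : Subgroup Ω, B ≤ S → (∀ x ∈ B, ∀ y ∈ B, x * y = y * x) → (B.subgroupOf S).index = p → B = A)
    (hP : F.IsEssential p P) : (P = A ∨ (∃ x ∈ S, x ∉ A ∧ P = Zc S ⊔ Subgroup.zpowers x) ∨
      (Z2 S ≤ A ∧ ∃ x ∈ S, x ∉ A ∧ P = Z2 S ⊔ Subgroup.zpowers x)) ∧ (P.subgroupOf (normalizerIn S P)).index = p := by
  have hPS := hP.1.1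
  have hPN : P ≤ normalizerIn S P := le_inf hPS Subgroup.le_normalizer
  haveI := finite_of_le hPS
  by_cases hPA : P = A
  · refine ⟨Or.inl hPA, ?_⟩
    subst hPA
    have h1 : normalizerIn S P = S := by
      refine le_antisymm inf_le_left fun s hs => Subgroup.mem_inf.mpr ⟨hs, ?_⟩
      apply Subgroup.mem_normalizer_fintype
      exact fun a ha => h.nor s hs a ha
    change P.relIndex (normalizerIn S P) = p
    rw [h1]; exact h.idx
  · obtain ⟨x, hxP, hxA⟩ := Set.not_subset.mp (not_le_of_ne h hP.1 hPA)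
    have hx : x ∈ S := hPS hxP
    obtain ⟨h1, h2, h3⟩ := ess_main hS hF h hna hP hx hxA hxP
    refine ⟨Or.inr ?_, ?_⟩
    · rcases h3 with h3 | h3
      · exact Or.inl ⟨x, hx, hxA, eq_sup_of_inf h hx hxA hPS hxP h3⟩
      · have h4 := Z2_le hS hF h hna huniq hP hPA
        refine Or.inr ⟨h4, x, hx, hxA, eq_sup_of_inf h hx hxA hPS hxP ?_⟩
        rw [h3, ← Z2_inf h hx hxA]
        exact inf_eq_left.mpr h4
    · change P.relIndex (normalizerIn S P) = p
      have h5 := card_mul_relIndex' hPN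
      rw [card_norm_eq h hx hxA hPS hxP, h2, ← h.card_eq hPS (not_le_of_ne h hP.1 hPA), mul_comm p] at h5
      exact Nat.eq_of_mul_eq_mul_left Nat.card_pos h5

theorem commutator_eq_kim (h : AD S A p) {x : Ω} (hx : x ∈ S) (hxA : x ∉ A) : (commutator ↥S).map S.subtype = kim h x hx A := by
  apply le_antisymm
  · have hn : ((kim h x hx A).subgroupOf S).Normal := by
      refine ⟨fun y hy s => ?_⟩
      have hy' : (y : Ω) ∈ kim h x hx A := hy
      change (s : Ω) * y * (s : Ω)⁻¹ ∈ kim h x hx A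
      obtain ⟨i, b, hb, hs⟩ := h.gen x hx hxA s s.2
      have key : ∀ y ∈ kim h x hx A, x * y * x⁻¹ ∈ kim h x hx A := by
        intro y hy
        obtain ⟨a, ha, -, rfl⟩ := (mem_kim h).mp hy
        refine (mem_kim h).mpr ⟨x * a * x⁻¹, h.nor x hx a ha, h.nor x hx a ha, by group⟩
      have key2 : x ∈ Subgroup.normalizer (kim h x hx A : Set Ω) := by
        haveI := finite_of_le ((kim_le h (x := x) (hx := hx) (N := A)).trans h.le)
        exact Subgroup.mem_normalizer_fintype fun y hy => key y hy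
      have key3 := Subgroup.zpow_mem _ key2 i
      have h1 : (s : Ω) * y * (s : Ω)⁻¹ = x ^ i * y * (x ^ i)⁻¹ := by
        rw [hs]
        have := h.ab b hb y (kim_le h hy')
        calc x ^ i * b * y * (x ^ i * b)⁻¹ = x ^ i * (b * y) * b⁻¹ * (x ^ i)⁻¹ := by group
          _ = x ^ i * (y * b) * b⁻¹ * (x ^ i)⁻¹ := by rw [this]
          _ = _ := by group
      rw [h1]
      exact (Subgroup.mem_normalizer_iff.mp key3 y).mp hy'
    rw [Subgroup.map_le_iff_le_comap]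
    change commutator S ≤ (kim h x hx A).subgroupOf S
    rw [commutator_def, Subgroup.commutator_le]
    intro u _ v _
    rw [← QuotientGroup.eq_one_iff]
    set π := QuotientGroup.mk' ((kim h x hx A).subgroupOf S)
    change π ⁅u, v⁆ = 1
    rw [map_commutatorElement, commutatorElement_eq_one_iff_commute]
    obtain ⟨i, a, ha, hu⟩ := h.gen x hx hxA u u.2
    obtain ⟨j, b, hb, hv⟩ := h.gen x hx hxA v v.2
    have hu' : u = ⟨x, hx⟩ ^ i * ⟨a, h.le ha⟩ := Subtype.ext hu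
    have hv' : v = ⟨x, hx⟩ ^ j * ⟨b, h.le hb⟩ := Subtype.ext hv
    have hcx : ∀ c (hc : c ∈ A), Commute (π ⟨c, h.le hc⟩) (π ⟨x, hx⟩) := by
      intro c hc
      rw [← commutatorElement_eq_one_iff_commute, ← map_commutatorElement]
      rw [QuotientGroup.mk'_apply, QuotientGroup.eq_one_iff]
      exact (mem_kim h).mpr ⟨c, hc, hc, rfl⟩
    have hab : Commute (π ⟨a, h.le ha⟩) (π ⟨b, h.le hb⟩) := by
      rw [Commute, SemiconjBy, ← map_mul, ← map_mul]
      congr 1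
      exact Subtype.ext (h.ab a ha b hb)
    rw [hu', hv', map_mul, map_mul, map_zpow, map_zpow]
    have c1 : Commute (π ⟨x, hx⟩ ^ i) (π ⟨x, hx⟩ ^ j) := (Commute.refl _).zpow_zpow i j
    exact (c1.mul_right ((hcx b hb).symm.zpow_left i)).mul_left (((hcx a ha).zpow_right j).mul_right hab)
  · intro y hy
    obtain ⟨a, ha, -, rfl⟩ := (mem_kim h).mp hy
    exact ⟨⁅⟨a, h.le ha⟩, ⟨x, hx⟩⁆, Subgroup.commutator_mem_commutator (Subgroup.mem_top _) (Subgroup.mem_top _), rfl⟩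

/-- iterated commutators -/
def kimi (h : AD S A p) (x : Ω) (hx : x ∈ S) : ℕ → Subgroup Ω
  | 0 => A
  | n + 1 => kim h x hx (kimi h x hx n)

theorem kimi_le (h : AD S A p) {x : Ω} {hx : x ∈ S} (n : ℕ) : kimi h x hx n ≤ A := by
  cases n with
  | zero => exact le_rfl
  | succ n => exact kim_le h

theorem kimi_le_one (h : AD S A p) {x : Ω} {hx : x ∈ S} (n : ℕ) : kimi h x hx (n + 1) ≤ kim h x hx A := by
  intro y hy
  obtain ⟨a, ha, -, rfl⟩ := (mem_kim h).mp hy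
  exact (mem_kim h).mpr ⟨a, ha, ha, rfl⟩

theorem kimi_le_lcs (h : AD S A p) {x : Ω} {hx : x ∈ S} (n : ℕ) : kimi h x hx n ≤ Subgroup.lowerCentralSeries S n := by
  induction n with
  | zero => exact h.le
  | succ n ih =>
    intro y hy
    obtain ⟨a, ha, haN, rfl⟩ := (mem_kim h).mp hy
    rw [Subgroup.lowerCentralSeries_succ]
    exact Subgroup.commutator_mem_commutator (ih haN) hx

/-- the growth estimate -/
theorem kimi_card (hS : IsPGroup p S) (h : AD S A p) (hna : ¬ ∀ x ∈ S, ∀ y ∈ S, x * y = y * x) {x : Ω} {hx : x ∈ S} (hxA : x ∉ A)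
    (hk : Nat.card (kpre h x hx (Zc S)) = p * Nat.card (Zc S)) :
    Nat.card (Zc S ⊓ kim h x hx A : Subgroup Ω) = p ∧ ∀ n : ℕ, Nat.card A ≤ Nat.card (kimi h x hx (n + 1)) * Nat.card (Zc S) * p ^ n := by
  have hZA := h.Z_le hna
  haveI := finite_of_le (S := S) (P := Zc S) inf_le_left
  haveI := finite_of_le h.le
  have hZpos : 0 < Nat.card (Zc S) := Nat.card_pos
  have hk3 : Nat.card (Zc S ⊓ kim h x hx A : Subgroup Ω) = p := by
    have hk1 := kpre_card h (hx := hx) hxA hZA (N := Zc S)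
    rw [hk] at hk1
    exact (Nat.eq_of_mul_eq_mul_right hZpos hk1).symm
  refine ⟨hk3, fun n => ?_⟩
  induction n with
  | zero =>
    have h1 := kim_card h (hx := hx) hxA le_rfl
    rw [inf_eq_right.mpr hZA] at h1
    rw [pow_zero, mul_one]
    exact h1.ge
  | succ n ih =>
    have h1 := kim_card h (hx := hx) hxA (kimi_le h (hx := hx) (n + 1))
    have h2 : Nat.card (kimi h x hx (n + 1) ⊓ Zc S : Subgroup Ω) ≤ p := by
      haveI := finite_of_le (S := S) (P := (Zc S ⊓ kim h x hx A)) (inf_le_left.trans inf_le_left)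
      refine le_trans (Subgroup.card_le_of_le ?_) hk3.le
      exact le_inf inf_le_right (inf_le_left.trans (kimi_le_one h n))
    calc Nat.card A ≤ Nat.card (kimi h x hx (n + 1)) * Nat.card (Zc S) * p ^ n := ih
      _ = Nat.card (kimi h x hx (n + 2)) * Nat.card (kimi h x hx (n + 1) ⊓ Zc S : Subgroup Ω) * Nat.card (Zc S) * p ^ n := by rw [← h1]; rfl
      _ ≤ Nat.card (kimi h x hx (n + 2)) * p * Nat.card (Zc S) * p ^ n := by gcongr
      _ = Nat.card (kimi h x hx (n + 1 + 1)) * Nat.card (Zc S) * p ^ (n + 1) := by ring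

/-- S5257 -/
theorem s5257 (hS : IsPGroup p S) (hF : F.IsSaturated p) (h : AD S A p) (hna : ¬ ∀ x ∈ S, ∀ y ∈ S, x * y = y * x)
    (huniq : ∀ B : Subgroup Ω, B ≤ S → (∀ x ∈ B, ∀ y ∈ B, x * y = y * x) → (B.subgroupOf S).index = p → B = A)
    (hP : F.IsEssential p P) (hPA : P ≠ A) : Z2 S ≤ A ∧ Nat.card (Zc S ⊓ ((commutator ↥S).map S.subtype) : Subgroup Ω) = p ∧
      ((Zc S ⊔ ((commutator ↥S).map S.subtype)).subgroupOf A).index = p ∧
      ((Zc S).subgroupOf (Z2 S)).index = p ∧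
      ∀ m : ℕ, ((Zc S).subgroupOf S).index = p ^ m → 3 ≤ m → ¬ Subgroup.lowerCentralSeries S (m - 2) ≤ Zc S := by
  have hPS := hP.1.1
  obtain ⟨x, hxP, hxA⟩ := Set.not_subset.mp (not_le_of_ne h hP.1 hPA)
  have hx : x ∈ S := hPS hxP
  obtain ⟨h1, h2, h3⟩ := ess_main hS hF h hna hP hx hxA hxP
  obtain ⟨h4, h5⟩ := kimi_card hS h hna (hx := hx) hxA h1
  have hZA := h.Z_le hna
  haveI := finite_of_le (S := S) (P := Zc S) inf_le_left
  haveI := finite_of_le h.le
  have hZpos : 0 < Nat.card (Zc S) := Nat.card_pos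
  have h6 := Z2_le hS hF h hna huniq hP hPA
  have h7 : Z2 S = kpre h x hx (Zc S) := by rw [← Z2_inf h hx hxA]; exact (inf_eq_left.mpr h6).symm
  refine ⟨h6, ?_, ?_, ?_, ?_⟩
  · rw [commutator_eq_kim h hx hxA]; exact h4
  · rw [commutator_eq_kim h hx hxA]
    change (Zc S ⊔ kim h x hx A).relIndex A = p
    have hKA : kim h x hx A ≤ A := kim_le h
    -- product formula
    haveI hn : ((Zc S).subgroupOf A).Normal := ⟨fun z hz a => by
      have hz' : (z : Ω) ∈ Zc S := hz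
      change (a : Ω) * z * (a : Ω)⁻¹ ∈ Zc S
      rw [(mem_Zc.mp hz').2 a (h.le a.2), mul_inv_cancel_right]
      exact hz'⟩
    have h8 : (Zc S).relIndex (Zc S ⊔ kim h x hx A) = (Zc S).relIndex (kim h x hx A) := by
      have h9 := Subgroup.relIndex_sup_left ((kim h x hx A).subgroupOf A) ((Zc S).subgroupOf A)
      rw [← Subgroup.subgroupOf_sup hZA hKA, Subgroup.relIndex_subgroupOf (sup_le hZA hKA), Subgroup.relIndex_subgroupOf hKA] at h9
      exact h9
    have h11 := card_mul_relIndex' (le_sup_left : Zc S ≤ Zc S ⊔ kim h x hx A)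
    have h12 := card_mul_relIndex' (inf_le_right : Zc S ⊓ kim h x hx A ≤ kim h x hx A)
    rw [Subgroup.inf_relIndex_right, h4] at h12
    have h13 := kim_card h (hx := hx) hxA le_rfl
    rw [inf_eq_right.mpr hZA] at h13
    have h14 := card_mul_relIndex' (sup_le hZA hKA : Zc S ⊔ kim h x hx A ≤ A)
    rw [h8] at h11
    rw [← h11, ← h13, ← h12] at h14
    haveI : Finite (kim h x hx A) := finite_of_le (hKA.trans h.le)
    have hr : 0 < (Zc S).relIndex (kim h x hx A) := Nat.pos_of_ne_zero (by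
      intro h0
      rw [h0, mul_zero] at h12
      exact (Nat.card_pos (α := kim h x hx A)).ne h12)
    have h15 : (Nat.card (Zc S) * (Zc S).relIndex (kim h x hx A)) * (Zc S ⊔ kim h x hx A).relIndex A =
      (Nat.card (Zc S) * (Zc S).relIndex (kim h x hx A)) * p := by rw [h14]; ring
    exact Nat.eq_of_mul_eq_mul_left (Nat.mul_pos hZpos hr) h15
  · change (Zc S).relIndex (Z2 S) = p
    have h8 : Zc S ≤ Z2 S := by
      rw [h7]
      intro z hz
      refine (mem_kpre h).mpr ⟨hZA hz, ?_⟩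
      have : z * x * z⁻¹ * x⁻¹ = 1 := by rw [← (mem_Zc.mp hz).2 x hx]; group
      rw [this]; exact Subgroup.one_mem _
    have h9 := card_mul_relIndex' h8
    rw [h7, h1, mul_comm p] at h9
    rw [h7]
    exact Nat.eq_of_mul_eq_mul_left hZpos h9
  · intro m hm hm3 hle
    have h8 : Nat.card (Zc S) * p ^ m = Nat.card S := by
      have := card_mul_relIndex' (inf_le_left : Zc S ≤ S)
      rw [← this]
      congr 1
      exact hm.symm
    have h9 : Nat.card A * p = Nat.card S := by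
      rw [← card_mul_relIndex' h.le, h.idx]
    obtain ⟨k, rfl⟩ : ∃ k, m = k + 3 := ⟨m - 3, by omega⟩
    have h10 : kimi h x hx (k + 1) ≤ Zc S := (kimi_le_lcs h (k + 1)).trans hle
    have h11 : Nat.card (kimi h x hx (k + 2)) = 1 := by
      rw [Subgroup.card_eq_one, eq_bot_iff]
      intro y hy
      obtain ⟨a, ha, haN, rfl⟩ := (mem_kim h).mp hy
      rw [Subgroup.mem_bot, ← (mem_Zc.mp (h10 haN)).2 x hx]; group
    have h12 := h5 (k + 1)
    have e1 : k + 1 + 1 = k + 2 := rfl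
    rw [e1, h11, one_mul] at h12
    have h13 : Nat.card (Zc S) * p ^ (k + 3) ≤ Nat.card (Zc S) * p ^ (k + 2) := by
      rw [h8, ← h9]
      calc Nat.card A * p ≤ (Nat.card (Zc S) * p ^ (k + 1)) * p := Nat.mul_le_mul_right _ h12
        _ = Nat.card (Zc S) * p ^ (k + 2) := by ring
    have h14 := Nat.le_of_mul_le_mul_left h13 hZpos
    exact absurd h14 (not_le.mpr (Nat.pow_lt_pow_right hp.out.one_lt (by omega)))

end Cfsg.Agent.L0.Fus.Ess
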