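import Cfsg.Agent.L0.Fus.Prime3
set_option autoImplicit false
/-! Tools for values, II. -/

open Pointwise

namespace Cfsg.Agent.L0.Fus

open Cfsg.Agent.L0 Cfsg.FusionSystem

variable {Ω : Type*} [Group Ω] {S : Subgroup Ω}

/-- the standing assumptions. -/
structure Std (F G : FusionSystem S) (p : ℕ) : Prop extends GD F G where
  pel : ∀ P, F.IsCentric P → ∀ α ∈ F.autGroup P, (∃ k, orderOf α = p ^ k) → α ∈ G.autGroup P
  fr : ∀ P Q f, Mi F P Q f → ∃ a, V F G P Q f a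
  uq : ∀ P, F.IsCentric P → ∀ a ∈ F.autGroup S, ∀ Q, Mi G P Q (ac a) → a ∈ G.autGroup S

/-- `P C_S(P)` -/
def pc (S P : Subgroup Ω) : Subgroup Ω := P ⊔ centralizerIn S P

def Th (F G : FusionSystem S) (P : Subgroup Ω) (f : Ω → Ω) (a : MulAut S) : Prop :=
  Mi F P P f ∧ ∃ χ, Mi F (pc S P) (pc S P) χ ∧ (∀ x ∈ P, χ x = f x) ∧ V F G (pc S P) (pc S P) χ a

section
variable {F G : FusionSystem S} {P Q R D D' X X' W W' P' : Subgroup Ω} {f g μ : Ω → Ω} {a b : MulAut S} {p : ℕ}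

theorem le_pc : P ≤ pc S P := le_sup_left
theorem cent_le_pc : centralizerIn S P ≤ pc S P := le_sup_right
theorem pc_le (hP : P ≤ S) : pc S P ≤ normalizerIn S P := sup_le (le_normalizerIn hP) centralizerIn_le_normalizerIn

theorem Mi.restrict_of (h : Mi F X X' f) (hW : W ≤ X) (h' : ∀ y, y ∈ W' ↔ ∃ x ∈ W, f x = y) : Mi F W W' f := by
  obtain ⟨R', hR', h1, h2⟩ := h.restrict hW
  have : R' = W' := by ext y; rw [h2, h']
  rwa [← this]

theorem Mi.sup (h : Mi F X X' f) (hP : P ≤ X) (hQ : Q ≤ X) (h1 : Mi F P P' f) (h2 : Mi F Q W f) : Mi F (P ⊔ Q) (P' ⊔ W) f := by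
  obtain ⟨φ, hφ, hφf, rfl⟩ := h
  have hle := sup_le hP hQ
  have h3 : ∀ x : ↥(P ⊔ Q), (φ.comp (Subgroup.inclusion hle)) x ∈ P' ⊔ W :=
    map_sup_range (fun x => (le_sup_left (α := Subgroup Ω)) (by
      change φ ⟨x, hP x.2⟩ ∈ P'
      rw [hφf]; exact h1.mem x.2)) (fun x => (le_sup_right (α := Subgroup Ω)) (by
      change φ ⟨x, hQ x.2⟩ ∈ W
      rw [hφf]; exact h2.mem x.2))
  refine ⟨φ.comp (Subgroup.inclusion hle), restrict_mem F hφ hle, fun x => hφf _, le_antisymm ?_ ?_⟩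
  · rintro _ ⟨x, rfl⟩; exact h3 x
  · refine sup_le ?_ ?_
    · intro y hy
      obtain ⟨x, hx, rfl⟩ := h1.surj hy
      exact ⟨⟨x, (le_sup_left (α := Subgroup Ω)) hx⟩, hφf ⟨x, hP hx⟩⟩
    · intro y hy
      obtain ⟨x, hx, rfl⟩ := h2.surj hy
      exact ⟨⟨x, (le_sup_right (α := Subgroup Ω)) hx⟩, hφf ⟨x, hQ hx⟩⟩

/-- images normalize -/
theorem Mi.map_normalizer (h : Mi F X X' f) (hPX : P ≤ X) (h1 : Mi F P P' f) {x : Ω} (hx : x ∈ X) (hxN : x ∈ Subgroup.normalizer (P : Set Ω)) :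
    f x ∈ normalizerIn S P' := by
  refine mem_normalizerIn.mpr ⟨h.le' (h.mem hx), ?_⟩
  rw [Subgroup.mem_normalizer_iff]
  have key : ∀ y ∈ P, f x * f y * (f x)⁻¹ = f (x * y * x⁻¹) := fun y hy => by
    rw [h.map_mul (X.mul_mem hx (hPX hy)) (X.inv_mem hx), h.map_mul hx (hPX hy), h.map_inv hx]
  have key' : ∀ y ∈ P, (f x)⁻¹ * f y * f x = f (x⁻¹ * y * x) := fun y hy => by
    rw [h.map_mul (X.mul_mem (X.inv_mem hx) (hPX hy)) hx, h.map_mul (X.inv_mem hx) (hPX hy), h.map_inv hx]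
  intro z
  constructor
  · intro hz
    obtain ⟨y, hy, rfl⟩ := h1.surj hz
    rw [key y hy]
    exact h1.mem ((Subgroup.mem_normalizer_iff.mp hxN y).mp hy)
  · intro hz
    obtain ⟨y, hy, hyz⟩ := h1.surj hz
    have h2 : z = (f x)⁻¹ * f y * f x := by rw [hyz]; group
    rw [h2, key' y hy]
    exact h1.mem ((Subgroup.mem_normalizer_iff''.mp hxN y).mp hy)

theorem Mi.map_centralizer (h : Mi F X X' f) (hPX : P ≤ X) (h1 : Mi F P P' f) {x : Ω} (hx : x ∈ X) (hxC : x ∈ centralizerIn S P) :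
    f x ∈ centralizerIn S P' := by
  refine mem_centralizerIn.mpr ⟨h.le' (h.mem hx), fun z hz => ?_⟩
  obtain ⟨y, hy, rfl⟩ := h1.surj hz
  rw [← h.map_mul (hPX hy) hx, ← h.map_mul hx (hPX hy), (mem_centralizerIn.mp hxC).2 y hy]

variable [Fact p.Prime] [Finite S]

omit [Fact p.Prime] in
theorem Mi.cent (h : Mi F X X' f) (hPX : P ≤ X) (hCX : centralizerIn S P ≤ X) (h1 : Mi F P P' f)
    (hc : Nat.card (centralizerIn S P') ≤ Nat.card (centralizerIn S P)) : Mi F (centralizerIn S P) (centralizerIn S P') f := by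
  obtain ⟨R', hR', h2, h3⟩ := h.restrict hCX
  have hle : R' ≤ centralizerIn S P' := by
    intro y hy
    obtain ⟨x, hx, rfl⟩ := (h3 y).mp hy
    exact h.map_centralizer hPX h1 (hCX hx) hx
  have : R' = centralizerIn S P' := Subgroup.eq_of_le_of_card_ge hle (hc.trans h2.card.le)
  rwa [← this]

omit [Fact p.Prime] in
theorem Mi.norm (h : Mi F X X' f) (hPX : P ≤ X) (hNX : normalizerIn S P ≤ X) (h1 : Mi F P P' f)
    (hc : Nat.card (normalizerIn S P') ≤ Nat.card (normalizerIn S P)) : Mi F (normalizerIn S P) (normalizerIn S P') f := by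
  obtain ⟨R', hR', h2, h3⟩ := h.restrict hNX
  have hle : R' ≤ normalizerIn S P' := by
    intro y hy
    obtain ⟨x, hx, rfl⟩ := (h3 y).mp hy
    exact h.map_normalizer hPX h1 (hNX hx) (mem_normalizerIn.mp hx).2
  have : R' = normalizerIn S P' := Subgroup.eq_of_le_of_card_ge hle (hc.trans h2.card.le)
  rwa [← this]

omit [Fact p.Prime] in
theorem Mi.pc (h : Mi F X X' f) (hPX : P ≤ X) (hCX : centralizerIn S P ≤ X) (h1 : Mi F P P' f)
    (hc : Nat.card (centralizerIn S P') ≤ Nat.card (centralizerIn S P)) : Mi F (pc S P) (pc S P') f :=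
  h.sup hPX hCX h1 (h.cent hPX hCX h1 hc)

omit [Fact p.Prime] in
theorem pc_centric (hP : F.IsFullyCentralized P) : F.IsCentric (pc S P) := by
  refine ⟨sup_le hP.1 inf_le_left, fun Q hQ => ?_⟩
  obtain ⟨f, hf⟩ := exists_mi_of_isConj hQ
  obtain ⟨P', hP', h1, h2⟩ := hf.restrict (le_pc (S := S) (P := P))
  have h3 := hf.cent le_pc cent_le_pc h1 (hP.2 _ h1.isConj)
  intro c hc
  rw [mem_centralizerIn] at hc
  have hcP : c ∈ centralizerIn S P' := mem_centralizerIn.mpr ⟨hc.1, fun x hx => hc.2 x (hP' hx)⟩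
  obtain ⟨x, hx, rfl⟩ := h3.surj hcP
  exact hf.mem (cent_le_pc hx)

omit [Fact p.Prime] in
theorem mi_of_maps (h : Mi F X X' f) (hW : W ≤ X) (h1 : ∀ x ∈ W, f x ∈ W) : Mi F W W f := by
  obtain ⟨R', hR', h2, h3⟩ := h.restrict hW
  have hle : R' ≤ W := by
    intro y hy
    obtain ⟨x, hx, rfl⟩ := (h3 y).mp hy
    exact h1 x hx
  haveI : Finite W := finite_of_le h2.le
  have : R' = W := Subgroup.eq_of_le_of_card_ge hle h2.card.le
  rwa [this] at h2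

/-- extension -/
theorem mi_extend (hP : F.IsReceptive P) (hf : Mi F Q P f) (hQW : Q ≤ W) (hW : W ≤ normalizerIn S Q)
    (hWe : ∀ w ∈ W, ∃ h ∈ S, ∀ x ∈ Q, f (w * x * w⁻¹) = h * f x * h⁻¹) : ∃ g W', Mi F W W' g ∧ ∀ x ∈ Q, g x = f x := by
  obtain ⟨φ, hφ, h1, h2⟩ := hf
  obtain ⟨ψ, hψ, h3⟩ := hP.2 Q φ hφ h2
  have hle : W ≤ extender S Q φ := by
    intro w hw
    obtain ⟨h, hhS, hh⟩ := hWe w hw
    have hwN := mem_normalizerIn.mp (hW hw)
    exact mem_extender.mpr ⟨hwN.1, hwN.2, h, hhS, fun x hx => by rw [h1, h1]; exact hh x x.2⟩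
  obtain ⟨W', hW', h4, h5⟩ := (mi_toF.mpr hψ).restrict hle
  refine ⟨_, _, h4, fun x hx => ?_⟩
  rw [toF_apply ψ (hle (hQW hx)), h3 x hx (hle (hQW hx)), h1]

/-- extension of a map on `W ≤ N_S(P)` to `W C_S(P)`, up to the action on `P` -/
theorem exists_ext_pc (hP : F.IsReceptive P) (hf : Mi F W W' f) (hPW : P ≤ W) (hW : W ≤ normalizerIn S P) (h1 : Mi F P P f) :
    ∃ g X', Mi F (W ⊔ pc S P) X' g ∧ ∀ x ∈ P, g x = f x := by
  have hPS := hP.1
  obtain ⟨φ, hφ, h2, h3⟩ := h1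
  obtain ⟨ψ, hψ, h4⟩ := hP.2 P φ hφ h3
  have hle : W ⊔ pc S P ≤ extender S P φ := by
    refine sup_le ?_ (sup_le (le_extender hPS (fun x => hPS (h3.le ⟨x, rfl⟩))) centralizerIn_le_extender)
    intro w hw
    have hwN := mem_normalizerIn.mp (hW hw)
    refine mem_extender.mpr ⟨hwN.1, hwN.2, f w, hf.le' (hf.mem hw), fun x hx => ?_⟩
    rw [h2, h2]
    rw [← hf.map_inv hw, ← hf.map_mul hw (hPW x.2), ← hf.map_mul (W.mul_mem hw (hPW x.2)) (W.inv_mem hw)]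
  obtain ⟨X', hX', h5, h6⟩ := (mi_toF.mpr hψ).restrict hle
  refine ⟨_, _, h5, fun x hx => ?_⟩
  rw [toF_apply ψ (hle ((le_sup_left (α := Subgroup Ω)) (hPW hx))), h4 x hx, h2]

end

section Th
variable {F G : FusionSystem S} {P Q R D D' X X' W W' P' : Subgroup Ω} {f g μ : Ω → Ω} {a b : MulAut S} {p : ℕ}

theorem Th.congr (h : Th F G P f a) (hfg : ∀ x ∈ P, f x = g x) : Th F G P g a := by
  obtain ⟨h1, χ, h2, h3, h4⟩ := h
  exact ⟨h1.congr hfg, χ, h2, fun x hx => (h3 x hx).trans (hfg x hx), h4⟩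

theorem Th.comp (hG : GD F G) (h : Th F G P f a) (h' : Th F G P g b) : Th F G P (g ∘ f) (b * a) := by
  obtain ⟨h1, χ, h2, h3, h4⟩ := h
  obtain ⟨h5, ψ, h6, h7, h8⟩ := h'
  refine ⟨h1.comp h5, ψ ∘ χ, h2.comp h6, fun x hx => ?_, h4.comp hG h2 h6 h8⟩
  simp only [Function.comp_apply]
  rw [h3 x hx, h7 _ (h1.mem hx)]

theorem Th.symm_of (hG : GD F G) (h : Th F G P f a) (hg : ∀ x ∈ P, g (f x) = x) : Th F G P g a⁻¹ := by
  obtain ⟨h1, χ, h2, h3, h4⟩ := h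
  obtain ⟨ψ, h5, h6, h7⟩ := h2.symm
  refine ⟨h1.symm_of hg, ψ, h5, fun y hy => ?_, h4.symm_of hG h2 h6⟩
  obtain ⟨x, hx, rfl⟩ := h1.surj hy
  rw [hg x hx, ← h3 x hx, h6 x (le_pc hx)]

theorem th_one (hG : GD F G) (hP : P ≤ S) : Th F G P id 1 :=
  ⟨Mi.refl hP, id, Mi.refl (sup_le hP inf_le_left), fun _ _ => rfl, v_id hG (sup_le hP inf_le_left)⟩

theorem Th.mul_right (hG : GD F G) (h : Th F G P f a) (hb : b ∈ G.autGroup S) : Th F G P f (a * b) := by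
  obtain ⟨h1, χ, h2, h3, h4⟩ := h
  exact ⟨h1, χ, h2, h3, h4.mul_right hG h2.le' (fun x hx => h2.le' (h2.mem hx)) hb⟩

variable [Fact p.Prime] [Finite S]

omit [Fact p.Prime] in
theorem th_of_ext (hG : GD F G) (hf : Mi F X X' f) (hX : pc S P ≤ X) (h1 : Mi F P P f) (h : V F G X X' f a) : Th F G P f a := by
  have h2 := hf.pc (le_pc.trans hX) (cent_le_pc.trans hX) h1 le_rfl
  exact ⟨h1, f, h2, fun _ _ => rfl, h.restrict hG hX h2⟩

theorem V.uniq' (hG : Std F G p) (hP : F.IsCentric P) (hf : Mi F P Q f) (h1 : V F G P Q f a) (h2 : V F G P Q f b) : a⁻¹ * b ∈ G.autGroup S :=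
  h1.uniq hG.toGD hf (fun c hc Q' h => hG.uq P hP c hc Q' h) h2

/-- maps trivial on `P` -/
theorem exists_of_trivial (hS : IsPGroup p S) (hF : F.IsSaturated p) (hG : Std F G p) (hP : F.IsFullyCentralized P)
    (hR : R ≤ normalizerIn S P) (hCR : pc S P ≤ R) (hPD : P ≤ D) (hDR : D ≤ R) (hD'R : D' ≤ R) (hf : Mi F D D' f) (hf1 : ∀ x ∈ P, f x = x) :
    ∃ k b, Mi F R R k ∧ V F G R R k b ∧ (∀ x ∈ P, k x = x) ∧ V F G D D' f b := by
  have hPS := hP.1
  haveI : Finite P := finite_of_le hPS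
  have hRS : R ≤ S := hR.trans inf_le_left
  have hPR : P ≤ R := le_pc.trans hCR
  have hInn : Inn P ≤ autInducedBy R P := by
    intro α hα
    rw [mem_Inn] at hα
    obtain ⟨x, hx⟩ := hα
    exact mem_autInducedBy.mpr ⟨x, hPR x.2, fun y => by rw [hx]; rfl⟩
  obtain ⟨α, hα, ⟨κ, hκ, hακ⟩, D₁, hD₁⟩ := tool_aux (K := autInducedBy R P) (κ := 1) hS hF hG.pel hP hInn (fun β hβ => by
      obtain ⟨r, hr, h⟩ := mem_autInducedBy.mp hβ
      exact mem_autInducedBy.mpr ⟨r, hRS hr, h⟩) (kNormIn_induced hR (cent_le_pc.trans hCR)).symm hPD hDR hD'R hf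
      (Subgroup.one_mem _) (fun x => hf1 x x.2)
  obtain ⟨r, hr, hrx⟩ := mem_autInducedBy.mp hκ
  have hαM := (mi_ac hRS).mpr hα
  obtain ⟨b, hb⟩ := hG.fr R R _ hαM
  have hrS := hRS hr
  have hconj : Mi F R R (fun x => r⁻¹ * x * r⁻¹⁻¹) := by
    have h1 := mi_conj (F := F) hRS (S.inv_mem hrS)
    refine mi_eq h1 rfl ?_ (fun _ _ => rfl)
    ext y
    constructor
    · rintro ⟨x, hx, rfl⟩
      exact R.mul_mem (R.mul_mem (R.inv_mem hr) hx) (R.inv_mem (R.inv_mem hr))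
    · intro hy
      refine ⟨r * y * r⁻¹, R.mul_mem (R.mul_mem hr hy) (R.inv_mem hr), ?_⟩
      change r⁻¹ * (r * y * r⁻¹) * r⁻¹⁻¹ = y
      group
  have hconjV : V F G R R (fun x => r⁻¹ * x * r⁻¹⁻¹) 1 := by
    have h1 := mi_conj (F := G) hRS (S.inv_mem hrS)
    have h2 := h1.mono hG.le
    have h3 := ((v_one hG.toGD).mp h1).2.2
    rwa [← hconj.range_unique h2 (fun _ _ => rfl)] at h3
  refine ⟨_, _, hαM.comp hconj, hb.comp hG.toGD hαM hconj hconjV, fun x hx => ?_, ?_⟩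
  · have h1 := hακ ⟨x, hx⟩
    rw [hrx] at h1
    simp only [Function.comp_apply]
    rw [h1]; group
  · rw [one_mul]
    have h1 : Mi F D D₁ (ac α⁻¹ ∘ f) := hD₁.mono hG.le
    have h2 : D₁ ≤ R := by
      intro y hy
      obtain ⟨x, hx, rfl⟩ := h1.surj hy
      exact ac_mem _ (hD'R (hf.mem hx))
    have h3 : Mi F D₁ D' (ac α) := by
      refine hαM.restrict_of h2 fun y => ?_
      constructor
      · intro hy
        obtain ⟨x, hx, rfl⟩ := hf.surj hy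
        exact ⟨_, h1.mem hx, ac_ac_inv α (hD'R (hf.mem hx))⟩
      · rintro ⟨z, hz, rfl⟩
        obtain ⟨x, hx, rfl⟩ := h1.surj hz
        simp only [Function.comp_apply]
        rw [ac_ac_inv α (hD'R (hf.mem hx))]; exact hf.mem hx
    have h4 := (((v_one hG.toGD).mp hD₁).2.2).comp hG.toGD h1 h3 (hb.restrict hG.toGD h2 h3)
    rw [mul_one] at h4
    refine h4.congr fun x hx => ?_
    simp only [Function.comp_apply]
    exact ac_ac_inv α (hD'R (hf.mem hx))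

end Th

end Cfsg.Agent.L0.Fus
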