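import Cfsg.Agent.L0.Fus.Ess6
import Cfsg.Agent.L0.Fus.Prime4

/-!
Maps between nonabelian subgroups act on the centre as automorphisms of `S`.
-/

set_option autoImplicit false
set_option maxHeartbeats 1000000

open Pointwise

namespace Cfsg.Agent.L0.Fus.Ess
open Cfsg.Agent.L0 Cfsg.FusionSystem

variable {Ω : Type*} [Group Ω] {S A P R : Subgroup Ω} [Finite S] {p : ℕ} [hp : Fact p.Prime] {F : FusionSystem S}

omit [Finite S] hp in
theorem abelian_of_inf_le (h : AD S A p) {x : Ω} (hx : x ∈ S) (hxA : x ∉ A) (hPS : P ≤ S) (hxP : x ∈ P) (hA0 : P ⊓ A ≤ Zc S) :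
    ∀ u ∈ P, ∀ v ∈ P, u * v = v * u := by
  intro u hu v hv
  obtain ⟨i, a, ha, rfl⟩ := h.inf_eq hx hxA hPS hxP hu
  obtain ⟨j, b, hb, rfl⟩ := h.inf_eq hx hxA hPS hxP hv
  have ha := hA0 ha
  have hb := hA0 hb
  have ca : ∀ s ∈ S, Commute a s := fun s hs => ((mem_Zc.mp ha).2 s hs).symm
  have cb : ∀ s ∈ S, Commute b s := fun s hs => ((mem_Zc.mp hb).2 s hs).symm
  have h1 : Commute (x ^ i) (x ^ j) := (Commute.refl x).zpow_zpow i j
  have hxi := S.zpow_mem hx i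
  have hxj := S.zpow_mem hx j
  exact ((h1.mul_right (cb _ hxi).symm).mul_left ((ca _ hxj).mul_right (ca b (mem_Zc.mp hb).1))).eq

/-- nonabelian subgroups of `S` containing the centre -/
structure NAb (S R : Subgroup Ω) : Prop where
  le : R ≤ S
  Z : Zc S ≤ R
  na : ¬ ∀ u ∈ R, ∀ v ∈ R, u * v = v * u

omit [Finite S] hp in
theorem center_le_Z (h : AD S A p) (hR : R ≤ S) (hna : ¬ ∀ u ∈ R, ∀ v ∈ R, u * v = v * u) {c : Ω} (hc : c ∈ R)
    (hcc : ∀ u ∈ R, u * c = c * u) : c ∈ Zc S := by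
  obtain ⟨x, hxR, hxA⟩ : ∃ x ∈ R, x ∉ A := by
    by_contra hcon
    push Not at hcon
    exact hna fun u hu v hv => h.ab u (hcon u hu) v (hcon v hv)
  by_cases hcA : c ∈ A
  · exact h.mem_Z (hR hxR) hxA hcA (hcc x hxR).symm
  · exfalso
    apply hna
    apply abelian_of_inf_le h (hR hxR) hxA hR hxR
    intro a ha
    exact h.mem_Z (hR hc) hcA (Subgroup.mem_inf.mp ha).2 (hcc a (Subgroup.mem_inf.mp ha).1)

theorem NAb.conj (h : AD S A p) (hR : NAb S R) {R' : Subgroup Ω} {f : Ω → Ω} (hf : Mi F R R' f) :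
    NAb S R' ∧ ∀ z ∈ Zc S, f z ∈ Zc S := by
  have hna' : ¬ ∀ u ∈ R', ∀ v ∈ R', u * v = v * u := by
    intro hc
    apply hR.na
    intro u hu v hv
    apply hf.inj (R.mul_mem hu hv) (R.mul_mem hv hu)
    rw [hf.map_mul hu hv, hf.map_mul hv hu, hc _ (hf.mem hu) _ (hf.mem hv)]
  have hfz : ∀ z ∈ Zc S, f z ∈ Zc S := by
    intro z hz
    refine center_le_Z h hf.le' hna' (hf.mem (hR.Z hz)) fun u hu => ?_
    obtain ⟨w, hw, rfl⟩ := hf.surj hu
    rw [← hf.map_mul hw (hR.Z hz), ← hf.map_mul (hR.Z hz) hw, (mem_Zc.mp hz).2 w (hR.le hw)]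
  refine ⟨⟨hf.le', ?_, hna'⟩, hfz⟩
  obtain ⟨Z', hZ'R, hZ'm, hZ'⟩ := hf.restrict hR.Z
  have h1 : Z' ≤ Zc S := by
    intro y hy
    obtain ⟨z, hz, rfl⟩ := (hZ' y).mp hy
    exact hfz z hz
  haveI := finite_of_le (S := S) (P := Zc S) inf_le_left
  have h2 : Z' = Zc S := Subgroup.eq_of_le_of_card_ge h1 hZ'm.card.le
  rw [← h2]; exact hZ'R

theorem NAb.mono {R' : Subgroup Ω} (hR : NAb S R) (h : R ≤ R') (hR' : R' ≤ S) : NAb S R' :=
  ⟨hR', hR.Z.trans h, fun hc => hR.na fun u hu v hv => hc u (h hu) v (h hv)⟩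

/-- an automorphism normalizing `Aut_S(Q)` extends to `N_S(Q)` -/
theorem exists_ext_norm {Q : Subgroup Ω} (hQ : F.IsReceptive Q) {n : MulAut Q} (hn : n ∈ F.autGroup Q)
    (hnT : ∀ t ∈ autInducedBy S Q, n * t * n⁻¹ ∈ autInducedBy S Q) :
    ∃ g N', Mi F (normalizerIn S Q) N' g ∧ (∀ x ∈ Q, g x = ac n x) := by
  have hQS := hQ.1
  obtain ⟨g, N', hg, hgx⟩ := mi_extend hQ ((mi_ac (F := F) (α := n) hQS).mpr hn) (le_normalizerIn hQS) le_rfl (by
    intro w hw
    obtain ⟨hwS, hwn⟩ := Subgroup.mem_inf.mp hw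
    have ht : Q.normalizerMonoidHom ⟨w, hwn⟩ ∈ autInducedBy S Q := mem_autInducedBy.mpr ⟨w, hwS, fun x => rfl⟩
    obtain ⟨k, hk, hke⟩ := mem_autInducedBy.mp (hnT _ ht)
    refine ⟨k, hk, fun x hx => ?_⟩
    have h1 := hke ⟨ac n x, ac_mem n hx⟩
    have h2 : (n * Q.normalizerMonoidHom ⟨w, hwn⟩ * n⁻¹) ⟨ac n x, ac_mem n hx⟩ = n (Q.normalizerMonoidHom ⟨w, hwn⟩ ⟨x, hx⟩) := by
      change n (Q.normalizerMonoidHom ⟨w, hwn⟩ (n⁻¹ ⟨ac n x, ac_mem n hx⟩)) = _
      have h3 : (⟨ac n x, ac_mem n hx⟩ : Q) = n ⟨x, hx⟩ := Subtype.ext (ac_apply n hx)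
      rw [h3, MulAut.inv_apply_self]
    rw [h2] at h1
    have h4 : w * x * w⁻¹ ∈ Q := (Subgroup.mem_normalizer_iff.mp hwn x).mp hx
    rw [ac_apply n h4]
    exact h1)
  exact ⟨g, N', hg, hgx⟩

theorem star_aux (hS : IsPGroup p S) (hF : F.IsSaturated p) (h : AD S A p) (n : ℕ) : ∀ (R R' : Subgroup Ω) (f : Ω → Ω), NAb S R →
    Mi F R R' f → Nat.card S - Nat.card R = n → ∃ γ ∈ F.autGroup S, ∀ z ∈ Zc S, f z = ac γ z := by
  induction n using Nat.strong_induction_on with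
  | _ n ih =>
    intro R R' f hR hf hn
    have hRS := hR.le
    by_cases hRe : R = S
    · subst hRe
      have h1 : R' = R := Subgroup.eq_of_le_of_card_ge hf.le' hf.card.le
      rw [h1] at hf
      obtain ⟨γ, hγ, hγe⟩ := hf.aut
      exact ⟨γ, hγ, fun z hz => (hγe z (hR.Z hz)).symm⟩
    · have hRlt : R < S := lt_of_le_of_ne hRS hRe
      have key : ∀ Q X, NAb S Q → Q < S → Q < X → X ≤ S → Nat.card Q = Nat.card R → Nat.card S - Nat.card X < n := by
        intro Q X hQ hQS hQX hXS hcQ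
        haveI := finite_of_le hXS
        have h1 : Nat.card Q < Nat.card X := by
          refine lt_of_le_of_ne (Subgroup.card_le_of_le hQX.le) fun he => hQX.ne ?_
          exact Subgroup.eq_of_le_of_card_ge hQX.le he.ge
        have h2 : Nat.card X ≤ Nat.card S := Subgroup.card_le_of_le hXS
        omega
      obtain ⟨Q, hRQ, hQn⟩ := exists_fullyNormalized (F := F) hRS
      have hRQ' := hRQ
      obtain ⟨κ, N', hκ, hN', hκR⟩ := exists_mi_norm hS hF hQn hRQ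
      obtain ⟨g, hg, hgf, hfg⟩ := hf.symm
      have hR'Q : F.IsConj R' Q := (hg.comp hκR).isConj
      obtain ⟨κ', N'', hκ', hN'', hκR'⟩ := exists_mi_norm hS hF hQn hR'Q
      obtain ⟨hR', hfz⟩ := hR.conj h hf
      obtain ⟨hQ, hκz⟩ := hR.conj h hκR
      have hRN := lt_normalizerIn hS hRlt
      have hcRR' := hf.card
      have hcRQ := hκR.card
      have hR'lt : R' < S := lt_of_le_of_ne hR'.le fun he => by
        apply hRe
        refine Subgroup.eq_of_le_of_card_ge hRS ?_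
        rw [hcRR', he]
      have hQlt : Q < S := lt_of_le_of_ne hQ.le fun he => by
        apply hRe
        refine Subgroup.eq_of_le_of_card_ge hRS ?_
        rw [hcRQ, he]
      have hR'N := lt_normalizerIn hS hR'lt
      have hQN := lt_normalizerIn hS hQlt
      obtain ⟨γ₁, hγ₁, hγ₁e⟩ := ih _ (key R _ hR hRlt hRN inf_le_left rfl) _ _ κ (hR.mono hRN.le inf_le_left) hκ rfl
      obtain ⟨γ₂, hγ₂, hγ₂e⟩ := ih _ (key R' _ hR' hR'lt hR'N inf_le_left hcRR'.symm) _ _ κ' (hR'.mono hR'N.le inf_le_left) hκ' rfl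
      -- the automorphism of `Q`
      obtain ⟨k, hk, hkκ, hκk⟩ := hκR.symm
      have hα : Mi F Q Q (κ' ∘ f ∘ k) := (hk.comp hf).comp hκR'
      obtain ⟨α, hαQ, hαe⟩ := hα.aut
      haveI := finite_of_le hQ.le
      haveI := finite_autGroup (S := S) hQ.le
      -- Frattini
      have hZinv : ∀ β ∈ F.autGroup Q, ∀ z ∈ Zc S, ac β z ∈ Zc S := fun β hβ => (hQ.conj h ((mi_ac (F := F) (α := β) hQ.le).mpr hβ)).2
      let C0 : Subgroup (F.autGroup Q) :=
        { carrier := {β | ∀ z ∈ Zc S, ac (β : MulAut Q) z = z}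
          one_mem' := fun z hz => ac_one (hQ.Z hz)
          mul_mem' := by
            intro a b ha hb z hz
            change ac ((a : MulAut Q) * (b : MulAut Q)) z = z
            rw [ac_mul _ _ (hQ.Z hz), hb z hz, ha z hz]
          inv_mem' := by
            intro a ha z hz
            change ac ((a : MulAut Q)⁻¹) z = z
            have := ac_inv_ac (a : MulAut Q) (hQ.Z hz)
            rwa [ha z hz] at this }
      haveI : C0.Normal := ⟨fun a ha b z hz => by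
        change ac ((b : MulAut Q) * (a : MulAut Q) * (b : MulAut Q)⁻¹) z = z
        rw [mul_assoc, ac_mul _ _ (hQ.Z hz), ac_mul _ _ (hQ.Z hz), ha _ (hZinv _ (Subgroup.inv_mem _ b.2) z hz), ac_ac_inv _ (hQ.Z hz)]⟩
      obtain ⟨-, T, hT⟩ := fullyAutomized_of_fullyNormalized_sat hS hF hQn
      have hTC : (T : Subgroup (F.autGroup Q)) ≤ C0 := by
        rw [hT]
        intro a ha z hz
        obtain ⟨s, hs, hse⟩ := mem_autInducedBy.mp (Subgroup.mem_subgroupOf.mp ha)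
        rw [ac_apply _ (hQ.Z hz), hse]
        change s * z * s⁻¹ = z
        rw [(mem_Zc.mp hz).2 s hs, mul_inv_cancel_right]
      have hFr : Subgroup.normalizer ((T : Subgroup (F.autGroup Q)) : Set (F.autGroup Q)) ⊔ C0 = ⊤ := Sylow.normalizer_sup_eq_top' T hTC
      have hαtop : (⟨α, hαQ⟩ : F.autGroup Q) ∈ Subgroup.normalizer ((T : Subgroup (F.autGroup Q)) : Set (F.autGroup Q)) ⊔ C0 := by
        rw [hFr]; trivial
      obtain ⟨m, hm, c, hc, hmc⟩ := Subgroup.mem_sup_of_normal_right.mp hαtop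
      have hmT : ∀ t ∈ autInducedBy S Q, (m : MulAut Q) * t * (m : MulAut Q)⁻¹ ∈ autInducedBy S Q := by
        intro t ht
        have h1 : (⟨t, autInducedBy_le_autGroup F hQ.le ht⟩ : F.autGroup Q) ∈ (T : Subgroup (F.autGroup Q)) := by
          rw [hT]; exact Subgroup.mem_subgroupOf.mpr ht
        have h2 := (Subgroup.mem_normalizer_iff.mp hm _).mp h1
        rw [hT] at h2
        exact Subgroup.mem_subgroupOf.mp h2
      obtain ⟨m', M', hm', hm'x⟩ := exists_ext_norm (receptive_of_fullyNormalized_sat hS hF hQn) m.2 hmT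
      obtain ⟨γ₃, hγ₃, hγ₃e⟩ := ih _ (key Q _ hQ hQlt hQN inf_le_left hcRQ.symm) _ _ m' (hQ.mono hQN.le inf_le_left) hm' rfl
      refine ⟨γ₂⁻¹ * γ₃ * γ₁, Subgroup.mul_mem _ (Subgroup.mul_mem _ (Subgroup.inv_mem _ hγ₂) hγ₃) hγ₁, fun z hz => ?_⟩
      have hzS := hR.le (hR.Z hz)
      -- κ' (f z) = α (κ z)
      have e1 : κ' (f z) = ac α (κ z) := by
        rw [hαe _ (hκR.mem (hR.Z hz))]
        change κ' (f z) = κ' (f (k (κ z)))
        rw [hkκ z (hR.Z hz)]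
      have e2 : ac α (κ z) = m' (κ z) := by
        have h1 : α = (m : MulAut Q) * (c : MulAut Q) := by
          have := congrArg Subtype.val hmc
          exact this.symm
        rw [h1, ac_mul _ _ (hQ.Z (hκz z hz)), hc _ (hκz z hz), hm'x _ (hQ.Z (hκz z hz))]
      have e3 : ac γ₂ (f z) = ac γ₃ (ac γ₁ z) := by
        rw [← hγ₂e _ (hfz z hz), e1, e2, hγ₃e _ (hκz z hz), hγ₁e z hz]
      have hfzS : f z ∈ S := hf.le' (hf.mem (hR.Z hz))
      rw [mul_assoc, ac_mul _ _ hzS, ac_mul _ _ hzS, ← e3, ac_inv_ac _ hfzS]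

/-- (∗) -/
theorem star_center (hS : IsPGroup p S) (hF : F.IsSaturated p) (h : AD S A p) {R R' : Subgroup Ω} {f : Ω → Ω} (hR : NAb S R)
    (hf : Mi F R R' f) : ∃ γ ∈ F.autGroup S, ∀ z ∈ Zc S, f z = ac γ z :=
  star_aux hS hF h _ R R' f hR hf rfl

end Cfsg.Agent.L0.Fus.Ess
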