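import Cfsg.Agent.L0.Fus.Ess7

/-!
The central involution of the `SL(2,p)` acting on an abelian essential subgroup; S5244.
-/

set_option autoImplicit false
set_option maxHeartbeats 1000000

open Pointwise
open scoped commutatorElement

namespace Cfsg.Agent.L0.Fus.Ess
open Cfsg.Agent.L0 Cfsg.FusionSystem

variable {Ω : Type*} [Group Ω] {S A P R : Subgroup Ω} [Finite S] {p : ℕ} [hp : Fact p.Prime] {F : FusionSystem S}

theorem exists_pow_inn (hS : IsPGroup p S) (hF : F.IsSaturated p) {δ : MulAut S} (hδ : δ ∈ F.autGroup S) :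
    ∃ m : ℕ, Nat.Coprime m p ∧ δ ^ m ∈ Inn S := by
  haveI := finite_autGroup (S := S) (P := S) le_rfl
  obtain ⟨-, R, hR⟩ := fullyAutomized_of_fullyNormalized_sat hS hF fullyNormalized_self
  haveI hn : ((Inn S).subgroupOf (F.autGroup S)).Normal := Subgroup.Normal.subgroupOf inferInstance _
  have h1 : (R : Subgroup (F.autGroup S)) ≤ (Inn S).subgroupOf (F.autGroup S) := by
    rw [hR]
    intro a ha
    rw [Subgroup.mem_subgroupOf] at ha ⊢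
    obtain ⟨g, hg, h⟩ := mem_autInducedBy.mp ha
    exact mem_Inn.mpr ⟨⟨g, hg⟩, fun x => Subtype.ext (h x)⟩
  refine ⟨((Inn S).subgroupOf (F.autGroup S)).index, ?_, ?_⟩
  · rw [Nat.coprime_comm, Nat.Prime.coprime_iff_not_dvd hp.out]
    exact fun hd => R.not_dvd_index (hd.trans (Subgroup.index_dvd_of_le h1))
  · have := Subgroup.pow_index_mem ((Inn S).subgroupOf (F.autGroup S)) ⟨δ, hδ⟩
    exact Subgroup.mem_subgroupOf.mp this

theorem trivial_of_unip (hS : IsPGroup p S) (hF : F.IsSaturated p) {δ : MulAut S} (hδ : δ ∈ F.autGroup S) {e : Ω}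
    (he : e ∈ Zc S) (hep : e ^ p = 1) (h1 : ∀ z ∈ Zc S, ∃ i : ℤ, ac δ z = e ^ i * z) (h2 : ac δ e = e) :
    ∀ z ∈ Zc S, ac δ z = z := by
  intro z hz
  obtain ⟨m, hm, hmI⟩ := exists_pow_inn hS hF hδ
  obtain ⟨i, hi⟩ := h1 z hz
  have hzS := (mem_Zc.mp hz).1
  have heS := (mem_Zc.mp he).1
  have hδm := (mi_ac (F := F) (α := δ) le_rfl).mpr hδ
  have h2n : ∀ n : ℕ, ac δ ((e ^ i) ^ n) = (e ^ i) ^ n := by
    intro n
    have h3 : ∀ k : ℤ, ac δ (e ^ k) = e ^ k := by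
      intro k
      rw [ac_apply δ (S.zpow_mem heS k)]
      have h4 : (⟨e ^ k, S.zpow_mem heS k⟩ : S) = ⟨e, heS⟩ ^ k := rfl
      rw [h4, map_zpow]
      rw [ac_apply δ heS] at h2
      change ((δ ⟨e, heS⟩ : S) : Ω) ^ k = e ^ k
      rw [h2]
    rw [← zpow_natCast, ← zpow_mul, h3]
  have key : ∀ n : ℕ, ac (δ ^ n) z = (e ^ i) ^ n * z := by
    intro n
    induction n with
    | zero => rw [pow_zero, pow_zero, one_mul, ac_one hzS]
    | succ n ih =>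
      rw [pow_succ', ac_mul _ _ hzS, ih, hδm.map_mul (S.pow_mem (S.zpow_mem heS i) n) hzS, hi, h2n, pow_succ, mul_assoc]
  have h3 := key m
  obtain ⟨g, hg⟩ := mem_Inn.mp hmI
  rw [ac_apply _ hzS, hg] at h3
  change (g : Ω) * z * (g : Ω)⁻¹ = _ at h3
  rw [(mem_Zc.mp hz).2 g g.2, mul_inv_cancel_right] at h3
  have h4 : (e ^ i) ^ m = 1 := by
    have := congrArg (· * z⁻¹) h3
    simpa using this.symm
  have h5 : (e ^ i) ^ p = 1 := by rw [← zpow_natCast, ← zpow_mul, mul_comm, zpow_mul, zpow_natCast, hep, one_zpow]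
  have h6 : e ^ i = 1 := by
    have h7 : orderOf (e ^ i) ∣ Nat.gcd m p := Nat.dvd_gcd (orderOf_dvd_of_pow_eq_one h4) (orderOf_dvd_of_pow_eq_one h5)
    rw [hm, Nat.dvd_one, orderOf_eq_one_iff] at h7
    exact h7
  rw [hi, h6, one_mul]

/-- a complement `C` to `⟨e⟩` in the centre, and an automorphism `γ` in the system centralizing `C` and inverting `e` -/
structure Dat (F : FusionSystem S) (p : ℕ) (Z0 C : Subgroup Ω) (e : Ω) (γ : MulAut S) : Prop where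
  le : C ≤ Zc S
  mem : e ∈ Zc S
  nmem : e ∉ C
  pow : e ^ p = 1
  gen : Z0 = Subgroup.zpowers e
  dec : ∀ z ∈ Zc S, ∃ c ∈ C, ∃ i : ℤ, z = e ^ i * c
  aut : γ ∈ F.autGroup S
  fix : ∀ c ∈ C, ac γ c = c
  inv : ac γ e = e⁻¹

theorem ac_zpow {γ : MulAut S} {x : Ω} (hx : x ∈ S) (k : ℤ) : ac γ (x ^ k) = (ac γ x) ^ k := by
  rw [ac_apply γ (S.zpow_mem hx k), ac_apply γ hx]
  have h4 : (⟨x ^ k, S.zpow_mem hx k⟩ : S) = ⟨x, hx⟩ ^ k := rfl
  rw [h4, map_zpow]; rfl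

theorem Dat.ac_dec {Z0 C : Subgroup Ω} {e : Ω} {γ : MulAut S} (h : Dat F p Z0 C e γ) {c : Ω} (hc : c ∈ C) (i : ℤ) :
    ac γ (e ^ i * c) = e ^ (-i) * c := by
  have heS := (mem_Zc.mp h.mem).1
  have hm := (mi_ac (F := F) (α := γ) le_rfl).mpr h.aut
  rw [hm.map_mul (S.zpow_mem heS i) (mem_Zc.mp (h.le hc)).1, ac_zpow heS, h.inv, h.fix c hc, inv_zpow, zpow_neg]

theorem Dat.exists_zpow {Z0 C : Subgroup Ω} {e : Ω} {γ : MulAut S} (h : Dat F p Z0 C e γ) {z : Ω} (hz : z ∈ Zc S) :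
    ∃ k : ℤ, ac γ z = e ^ k * z := by
  obtain ⟨c, hc, i, rfl⟩ := h.dec z hz
  refine ⟨-i - i, ?_⟩
  rw [h.ac_dec hc, ← mul_assoc, ← zpow_add]
  congr 2; ring

theorem Dat.ac_z0 {Z0 C : Subgroup Ω} {e : Ω} {γ : MulAut S} (h : Dat F p Z0 C e γ) {z : Ω} (hz : z ∈ Z0) : ac γ z = z⁻¹ := by
  rw [h.gen] at hz
  obtain ⟨i, rfl⟩ := Subgroup.mem_zpowers_iff.mp hz
  rw [ac_zpow (mem_Zc.mp h.mem).1, h.inv, inv_zpow]

theorem Dat.le_of (hp2 : p ≠ 2) (hS : IsPGroup p S) (hF : F.IsSaturated p) {Z0 C C' : Subgroup Ω} {e e' : Ω} {γ γ' : MulAut S}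
    (h : Dat F p Z0 C e γ) (h' : Dat F p Z0 C' e' γ') : C' ≤ C := by
  intro c' hc'
  have heS := (mem_Zc.mp h.mem).1
  have heZ0 : e ∈ Z0 := by rw [h.gen]; exact Subgroup.mem_zpowers e
  have he'Z0 : e' ∈ Z0 := by rw [h'.gen]; exact Subgroup.mem_zpowers e'
  have hm := (mi_ac (F := F) (α := γ) le_rfl).mpr h.aut
  have htriv := trivial_of_unip hS hF (δ := γ * γ') (Subgroup.mul_mem _ h.aut h'.aut) h.mem h.pow (by
    intro z hz
    have hzS := (mem_Zc.mp hz).1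
    rw [ac_mul _ _ hzS]
    obtain ⟨k, hk⟩ := h'.exists_zpow hz
    obtain ⟨j, hj⟩ := h.exists_zpow hz
    have h1 : e' ^ k ∈ Subgroup.zpowers e := by rw [← h.gen]; exact Z0.zpow_mem he'Z0 k
    obtain ⟨l, hl⟩ := Subgroup.mem_zpowers_iff.mp h1
    refine ⟨-l + j, ?_⟩
    rw [hk, ← hl, hm.map_mul (S.zpow_mem heS l) hzS, ac_zpow heS, h.inv, hj, inv_zpow', ← mul_assoc, ← zpow_add]) (by
    rw [ac_mul _ _ heS, h'.ac_z0 heZ0, hm.map_inv heS, h.inv, inv_inv])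
  have hc'Z := h'.le hc'
  have h2 := htriv c' hc'Z
  rw [ac_mul _ _ (mem_Zc.mp hc'Z).1, h'.fix c' hc'] at h2
  obtain ⟨c, hc, i, rfl⟩ := h.dec c' hc'Z
  rw [h.ac_dec hc] at h2
  have h3 : e ^ (-i) = e ^ i := mul_right_cancel h2
  have h4 : (e ^ i) ^ 2 = 1 := by
    rw [pow_two]
    conv_lhs => rw [← h3]
    rw [h3, ← zpow_add]
    have : e ^ (i + i) = e ^ i * e ^ i := zpow_add e i i
    rw [this]
    nth_rewrite 1 [← h3]
    rw [← zpow_add, neg_add_cancel, zpow_zero]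
  have h5 : (e ^ i) ^ p = 1 := by rw [← zpow_natCast, ← zpow_mul, mul_comm, zpow_mul, zpow_natCast, h.pow, one_zpow]
  have h6 : e ^ i = 1 := by
    have h7 : orderOf (e ^ i) ∣ Nat.gcd 2 p := Nat.dvd_gcd (orderOf_dvd_of_pow_eq_one h4) (orderOf_dvd_of_pow_eq_one h5)
    rw [(Nat.coprime_primes Nat.prime_two hp.out).mpr (Ne.symm hp2), Nat.dvd_one, orderOf_eq_one_iff] at h7
    exact h7
  rw [h6, one_mul]
  exact hc

theorem Dat.conj {Z0 C : Subgroup Ω} {e : Ω} {γ : MulAut S} (h : Dat F p Z0 C e γ) (hZ0 : ∀ β ∈ F.autGroup S, ∀ z ∈ Z0, ac β z ∈ Z0)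
    {β : MulAut S} (hβ : β ∈ F.autGroup S) : Dat F p Z0 (im β C) (ac β e) (β * γ * β⁻¹) := by
  have heS := (mem_Zc.mp h.mem).1
  have hCS : C ≤ S := fun c hc => (mem_Zc.mp (h.le hc)).1
  have hm : ∀ β : MulAut S, β ∈ F.autGroup S → Mi F S S (ac β) := fun β hβ => (mi_ac (F := F) (α := β) le_rfl).mpr hβ
  have hZ : ∀ β ∈ F.autGroup S, ∀ z ∈ Zc S, ac β z ∈ Zc S := by
    intro β hβ z hz
    have hzS := (mem_Zc.mp hz).1
    refine mem_Zc.mpr ⟨ac_mem β hzS, fun s hs => ?_⟩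
    obtain ⟨t, ht, rfl⟩ := (hm β hβ).surj hs
    rw [← (hm β hβ).map_mul ht hzS, ← (hm β hβ).map_mul hzS ht, (mem_Zc.mp hz).2 t ht]
  have hβi : β⁻¹ ∈ F.autGroup S := Subgroup.inv_mem _ hβ
  refine ⟨?_, hZ β hβ e h.mem, ?_, ?_, ?_, ?_, Subgroup.mul_mem _ (Subgroup.mul_mem _ hβ h.aut) hβi, ?_, ?_⟩
  · intro y hy
    obtain ⟨c, hc, rfl⟩ := (mem_im hCS).mp hy
    exact hZ β hβ c (h.le hc)
  · intro hy
    obtain ⟨c, hc, hce⟩ := (mem_im hCS).mp hy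
    apply h.nmem
    rw [← (hm β hβ).inj (hCS hc) heS hce]
    exact hc
  · have := ac_zpow (γ := β) heS (p : ℤ)
    rw [zpow_natCast, zpow_natCast, h.pow, (hm β hβ).map_one] at this
    exact this.symm
  · have h1 : ac β e ∈ Z0 := hZ0 β hβ e (by rw [h.gen]; exact Subgroup.mem_zpowers e)
    have h2 : Subgroup.zpowers (ac β e) ≤ Z0 := by rwa [Subgroup.zpowers_le]
    haveI : Finite (Subgroup.zpowers e) := finite_of_le (S := S) (by rwa [Subgroup.zpowers_le])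
    have h3 : Nat.card (Subgroup.zpowers (ac β e)) = Nat.card (Subgroup.zpowers e) := by
      rw [Nat.card_zpowers, Nat.card_zpowers, ac_apply β heS]
      have h4 : orderOf ((β ⟨e, heS⟩ : S) : Ω) = orderOf (β ⟨e, heS⟩ : S) := Subgroup.orderOf_coe _
      rw [h4, MulEquiv.orderOf_eq β]
      exact (Subgroup.orderOf_coe (⟨e, heS⟩ : S)).symm
    rw [h.gen] at h2 ⊢
    exact (Subgroup.eq_of_le_of_card_ge h2 h3.ge).symm
  · intro z hz
    have hzS := (mem_Zc.mp hz).1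
    obtain ⟨c, hc, i, hi⟩ := h.dec _ (hZ _ hβi z hz)
    refine ⟨ac β c, (mem_im hCS).mpr ⟨c, hc, rfl⟩, i, ?_⟩
    rw [← ac_zpow heS, ← (hm β hβ).map_mul (S.zpow_mem heS i) (hCS hc), ← hi, ac_ac_inv β hzS]
  · intro y hy
    obtain ⟨c, hc, rfl⟩ := (mem_im hCS).mp hy
    have hcS := hCS hc
    rw [mul_assoc, ac_mul _ _ (ac_mem β hcS), ac_mul _ _ (ac_mem β hcS), ac_inv_ac β hcS, h.fix c hc]
  · rw [mul_assoc, ac_mul _ _ (ac_mem β heS), ac_mul _ _ (ac_mem β heS), ac_inv_ac β heS, h.inv, (hm β hβ).map_inv heS]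

theorem Dat.invariant (hp2 : p ≠ 2) (hS : IsPGroup p S) (hF : F.IsSaturated p) {Z0 C : Subgroup Ω} {e : Ω} {γ : MulAut S}
    (h : Dat F p Z0 C e γ) (hZ0 : ∀ β ∈ F.autGroup S, ∀ z ∈ Z0, ac β z ∈ Z0) : ∀ β ∈ F.autGroup S, ∀ c ∈ C, ac β c ∈ C := by
  intro β hβ c hc
  have hCS : C ≤ S := fun c hc => (mem_Zc.mp (h.le hc)).1
  exact h.le_of hp2 hS hF (h.conj hZ0 hβ) ((mem_im hCS).mpr ⟨c, hc, rfl⟩)

end Cfsg.Agent.L0.Fus.Ess
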