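import Cfsg.Agent.L0.Fus.Ess8

/-!
Lemma H and S5244.
-/

set_option autoImplicit false
set_option maxHeartbeats 1000000

open Pointwise
open scoped commutatorElement

namespace Cfsg.Agent.L0.Fus.Ess
open Cfsg.Agent.L0 Cfsg.FusionSystem

variable {Ω : Type*} [Group Ω] {S A P R : Subgroup Ω} [Finite S] {p : ℕ} [hp : Fact p.Prime] {F : FusionSystem S}

omit [Finite S] hp in
theorem pow_eq_one_of_card {H : Subgroup Ω} (hc : Nat.card H = p) {x : Ω} (hx : x ∈ H) : x ^ p = 1 := by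
  subst hc
  have h5 : (⟨x, hx⟩ : H) ^ Nat.card H = 1 := pow_card_eq_one'
  exact congrArg Subtype.val h5

/-- the output of `tv2` for an abelian essential subgroup `P` with `Z(S)` of index `p` in `P` and `|Aut_S(P)| = p`, given an element
`a` of `N_S(P)` acting nontrivially with commutators in `⟨e⟩ ≤ Z(S)`. -/
theorem tv2_fus (hS : IsPGroup p S) (hF : F.IsSaturated p) (hP : F.IsEssential p P) (hPab : ∀ x ∈ P, ∀ y ∈ P, x * y = y * x)
    (hZi : (Zc S).relIndex P = p) (hT : Nat.card (autInducedBy S P) = p) {a x : Ω} (ha : a ∈ S) (han : a ∈ Subgroup.normalizer (P : Set Ω))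
    (haP : a ∉ P) (hxP : x ∈ P) (hxZ : x ∉ Zc S) (he : a * x * a⁻¹ * x⁻¹ ∈ Zc S) (hep : (a * x * a⁻¹ * x⁻¹) ^ p = 1)
    (hcom : ∀ u ∈ P, a * u * a⁻¹ * u⁻¹ ∈ Zc S) :
    ∃ (C : Subgroup Ω) (f : Ω), C ≤ Zc S ∧ (a * x * a⁻¹ * x⁻¹) ∉ C ∧ f ∈ P ∧ f ∉ Zc S ∧ f ^ p = 1 ∧
      (∀ z ∈ Zc S, ∃ c ∈ C, ∃ i : ℤ, z = (a * x * a⁻¹ * x⁻¹) ^ i * c) ∧
      (∀ u ∈ P, ∃ c ∈ C, ∃ i j : ℤ, u = f ^ j * ((a * x * a⁻¹ * x⁻¹) ^ i * c)) ∧
      (∀ β ∈ F.autGroup P, ∀ c ∈ C, ac β c ∈ C) ∧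
      ∃ φ ∈ F.autGroup P, (∀ t ∈ autInducedBy S P, φ * t * φ⁻¹ = t) ∧ (∀ c ∈ C, ac φ c = c) ∧
        ac φ (a * x * a⁻¹ * x⁻¹) = (a * x * a⁻¹ * x⁻¹)⁻¹ := by
  have hPS := hP.1.1
  haveI := finite_of_le hPS
  haveI := finite_autGroup (S := S) hPS
  obtain ⟨hPc, hPr⟩ := essential_centric_radical hS hP
  have hcP : centralizerIn S P ≤ P := hPc.2 P (isConj_refl hPS)
  have hZP : Zc S ≤ P := by
    intro z hz
    refine hcP (Subgroup.mem_inf.mpr ⟨(mem_Zc.mp hz).1, ?_⟩)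
    rw [Subgroup.mem_centralizer_iff]
    exact fun y hy => (mem_Zc.mp hz).2 y (hPS hy)
  set e0 : Ω := a * x * a⁻¹ * x⁻¹ with he0
  letI : CommGroup P := { (inferInstance : Group P) with mul_comm := fun a b => Subtype.ext (hPab a a.2 b b.2) }
  set t : MulAut P := P.normalizerMonoidHom ⟨a, han⟩ with ht
  have htx : ∀ u : P, ((t u : P) : Ω) = a * u * a⁻¹ := fun u => rfl
  have htT : t ∈ autInducedBy S P := mem_autInducedBy.mpr ⟨a, ha, fun u => rfl⟩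
  have htG := autInducedBy_le_autGroup F hPS htT
  set Z' : Subgroup P := (Zc S).subgroupOf P with hZ'
  set e : P := ⟨e0, hZP he⟩ with hedef
  have htfix : ∀ z ∈ Z', t z = z := by
    intro z hz
    have hz' : (z : Ω) ∈ Zc S := hz
    apply Subtype.ext
    rw [htx, (mem_Zc.mp hz').2 a ha, mul_inv_cancel_right]
  have hx' : (⟨x, hxP⟩ : P) ∉ Z' := hxZ
  have htxe : t ⟨x, hxP⟩ = ⟨x, hxP⟩ * e := by
    rw [mul_comm]
    apply Subtype.ext
    rw [htx]
    change a * x * a⁻¹ = e0 * x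
    rw [he0]; group
  have he1 : e ≠ 1 := by
    intro h1
    rw [h1, mul_one] at htxe
    -- then `t = 1`
    have htr : t = 1 := by
      ext u
      obtain ⟨i, z, hz, rfl⟩ := exists_zpow_mul (H := Z') hZi hx' u
      rw [map_mul, map_zpow, htxe, htfix z hz]; rfl
    apply haP
    apply hcP
    refine Subgroup.mem_inf.mpr ⟨ha, ?_⟩
    rw [Subgroup.mem_centralizer_iff]
    intro y hy
    have h2 := htx ⟨y, hy⟩
    rw [htr] at h2
    change y = a * y * a⁻¹ at h2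
    calc y * a = (a * y * a⁻¹) * a := by rw [← h2]
      _ = a * y := by group
  have hep' : e ^ p = 1 := Subtype.ext hep
  have hte : t e = e := htfix e he
  have htcomm : ∀ u : P, ∃ i : ℤ, t u = u * e ^ i := by
    intro u
    obtain ⟨i, z, hz, rfl⟩ := exists_zpow_mul (H := Z') hZi hx' u
    refine ⟨i, ?_⟩
    rw [map_mul, map_zpow, htxe, htfix z hz, mul_zpow, mul_assoc, mul_comm (e ^ i), mul_assoc]
  have htp : t ^ p = 1 := by
    ext u
    obtain ⟨i, z, hz, rfl⟩ := exists_zpow_mul (H := Z') hZi hx' u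
    rw [map_mul, map_zpow, pow_apply_of_fix htxe hte, hep', mul_one, pow_apply_fix (htfix z hz)]; rfl
  have hu : IsTv p t Z' e := ⟨htfix, htcomm, he, hZi, by
    intro h1
    rw [h1] at htxe
    apply he1
    have : (⟨x, hxP⟩ : P) = ⟨x, hxP⟩ * e := htxe
    exact (mul_eq_left.mp this.symm), htp⟩
  have hmax := card_le_of_automized hS hF hP.2.1 hT.le
  have hZG : ¬ ∀ g ∈ F.autGroup P, ∀ z ∈ Z', g z ∈ Z' := by
    intro hinv
    apply haP
    refine mem_of_trivial_chain hS hPc hPr hZP ?_ ha han ?_ hcom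
    · intro β hβ z hz
      have := hinv β hβ ⟨z, hZP hz⟩ hz
      rw [ac_apply _ (hZP hz)]
      exact this
    · intro z hz
      rw [(mem_Zc.mp hz).2 a ha, mul_inv_cancel_right]
  obtain ⟨C, f, φ, hCZ, heC, hfZ, hfp, hdz, hdx, hCi, hφ, hφt, hφc, hφe, hφf⟩ := tv2 hmax htG hu hep' hZG
  have hTt : ∀ s ∈ autInducedBy S P, φ * s * φ⁻¹ = s := by
    intro s hs
    have h1 : autInducedBy S P = Subgroup.zpowers t := by
      refine (Subgroup.eq_of_le_of_card_ge (by rwa [Subgroup.zpowers_le]) ?_).symm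
      rw [hT, Nat.card_zpowers, hu.order]
    rw [h1] at hs
    obtain ⟨i, rfl⟩ := Subgroup.mem_zpowers_iff.mp hs
    have h2 : Commute φ t := hφt
    rw [(h2.zpow_right i).eq, mul_inv_cancel_right]
  refine ⟨C.map P.subtype, f, ?_, ?_, f.2, hfZ, congrArg Subtype.val hfp, ?_, ?_, ?_, φ, hφ, hTt, ?_, ?_⟩
  · rintro _ ⟨c, hc, rfl⟩
    exact hCZ hc
  · rintro ⟨c, hc, hce⟩
    apply heC
    have : c = e := Subtype.ext hce
    rwa [← this]
  · intro z hz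
    obtain ⟨c, hc, i, hi⟩ := hdz ⟨z, hZP hz⟩ hz
    exact ⟨c, ⟨c, hc, rfl⟩, i, congrArg Subtype.val hi⟩
  · intro u hu
    obtain ⟨c, hc, i, j, hi⟩ := hdx ⟨u, hu⟩
    exact ⟨c, ⟨c, hc, rfl⟩, i, j, congrArg Subtype.val hi⟩
  · rintro β hβ _ ⟨c, hc, rfl⟩
    exact ⟨β c, hCi β hβ c hc, (ac_apply β c.2).symm⟩
  · rintro _ ⟨c, hc, rfl⟩
    change ac φ (c : Ω) = c
    rw [ac_apply φ c.2]
    exact congrArg Subtype.val (hφc c hc)
  · rw [ac_apply φ (hZP he)]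
    exact congrArg Subtype.val hφe

/-- Lemma H -/
theorem lemma_H (hS : IsPGroup p S) (hF : F.IsSaturated p) (h : AD S A p) (hna : ¬ ∀ x ∈ S, ∀ y ∈ S, x * y = y * x)
    (hP : F.IsEssential p P) {x : Ω} (hx : x ∈ S) (hxA : x ∉ A) (hxP : x ∈ P) (hPA : P ⊓ A = Zc S) :
    ∃ (C : Subgroup Ω) (e : Ω) (γ : MulAut S), Dat F p (Zc S ⊓ (commutator ↥S).map S.subtype) C e γ ∧
      ∀ β ∈ F.autGroup P, ∀ c ∈ C, ac β c ∈ C := by
  have hPS := hP.1.1
  haveI := finite_of_le hPS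
  haveI := finite_autGroup (S := S) hPS
  obtain ⟨h1, h2, h3⟩ := ess_main hS hF h hna hP hx hxA hxP
  obtain ⟨hPc, hPr⟩ := essential_centric_radical hS hP
  have hcP : centralizerIn S P ≤ P := hPc.2 P (isConj_refl hPS)
  have hPnA : ¬ P ≤ A := fun hh => hxA (hh hxP)
  have hcP2 := h.card_eq hPS hPnA
  have hcN := card_norm_eq h hx hxA hPS hxP
  have hZA := h.Z_le hna
  have hZP : Zc S ≤ P := by rw [← hPA]; exact inf_le_left
  haveI := finite_of_le (S := S) (P := Zc S) inf_le_left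
  have hZpos : 0 < Nat.card (Zc S) := Nat.card_pos
  have hPab := abelian_of_inf_eq h hx hxA hPS hxP hPA
  have hZi : (Zc S).relIndex P = p := by
    have h4 := card_mul_relIndex' hZP
    rw [hcP2, hPA, mul_comm] at h4
    exact Nat.eq_of_mul_eq_mul_right hZpos h4
  have hcen : centralizerIn S P = P := by
    refine le_antisymm hcP fun u hu => Subgroup.mem_inf.mpr ⟨hPS hu, ?_⟩
    rw [Subgroup.mem_centralizer_iff]
    exact fun y hy => hPab y hy u hu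
  have hT : Nat.card (autInducedBy S P) = p := by
    have h4 : Nat.card (autInducedBy S P) * Nat.card P = Nat.card (normalizerIn S P) := by rw [card_normalizerIn, hcen]
    rw [hcN, h2, ← hcP2] at h4
    exact Nat.eq_of_mul_eq_mul_right Nat.card_pos h4
  obtain ⟨hk, -⟩ := kimi_card hS h hna (hx := hx) hxA h1
  -- choose `a`
  obtain ⟨a, ha, haZ⟩ : ∃ a ∈ kpre h x hx (Zc S), a ∉ Zc S := by
    by_contra hcon
    push Not at hcon
    have h4 : Nat.card (kpre h x hx (Zc S)) ≤ Nat.card (Zc S) := Subgroup.card_le_of_le hcon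
    rw [h1] at h4
    have := hp.out.two_le
    nlinarith
  obtain ⟨haA, hak⟩ := (mem_kpre h).mp ha
  have han : a ∈ Subgroup.normalizer (P : Set Ω) := by
    rw [h.mem_norm hx hxA hPS hxP haA, hPA]; exact ha
  have haP : a ∉ P := fun hh => haZ (by rw [← hPA]; exact Subgroup.mem_inf.mpr ⟨hh, haA⟩)
  have hxZ : x ∉ Zc S := fun hh => hxA (hZA hh)
  have hek : a * x * a⁻¹ * x⁻¹ ∈ Zc S ⊓ kim h x hx A := Subgroup.mem_inf.mpr ⟨hak, (mem_kim h).mpr ⟨a, haA, haA, rfl⟩⟩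
  have hep : (a * x * a⁻¹ * x⁻¹) ^ p = 1 := pow_eq_one_of_card hk hek
  have hcom : ∀ u ∈ P, a * u * a⁻¹ * u⁻¹ ∈ Zc S := by
    intro u hu
    obtain ⟨i, b, hb, rfl⟩ := h.inf_eq hx hxA hPS hxP hu
    rw [comm_eq_zpow h hx haA (Subgroup.mem_inf.mp hb).2 hak]
    exact (Zc S).zpow_mem hak i
  obtain ⟨C, f, hCZ, heC, hfP, hfZ, hfp, hdz, hdx, hCi, φ, hφ, hφT, hφc, hφe⟩ :=
    tv2_fus hS hF hP hPab hZi hT (h.le haA) han haP hxP hxZ hak hep hcom
  -- extension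
  obtain ⟨g, N', hg, hgx⟩ := exists_ext_norm (receptive_of_fullyNormalized_sat hS hF hP.2.1) hφ
    (fun t ht => by rw [hφT t ht]; exact ht)
  have hN : NAb S (normalizerIn S P) := by
    refine ⟨inf_le_left, hZP.trans (le_normalizerIn hPS), fun hc => ?_⟩
    apply haP
    apply hcP
    refine Subgroup.mem_inf.mpr ⟨h.le haA, ?_⟩
    rw [Subgroup.mem_centralizer_iff]
    intro y hy
    exact hc y (le_normalizerIn hPS hy) a (Subgroup.mem_inf.mpr ⟨h.le haA, han⟩)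
  obtain ⟨γ, hγ, hγe⟩ := star_center hS hF h hN hg
  refine ⟨C, _, γ, ⟨hCZ, hak, heC, hep, ?_, hdz, hγ, ?_, ?_⟩, hCi⟩
  · rw [commutator_eq_kim h hx hxA]
    symm
    haveI := finite_of_le (S := S) (P := (Zc S ⊓ kim h x hx A)) (inf_le_left.trans inf_le_left)
    refine Subgroup.eq_of_le_of_card_ge (by rwa [Subgroup.zpowers_le]) ?_
    rw [hk, Nat.card_zpowers, orderOf_eq_prime hep]
    intro h1
    exact heC (by rw [h1]; exact C.one_mem)
  · intro c hc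
    rw [← hγe c (hCZ hc), hgx c (hZP (hCZ hc)), hφc c hc]
  · rw [← hγe _ hak, hgx _ (hZP hak), hφe]

/-- S5244 -/
theorem s5244 (hp2 : p ≠ 2) (hS : IsPGroup p S) (hF : F.IsSaturated p) (h : AD S A p) (hna : ¬ ∀ x ∈ S, ∀ y ∈ S, x * y = y * x)
    (hcore : F.core = ⊥) (hAe : ¬ F.IsEssential p A) :
    (∃ x ∈ S, x ∉ A ∧ F.IsEssential p (Zc S ⊔ Subgroup.zpowers x)) ∧ Zc S ≤ (commutator ↥S).map S.subtype ∧
      ∀ n : ℕ, Nat.card S = p ^ n → 3 ≤ n → Subgroup.lowerCentralSeries S (n - 2) ≠ ⊥ := by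
  have hZA := h.Z_le hna
  haveI := finite_of_le (S := S) (P := Zc S) inf_le_left
  haveI := finite_of_le h.le
  have hm : ∀ β : MulAut S, β ∈ F.autGroup S → Mi F S S (ac β) := fun β hβ => (mi_ac (F := F) (α := β) le_rfl).mpr hβ
  have hZinv : ∀ β ∈ F.autGroup S, ∀ z ∈ Zc S, ac β z ∈ Zc S := by
    intro β hβ z hz
    have hzS := (mem_Zc.mp hz).1
    refine mem_Zc.mpr ⟨ac_mem β hzS, fun s hs => ?_⟩
    obtain ⟨t, ht, rfl⟩ := (hm β hβ).surj hs
    rw [← (hm β hβ).map_mul ht hzS, ← (hm β hβ).map_mul hzS ht, (mem_Zc.mp hz).2 t ht]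
  -- essential subgroups are not contained in `A`
  have hess : ∀ Q, F.IsEssential p Q → ∃ x, ∃ hx : x ∈ S, x ∈ Q ∧ x ∉ A ∧ Zc S ≤ Q ∧ (Q ⊓ A = Zc S ∨ NAb S Q) := by
    intro Q hQ
    have hQA : Q ≠ A := by rintro rfl; exact hAe hQ
    obtain ⟨x, hxQ, hxA⟩ := Set.not_subset.mp (not_le_of_ne h hQ.1 hQA)
    have hx := hQ.1.1 hxQ
    have hZQ : Zc S ≤ Q := by
      intro z hz
      refine hQ.1.2 Q (isConj_refl hQ.1.1) (Subgroup.mem_inf.mpr ⟨(mem_Zc.mp hz).1, ?_⟩)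
      rw [Subgroup.mem_centralizer_iff]
      exact fun y hy => (mem_Zc.mp hz).2 y (hQ.1.1 hy)
    refine ⟨x, hx, hxQ, hxA, hZQ, ?_⟩
    by_cases hab : ∀ u ∈ Q, ∀ v ∈ Q, u * v = v * u
    · left
      refine le_antisymm (fun a ha => ?_) (le_inf hZQ hZA)
      exact h.mem_Z hx hxA (Subgroup.mem_inf.mp ha).2 (hab a (Subgroup.mem_inf.mp ha).1 x hxQ)
    · right
      exact ⟨hQ.1.1, hZQ, hab⟩
  have hZ1 : Zc S ≠ ⊥ := by
    intro hb
    haveI : Nontrivial S := by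
      by_contra hcon
      rw [not_nontrivial_iff_subsingleton] at hcon
      apply hna
      intro x hx y hy
      exact congrArg Subtype.val (Subsingleton.elim (⟨x, hx⟩ * ⟨y, hy⟩ : S) (⟨y, hy⟩ * ⟨x, hx⟩))
    haveI := hS.center_nontrivial
    obtain ⟨z, hz1⟩ := exists_ne (1 : Subgroup.center S)
    apply hz1
    have hz : ((z : S) : Ω) ∈ Zc S :=
      mem_Zc.mpr ⟨(z : S).2, fun s hs => congrArg Subtype.val (Subgroup.mem_center_iff.mp z.2 ⟨s, hs⟩)⟩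
    rw [hb, Subgroup.mem_bot] at hz
    exact Subtype.ext (Subtype.ext hz)
  obtain ⟨P, hP, x, hx, hxP, hxA, hPA⟩ : ∃ P, F.IsEssential p P ∧ ∃ x, ∃ hx : x ∈ S, x ∈ P ∧ x ∉ A ∧ P ⊓ A = Zc S := by
    by_contra hcon
    push Not at hcon
    apply hZ1
    rw [← le_bot_iff, ← hcore]
    apply le_core
    apply normal_of_essential hS hF
    rintro Q (rfl | hQ)
    · exact ⟨inf_le_left, fun α hα x hx => by rw [← ac_apply α x.2]; exact hZinv α hα _ hx⟩
    · obtain ⟨x, hx, hxQ, hxA, hZQ, hQ2⟩ := hess Q hQ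
      refine ⟨hZQ, fun α hα y hy => ?_⟩
      have hnab := hQ2.resolve_left (hcon Q hQ x hx hxQ hxA)
      rw [← ac_apply α y.2]
      exact (hnab.conj h ((mi_ac (F := F) (α := α) hQ.1.1).mpr hα)).2 _ hy
  obtain ⟨C, e, γ, hD, hCP⟩ := lemma_H hS hF h hna hP hx hxA hxP hPA
  have hZ0 : ∀ β ∈ F.autGroup S, ∀ z ∈ Zc S ⊓ (commutator ↥S).map S.subtype, ac β z ∈ Zc S ⊓ (commutator ↥S).map S.subtype := by
    intro β hβ z hz
    obtain ⟨hz1, ⟨w, hw, rfl⟩⟩ := Subgroup.mem_inf.mp hz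
    refine Subgroup.mem_inf.mpr ⟨hZinv β hβ _ hz1, ⟨β w, ?_, ?_⟩⟩
    · have h1 : (commutator S).map β.toMonoidHom = commutator S := Subgroup.characteristic_iff_map_eq.mp inferInstance β
      rw [← h1]
      exact ⟨w, hw, rfl⟩
    · exact (ac_apply β w.2).symm
  have hCinv := hD.invariant hp2 hS hF hZ0
  have hCn : F.IsNormal C := by
    apply normal_of_essential hS hF
    rintro Q (rfl | hQ)
    · exact ⟨hD.le.trans inf_le_left, fun α hα x hx => by rw [← ac_apply α x.2]; exact hCinv α hα _ hx⟩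
    · obtain ⟨x', hx', hxQ, hxA', hZQ, hQ2⟩ := hess Q hQ
      refine ⟨hD.le.trans hZQ, fun α hα y hy => ?_⟩
      rw [← ac_apply α y.2]
      rcases hQ2 with hQ2 | hQ2
      · obtain ⟨C', e', γ', hD', hCP'⟩ := lemma_H hS hF h hna hQ hx' hxA' hxQ hQ2
        have hCC : C = C' := le_antisymm (hD'.le_of hp2 hS hF hD) (hD.le_of hp2 hS hF hD')
        rw [hCC] at hy ⊢
        exact hCP' α hα _ hy
      · obtain ⟨δ, hδ, hδe⟩ := star_center hS hF h hQ2 ((mi_ac (F := F) (α := α) hQ.1.1).mpr hα)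
        rw [hδe _ (hD.le hy)]
        exact hCinv δ hδ _ hy
  have hC1 : C = ⊥ := by
    rw [← le_bot_iff, ← hcore]
    exact le_core hCn
  have hZle : Zc S ≤ Zc S ⊓ (commutator ↥S).map S.subtype := by
    intro z hz
    obtain ⟨c, hc, i, rfl⟩ := hD.dec z hz
    rw [hC1, Subgroup.mem_bot] at hc
    rw [hc, mul_one, hD.gen]
    exact Subgroup.zpow_mem _ (Subgroup.mem_zpowers e) i
  have hZp : Nat.card (Zc S) = p := by
    rw [le_antisymm hZle inf_le_left, hD.gen, Nat.card_zpowers, orderOf_eq_prime hD.pow]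
    intro h1
    exact hD.nmem (by rw [h1]; exact C.one_mem)
  refine ⟨⟨x, hx, hxA, ?_⟩, hZle.trans inf_le_right, ?_⟩
  · rw [← eq_sup_of_inf h hx hxA hP.1.1 hxP hPA]; exact hP
  · intro n hn hn3 hbot
    obtain ⟨h1, h2, h3⟩ := ess_main hS hF h hna hP hx hxA hxP
    obtain ⟨-, hk⟩ := kimi_card hS h hna (hx := hx) hxA h1
    obtain ⟨k, rfl⟩ : ∃ k, n = k + 3 := ⟨n - 3, by omega⟩
    have h4 := hk k
    have h5 : kimi h x hx (k + 1) = ⊥ := by
      rw [← le_bot_iff, ← hbot]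
      exact kimi_le_lcs h (k + 1)
    rw [h5, Subgroup.card_bot, one_mul, hZp] at h4
    have h6 : Nat.card A * p = Nat.card S := by rw [← card_mul_relIndex' h.le, h.idx]
    have h7 : p ^ (k + 3) ≤ p ^ (k + 2) := by
      rw [← hn, ← h6]
      calc Nat.card A * p ≤ (p * p ^ k) * p := Nat.mul_le_mul_right _ h4
        _ = p ^ (k + 2) := by ring
    exact absurd h7 (not_le.mpr (Nat.pow_lt_pow_right hp.out.one_lt (by omega)))

end Cfsg.Agent.L0.Fus.Ess
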