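import Cfsg.Agent.L0.Fus.Yosh3
import Cfsg.Agent.L0.Fus.Bis8
set_option autoImplicit false
/-! Thompson transfer for fusion systems. -/

open Pointwise
open scoped commutatorElement

namespace Cfsg.Agent.L0.Fus

open Cfsg.Agent.L0 Cfsg.FusionSystem

universe u v w

variable {Ω : Type u} [Group Ω] {S : Subgroup Ω} {F : FusionSystem S}
variable [Finite S]

/-- A subgroup fixing a right orbit gives a map of the system. -/
theorem hom_of_fixed {X : Type u} [MulAction (S × S) X] (hX : FSet F X) {r : RQ S X → X} (hr : ∀ y, Quotient.mk (rset S X) (r y) = y)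
    {C : Subgroup Ω} (hC : C ≤ S) {y : RQ S X} (hy : ∀ u : C, (⟨u, hC u.2⟩ : S) • y = y) :
    ∃ ψ ∈ F.Hom C, ∀ u : C, ψ u = coc hr ⟨u, hC u.2⟩ y := by
  obtain ⟨P, α, β, hα, hβ, hstab⟩ := hX (r y)
  have hmem : ∀ s : C, ∃ z : P, α z = s ∧ β z = coc hr ⟨s, hC s.2⟩ y := by
    intro s
    have h5 := coc_spec hr ⟨s, hC s.2⟩ y
    have hy' : lact (⟨(s : Ω), hC s.2⟩ : S) y = y := hy s
    rw [hy'] at h5
    have h6 : (((⟨s, hC s.2⟩ : S), coc hr ⟨s, hC s.2⟩ y) : S × S) ∈ MulAction.stabilizer (S × S) (r y) := h5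
    rw [hstab] at h6
    exact h6
  obtain ⟨α', hα', hα'1⟩ := F.inv_mem hα
  have hle : C ≤ α.range := fun s hs => by
    obtain ⟨z, hz, -⟩ := hmem ⟨s, hs⟩
    exact ⟨z, hz⟩
  have hα'v : ∀ w, α' w ∈ P := by
    rintro ⟨_, v, rfl⟩
    rw [hα'1]; exact v.2
  refine ⟨_, restrict_mem F (F.comp_mem hα' hβ hα'v) hle, fun u => ?_⟩
  obtain ⟨z, hz1, hz2⟩ := hmem u
  rw [← hz2]
  change β ⟨α' ⟨u, _⟩, _⟩ = _
  congr 1
  apply Subtype.ext
  have e : (⟨u, hle u.2⟩ : α.range) = ⟨α z, ⟨z, rfl⟩⟩ := Subtype.ext hz1.symm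
  change α' ⟨u, _⟩ = z
  rw [e, hα'1]

theorem focal_trivial {X : Type u} [MulAction (S × S) X] [Finite X] {r : RQ S X → X} {hr : ∀ y, Quotient.mk (rset S X) (r y) = y} [Fintype (RQ S X)]
    {A : Type w} [CommGroup A] {L : Ω → A}
    (hT1 : ∀ x y : S, ∏ z : RQ S X, L (coc hr (x * y) z) = (∏ z : RQ S X, L (coc hr x z)) * ∏ z : RQ S X, L (coc hr y z))
    (hT2 : ∀ (P : Subgroup Ω) (φ : P →* Ω) (hφ : φ ∈ F.Hom P) (x : P), ∏ z : RQ S X, L (coc hr (⟨φ x, hom_mem F hφ x⟩ : S) z) =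
          ∏ z : RQ S X, L (coc hr (⟨x, hom_le F hφ x.2⟩ : S) z)) :
    ∀ z ∈ F.focalSubgroup, ∀ h : z ∈ S, ∏ y : RQ S X, L (coc hr ⟨z, h⟩ y) = 1 := by
  let T : S →* A := MonoidHom.mk' (fun s => ∏ y : RQ S X, L (coc hr s y)) hT1
  intro z hz
  suffices h : ∃ h : z ∈ S, T ⟨z, h⟩ = 1 by
    obtain ⟨h1, h2⟩ := h
    intro h; exact h2
  induction hz using Subgroup.closure_induction with
  | mem z hz =>
    obtain ⟨P, φ, x, hφ, rfl⟩ := hz
    have hPS := hom_le F hφ
    refine ⟨S.mul_mem (S.inv_mem (hPS x.2)) (hom_mem F hφ x), ?_⟩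
    have : (⟨(x : Ω)⁻¹ * φ x, S.mul_mem (S.inv_mem (hPS x.2)) (hom_mem F hφ x)⟩ : S) = (⟨x, hPS x.2⟩ : S)⁻¹ * ⟨φ x, hom_mem F hφ x⟩ := rfl
    rw [this, map_mul, map_inv, inv_mul_eq_one]
    exact (hT2 P φ hφ x).symm
  | one => exact ⟨S.one_mem, map_one T⟩
  | mul a b _ _ ha hb =>
    obtain ⟨ha, ha'⟩ := ha
    obtain ⟨hb, hb'⟩ := hb
    refine ⟨S.mul_mem ha hb, ?_⟩
    have : (⟨a * b, S.mul_mem ha hb⟩ : S) = ⟨a, ha⟩ * ⟨b, hb⟩ := rfl
    rw [this, map_mul, ha', hb', one_mul]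
  | inv a _ ha =>
    obtain ⟨ha, ha'⟩ := ha
    refine ⟨S.inv_mem ha, ?_⟩
    have : (⟨a⁻¹, S.inv_mem ha⟩ : S) = (⟨a, ha⟩)⁻¹ := rfl
    rw [this, map_inv, ha', inv_one]

theorem thompson_transfer (hS : IsPGroup 2 S) (hF : F.IsSaturated 2)
    (T : Subgroup Ω) (hTS : T ≤ S) (hT : T.relIndex S = 2) (i : Ω) (hi : i ∈ S) (hi2 : orderOf i = 2)
    (h : ∀ j : Ω, F.IsConjElt i j → F.IsFullyNormalized (Subgroup.zpowers j) → j ∉ T) : i ∉ F.focalSubgroup := by
  classical
  haveI : Fact (Nat.Prime 2) := ⟨Nat.prime_two⟩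
  have hidx : (T.subgroupOf S).index = 2 := hT
  have h2m : ∀ a b : S, ((a * b : S) : Ω) ∈ T ↔ ((a : Ω) ∈ T ↔ (b : Ω) ∈ T) := fun a b =>
    Subgroup.mul_mem_iff_of_index_two hidx
  have hcomm : ⁅S, S⁆ ≤ T := by
    rw [Subgroup.commutator_le]
    intro a ha b hb
    have h1 : ((⟨a, ha⟩ * ⟨b, hb⟩ * (⟨a, ha⟩ : S)⁻¹ * (⟨b, hb⟩ : S)⁻¹ : S) : Ω) ∈ T := by
      rw [h2m, h2m, h2m]
      have e1 : (((⟨a, ha⟩ : S)⁻¹ : S) : Ω) ∈ T ↔ a ∈ T := T.inv_mem_iff
      have e2 : (((⟨b, hb⟩ : S)⁻¹ : S) : Ω) ∈ T ↔ b ∈ T := T.inv_mem_iff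
      rw [e1, e2]
      tauto
    rw [commutatorElement_def]
    exact h1
  obtain ⟨A, _, L, hL, hLT, -⟩ := exists_quot_hom hS hcomm hTS
  obtain ⟨X, _, _, r, hr, hX, hcard, hTr⟩ := transfer_explicit.{u, u} hS hF
  haveI : Fintype (RQ S X) := Fintype.ofFinite _
  obtain ⟨hT1, hT2⟩ := hTr L hL
  have hL1 : L 1 = 1 := (hLT 1 S.one_mem).mpr T.one_mem
  -- a fully normalized conjugate
  obtain ⟨R, hR1, hR2⟩ := exists_fullyNormalized (F := F) (P := Subgroup.zpowers i) (Subgroup.zpowers_le.mpr hi)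
  obtain ⟨φ, hφ, hφR⟩ := hR1
  set j := φ ⟨i, Subgroup.mem_zpowers i⟩ with hj
  have hjR : Subgroup.zpowers j = R := by
    rw [← hφR]
    apply le_antisymm
    · rw [Subgroup.zpowers_le]; exact ⟨_, rfl⟩
    · rintro _ ⟨⟨_, k, rfl⟩, rfl⟩
      refine ⟨k, ?_⟩
      change j ^ k = _
      rw [hj, ← map_zpow]
      rfl
  have hjS : j ∈ S := hom_mem F hφ _
  have hjn : F.IsFullyNormalized (Subgroup.zpowers j) := by rw [hjR]; exact hR2
  have hjT := h j ⟨φ, hφ, rfl⟩ hjn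
  have hjo : orderOf j = 2 := by
    rw [hj, orderOf_injective φ (F.injective_of_mem hφ), ← hi2, ← Subgroup.orderOf_coe]
  have hjj : j * j = 1 := by rw [← pow_two, ← hjo, pow_orderOf_eq_one]
  have hLj : L j ≠ 1 := fun h1 => hjT ((hLT j hjS).mp h1)
  have hLjj : L j ^ 2 = 1 := by rw [pow_two, ← hL j hjS j hjS, hjj, hL1]
  have hLval : ∀ x : S, L x ≠ 1 → L x = L j := by
    intro x hx
    have h1 : (x : Ω) ∉ T := fun h1 => hx ((hLT x x.2).mpr h1)
    have h3 : ((x * ⟨j, hjS⟩⁻¹ : S) : Ω) ∈ T := by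
      rw [h2m]
      have e1 : (((⟨j, hjS⟩ : S)⁻¹ : S) : Ω) ∈ T ↔ j ∈ T := T.inv_mem_iff
      rw [e1]
      exact ⟨fun h2 => absurd h2 h1, fun h2 => absurd h2 hjT⟩
    have h4 := (hLT _ (x * ⟨j, hjS⟩⁻¹ : S).2).mpr h3
    have h5 := hL _ (x * ⟨j, hjS⟩⁻¹ : S).2 j hjS
    rw [h4, one_mul] at h5
    rw [← h5]
    congr 1
    change (x : Ω) = x * j⁻¹ * j
    rw [inv_mul_cancel_right]
  intro hifoc
  have hTi := focal_trivial hT1 hT2 i hifoc hi
  have hTj : ∏ z : RQ S X, L (coc hr (⟨j, hjS⟩ : S) z) = 1 := by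
    rw [← hTi]
    exact hT2 _ φ hφ ⟨i, Subgroup.mem_zpowers i⟩
  set f : S → RQ S X → A := fun s y => L (coc hr s y) with hfdef
  have hf : ∀ s t y, f (s * t) y = f s (t • y) * f t y := by
    intro s t y
    change L (coc hr (s * t) y) = L (coc hr s (lact t y)) * L (coc hr t y)
    rw [coc_mul hX hr]
    exact hL _ (coc hr s (lact t y)).2 _ (coc hr t y).2
  have hf1 : ∀ y, f 1 y = 1 := by
    intro y
    have := hf 1 1 y
    rw [mul_one, one_smul] at this
    exact mul_eq_right.mp this.symm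
  set J : S := ⟨j, hjS⟩ with hJ
  have hJJ : J * J = 1 := Subtype.ext hjj
  have hfpow : ∀ (k : ℕ) y, f (J ^ k) y = ∏ i ∈ Finset.range k, f J (J ^ i • y) := by
    intro k y
    induction k with
    | zero => simp [hf1]
    | succ k ih => rw [pow_succ', hf, ih, Finset.prod_range_succ, mul_comm]
  -- only fixed points matter
  have hfixprod : ∏ y ∈ Finset.univ.filter (fun y : RQ S X => J • y = y), f J y = 1 := by
    have h1 : ∏ y : RQ S X, (if J • y = y then 1 else f J y) = 1 := by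
      apply prod_eq_one_of_orbits (MulAction.toPerm J)
      intro y k hk hy
      have hpow : ∀ i, ((MulAction.toPerm J : Equiv.Perm (RQ S X)) ^ i) y = J ^ i • y := by
        intro i
        induction i with
        | zero => simp
        | succ i ih =>
          rw [pow_succ', Equiv.Perm.mul_apply, ih, pow_succ', mul_smul]
          rfl
      rw [hpow] at hy
      rw [Finset.prod_congr rfl (fun i _ => by rw [hpow i])]
      have hmem : ∀ i : ℕ, J • J ^ i • y = J ^ i • y ↔ J • y = y := by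
        intro i
        have e : J • J ^ i • y = J ^ i • J • y := by
          rw [smul_smul, smul_smul, ← pow_succ', ← pow_succ]
        rw [e]
        exact ⟨fun h => MulAction.injective _ h, fun h => by rw [h]⟩
      by_cases hy1 : J • y = y
      · exact Finset.prod_eq_one fun i _ => if_pos ((hmem i).mpr hy1)
      · rw [Finset.prod_congr rfl (fun i _ => if_neg (fun h => hy1 ((hmem i).mp h))), ← hfpow]
        rcases Nat.even_or_odd' k with ⟨m, hm | hm⟩
        · rw [hm, pow_mul, pow_two, hJJ, one_pow, hf1]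
        · exfalso
          apply hy1
          rw [hm, pow_add, pow_mul, pow_two, hJJ, one_pow, one_mul, pow_one] at hy
          exact hy
    have h2 : ∏ y : RQ S X, f J y = (∏ y ∈ Finset.univ.filter (fun y : RQ S X => J • y = y), f J y) *
        ∏ y : RQ S X, (if J • y = y then 1 else f J y) := by
      rw [Finset.prod_filter, ← Finset.prod_mul_distrib]
      refine Finset.prod_congr rfl fun y _ => ?_
      split_ifs <;> simp
    rw [h1, mul_one] at h2
    rw [← h2]; exact hTj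
  -- the centralizer
  let C : Subgroup Ω := centralizerIn S (Subgroup.zpowers j)
  have hCS : C ≤ S := inf_le_left
  have hCcomm : ∀ u : C, (u : Ω) * j = j * u := fun u => by
    have h1 := (mem_centralizerIn.mp u.2).2 j (Subgroup.mem_zpowers j)
    exact h1.symm
  have hjC : j ∈ C := mem_centralizerIn.mpr ⟨hjS, fun x hx => by
    obtain ⟨k, rfl⟩ := Subgroup.mem_zpowers_iff.mp hx
    exact (Commute.refl j).zpow_left k⟩
  let C' : Subgroup S := C.subgroupOf S
  have hC'p : IsPGroup 2 C' := hS.to_subgroup _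
  have hinv : ∀ u ∈ C', ∀ y : RQ S X, J • y = y → J • u • y = u • y ∧ f J (u • y) = f J y := by
    intro u hu y hy
    have hc : J * u = u * J := Subtype.ext (hCcomm ⟨u, hu⟩).symm
    refine ⟨by rw [smul_smul, hc, mul_smul, hy], ?_⟩
    have h1 := hf J u y
    rw [hc, hf u J y, hy, mul_comm (f J (u • y))] at h1
    exact (mul_left_cancel h1).symm
  -- bad points
  let B : SubMulAction C' (RQ S X) :=
    { carrier := {y | J • y = y ∧ f J y ≠ 1}
      smul_mem' := by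
        rintro ⟨u, hu⟩ y ⟨hy1, hy2⟩
        obtain ⟨h1, h3⟩ := hinv u hu y hy1
        exact ⟨h1, by change f J (u • y) ≠ 1; rw [h3]; exact hy2⟩ }
  have hfixne : ∀ y : RQ S X, (∀ u ∈ C', u • y = y) → f J y ≠ 1 := by
    intro y hy
    obtain ⟨ψ, hψ, hψc⟩ := hom_of_fixed hX hr hCS (y := y) (fun u => hy _ u.2)
    have h1 : (coc hr J y : Ω) = ψ ⟨j, hjC⟩ := (hψc ⟨j, hjC⟩).symm
    have hconj' : F.IsConjElt i (ψ ⟨j, hjC⟩) := by
      refine ⟨_, F.comp_mem hφ hψ (fun x => ?_), rfl⟩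
      have h2 : φ x ∈ Subgroup.zpowers j := by rw [hjR, ← hφR]; exact ⟨x, rfl⟩
      exact (Subgroup.zpowers_le.mpr hjC) h2
    intro h2
    change L (coc hr J y) = 1 at h2
    rw [h1] at h2
    refine h _ hconj' ?_ ((hLT _ (hom_mem F hψ _)).mp h2)
    have hjo' : orderOf (ψ ⟨j, hjC⟩) = 2 := by
      rw [orderOf_injective ψ (F.injective_of_mem hψ), ← hjo, ← Subgroup.orderOf_coe]
    have hcz : F.IsConj (Subgroup.zpowers j) (Subgroup.zpowers (ψ ⟨j, hjC⟩)) := by
      refine ⟨_, restrict_mem F hψ (Subgroup.zpowers_le.mpr hjC), ?_⟩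
      apply le_antisymm
      · rintro _ ⟨⟨_, k, rfl⟩, rfl⟩
        refine ⟨k, ?_⟩
        change (ψ ⟨j, hjC⟩) ^ k = ψ _
        rw [← map_zpow]; rfl
      · rw [Subgroup.zpowers_le]; exact ⟨⟨j, Subgroup.mem_zpowers j⟩, rfl⟩
    refine ⟨Subgroup.zpowers_le.mpr (hom_mem F hψ _), fun Q hQ => ?_⟩
    refine (hjn.2 Q (isConj_trans hcz hQ)).trans ?_
    -- N_S(⟨j⟩) = C_S(j)
    have hNC : normalizerIn S (Subgroup.zpowers j) ≤ C := by
      intro x hx
      obtain ⟨hxS, hxn⟩ := mem_normalizerIn.mp hx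
      refine mem_centralizerIn.mpr ⟨hxS, ?_⟩
      have h3 : x * j * x⁻¹ = j := by
        have h4 := (Subgroup.mem_normalizer_iff.mp hxn j).mp (Subgroup.mem_zpowers j)
        obtain ⟨k, hk⟩ := Subgroup.mem_zpowers_iff.mp h4
        rcases Int.even_or_odd' k with ⟨m, hm | hm⟩
        · exfalso
          rw [hm, zpow_mul] at hk
          have e : j ^ (2 : ℤ) = 1 := by rw [zpow_ofNat, pow_two, hjj]
          rw [e, one_zpow] at hk
          have h5 : j = 1 := by
            have : x⁻¹ * (x * j * x⁻¹) * x = j := by group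
            rw [← hk] at this
            rw [← this]; group
          rw [h5, orderOf_one] at hjo
          omega
        · rw [hm, zpow_add, zpow_mul] at hk
          have e : j ^ (2 : ℤ) = 1 := by rw [zpow_ofNat, pow_two, hjj]
          rw [e, one_zpow, one_mul, zpow_one] at hk
          exact hk.symm
      intro y hy
      obtain ⟨k, rfl⟩ := Subgroup.mem_zpowers_iff.mp hy
      have h4 : Commute j x := by
        have := mul_inv_eq_iff_eq_mul.mp h3
        exact this.symm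
      exact (h4.zpow_left k).eq
    have hψN : ∀ u : C, ψ u ∈ normalizerIn S (Subgroup.zpowers (ψ ⟨j, hjC⟩)) := by
      intro u
      apply centralizerIn_le_normalizerIn
      refine mem_centralizerIn.mpr ⟨hom_mem F hψ u, fun y hy => ?_⟩
      obtain ⟨k, rfl⟩ := Subgroup.mem_zpowers_iff.mp hy
      have h4 : Commute (ψ ⟨j, hjC⟩) (ψ u) := by
        have h5 : (⟨j, hjC⟩ : C) * u = u * ⟨j, hjC⟩ := Subtype.ext (hCcomm u).symm
        change ψ _ * ψ u = ψ u * ψ _
        rw [← map_mul, h5, map_mul]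
      exact (h4.zpow_left k).eq
    have hfinN : Finite (normalizerIn S (Subgroup.zpowers (ψ ⟨j, hjC⟩))) := finite_of_le inf_le_left
    refine Nat.card_le_card_of_injective (fun u : normalizerIn S (Subgroup.zpowers j) => (⟨ψ ⟨u, hNC u.2⟩, hψN _⟩ : normalizerIn S (Subgroup.zpowers (ψ ⟨j, hjC⟩)))) ?_
    intro u v huv
    have h3 := F.injective_of_mem hψ (congrArg Subtype.val huv)
    exact Subtype.ext (congrArg (fun x : C => (x : Ω)) h3)
  -- counting
  have hBcard : Nat.card B ≡ Nat.card (MulAction.fixedPoints C' B) [MOD 2] := hC'p.card_modEq_card_fixedPoints B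
  have hBfix : Nat.card (MulAction.fixedPoints C' B) = Nat.card (MulAction.fixedPoints C' (RQ S X)) := by
    refine Nat.card_congr ⟨fun y => ⟨y.1.1, fun u => congrArg Subtype.val (y.2 u)⟩, fun y => ⟨⟨y.1, ?_, ?_⟩, fun u => Subtype.ext (y.2 u)⟩, fun _ => rfl, fun _ => rfl⟩
    · exact y.2 ⟨J, hjC⟩
    · exact hfixne y.1 fun u hu => y.2 ⟨u, hu⟩
  have hRcard : Nat.card (RQ S X) ≡ Nat.card (MulAction.fixedPoints C' (RQ S X)) [MOD 2] := hC'p.card_modEq_card_fixedPoints (RQ S X)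
  have hBodd : Odd (Nat.card B) := by
    have h1 : Nat.card B ≡ Nat.card (RQ S X) [MOD 2] := (hBcard.trans (hBfix ▸ Nat.ModEq.refl _)).trans hRcard.symm
    have h3 : Odd (Nat.card (RQ S X)) := Nat.coprime_two_right.mp hcard
    rw [Nat.odd_iff] at h3 ⊢
    rw [← h3]; exact h1
  have hprodB : ∏ y ∈ Finset.univ.filter (fun y : RQ S X => J • y = y), f J y = L j ^ Nat.card B := by
    have h1 : ∏ y ∈ Finset.univ.filter (fun y : RQ S X => J • y = y), f J y =
        ∏ y ∈ Finset.univ.filter (fun y : RQ S X => J • y = y ∧ f J y ≠ 1), f J y := by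
      rw [Finset.filter_and]
      symm
      apply Finset.prod_subset Finset.inter_subset_left
      intro y hy hy2
      by_contra hne
      exact hy2 (Finset.mem_inter.mpr ⟨hy, Finset.mem_filter.mpr ⟨Finset.mem_univ _, hne⟩⟩)
    rw [h1, Finset.prod_congr rfl (g := fun _ => L j) (fun y hy => hLval _ (Finset.mem_filter.mp hy).2.2), Finset.prod_const]
    congr 1
    have h3 : Nat.card B = Nat.card {y : RQ S X // J • y = y ∧ f J y ≠ 1} := rfl
    rw [h3, Nat.card_eq_fintype_card, Fintype.card_subtype]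
  rw [hprodB] at hfixprod
  obtain ⟨m, hm⟩ := hBodd
  rw [hm, pow_add, pow_mul, hLjj, one_pow, one_mul, pow_one] at hfixprod
  exact hLj hfixprod

end Cfsg.Agent.L0.Fus
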