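import Cfsg.Agent.L0.Fus.Bis14
import Cfsg.Agent.L0.Fus.Thom2
set_option autoImplicit false
/-! The automorphism group of a biset as a right set, and its transfer homomorphism. -/

open Pointwise

namespace Cfsg.Agent.L0.Fus

open Cfsg.Agent.L0 Cfsg.FusionSystem

universe u v w

variable {Ω : Type u} [Group Ω] {S : Subgroup Ω} {F : FusionSystem S}

/-- permutations commuting with the right action. -/
def rAut (S : Subgroup Ω) (X : Type u) [MulAction (S × S) X] : Subgroup (Equiv.Perm X) where
  carrier := {g | ∀ (t : S) (x : X), g (((1, t) : S × S) • x) = ((1, t) : S × S) • g x}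
  one_mem' := fun _ _ => rfl
  mul_mem' := fun {a b} ha hb t x => by
    change a (b _) = _ • a (b x)
    rw [hb, ha]
  inv_mem' := fun {a} ha t x => by
    change a.symm _ = _ • a.symm x
    rw [Equiv.symm_apply_eq, ha, Equiv.apply_symm_apply]

/-- the left action. -/
def rInc (S : Subgroup Ω) (X : Type u) [MulAction (S × S) X] : S →* rAut S X :=
  ((MulAction.toPermHom (S × S) X).comp (MonoidHom.inl S S)).codRestrict (rAut S X) (fun s t x => by
    change ((s, 1) : S × S) • ((1, t) : S × S) • x = ((1, t) : S × S) • ((s, 1) : S × S) • x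
    rw [← mul_smul, ← mul_smul, Prod.mk_mul_mk, Prod.mk_mul_mk, one_mul, one_mul, mul_one, mul_one])

theorem rInc_apply {X : Type u} [MulAction (S × S) X] (s : S) (x : X) :
    ((rInc S X s : rAut S X) : Equiv.Perm X) x = ((s, 1) : S × S) • x := rfl

theorem realized {X : Type u} [MulAction (S × S) X] [Finite X] [Finite S] (hX : FSet F X) (hst : StableAt F X 0)
    (hpos : 0 < mrk (gdiag S S S.subtype S.subtype) X) : F.IsRealizedBy (rInc S X) := by
  have hne : Nonempty (fxp (gdiag S S S.subtype S.subtype) X) := by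
    by_contra h
    rw [not_nonempty_iff] at h
    rw [mrk, Nat.card_of_isEmpty] at hpos
    exact hpos.ne rfl
  obtain ⟨x₀, hx₀⟩ := hne
  have hx₀' : ∀ s : S, ((s, s) : S × S) • x₀ = x₀ := fun s => hx₀ _ ⟨s, rfl, rfl⟩
  refine ⟨?_, ?_⟩
  · rw [injective_iff_map_eq_one]
    intro s hs
    have h1 : ((s, 1) : S × S) • x₀ = x₀ := by
      rw [← rInc_apply, hs]; rfl
    have h2 : ((1, s⁻¹) : S × S) • x₀ = x₀ := by
      have h3 := hx₀' s⁻¹
      have h4 : ((1, s⁻¹) : S × S) = ((s⁻¹, s⁻¹) : S × S) * (s, 1) := by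
        rw [Prod.mk_mul_mk, inv_mul_cancel, mul_one]
      rw [h4, mul_smul, h1, h3]
    have h3 := right_free hX h2
    exact inv_eq_one.mp h3
  · intro P hP φ hφ
    constructor
    · intro hφF
      obtain ⟨f, hf⟩ := exists_twist hX hst hφF
      have hfG : f ∈ rAut S X := fun t x => by
        have h1 := hf 1 t x
        have h2 : (⟨((1 : P) : Ω), hom_le F hφF (1 : P).2⟩ : S) = 1 := rfl
        have h3 : (⟨φ 1, hom_mem F hφF 1⟩ : S) = 1 := Subtype.ext (map_one φ)
        rw [h2, h3] at h1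
        exact h1
      refine ⟨⟨f, hfG⟩, fun x => ?_⟩
      rw [eq_mul_inv_iff_mul_eq]
      apply Subtype.ext
      apply Equiv.ext
      intro y
      have h1 := hf x 1 y
      exact h1.symm
    · rintro ⟨g, hg⟩
      have h1 : gdiag S P φ P.subtype ≤ MulAction.stabilizer (S × S) ((g : Equiv.Perm X) x₀) := by
        rintro ⟨a, b⟩ ⟨x, hx1, hx2⟩
        have hb : b = ⟨x, hP x.2⟩ := Subtype.ext hx2.symm
        have ha : a = ⟨φ x, hφ x⟩ := Subtype.ext hx1.symm
        rw [MulAction.mem_stabilizer_iff, ha]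
        have h2 : (((⟨φ x, hφ x⟩ : S), b) : S × S) = ((⟨φ x, hφ x⟩, 1) : S × S) * (1, b) := by
          rw [Prod.mk_mul_mk, mul_one, one_mul]
        rw [h2, mul_smul, ← g.2 b x₀, ← rInc_apply, hg x]
        change (g : Equiv.Perm X) (((rInc S X ⟨x, hP x.2⟩ : rAut S X) : Equiv.Perm X) ((g : Equiv.Perm X).symm ((g : Equiv.Perm X) _))) = _
        rw [Equiv.symm_apply_apply, rInc_apply, ← mul_smul, Prod.mk_mul_mk, mul_one, one_mul, ← hb, hx₀']
      obtain ⟨Q, α, β, hα, hβ, hD⟩ := (hX _).mono h1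
      have hk : ∀ x : P, ∃ q : Q, α q = φ x ∧ β q = x := fun x => by
        have h2 : ((⟨φ x, hφ x⟩, ⟨x, hP x.2⟩) : S × S) ∈ gdiag S P φ P.subtype := ⟨x, rfl, rfl⟩
        rw [hD] at h2
        exact h2
      have hrange : β.range = P := by
        apply le_antisymm
        · rintro _ ⟨q, rfl⟩
          have h2 : ((⟨α q, hom_mem F hα q⟩, ⟨β q, hom_mem F hβ q⟩) : S × S) ∈ gdiag S Q α β := ⟨q, rfl, rfl⟩
          rw [← hD] at h2
          obtain ⟨x, -, hx⟩ := h2
          have h3 : (x : Ω) = β q := hx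
          rw [← h3]; exact x.2
        · intro x hx
          obtain ⟨q, -, hq⟩ := hk ⟨x, hx⟩
          exact ⟨q, hq⟩
      obtain ⟨γ, hγ, hγβ⟩ := F.inv_mem hβ
      subst hrange
      have h5 : ∀ x, γ x ∈ Q := by
        rintro ⟨_, q, rfl⟩
        rw [hγβ]; exact q.2
      have h6 := F.comp_mem hγ hα h5
      have h7 : φ = α.comp (γ.codRestrict Q h5) := by
        ext x
        obtain ⟨q, hq1, hq2⟩ := hk x
        have h8 : x = ⟨β q, q, rfl⟩ := Subtype.ext hq2.symm
        change φ x = α ⟨γ x, h5 x⟩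
        rw [← hq1]
        congr 1
        apply Subtype.ext
        change (q : Ω) = γ x
        rw [h8, hγβ]
      rw [h7]; exact h6

/-- the induced action on right orbits. -/
def gq {X : Type u} [MulAction (S × S) X] (g : rAut S X) : RQ S X → RQ S X := Quotient.map' (g : Equiv.Perm X) (by
  rintro z _ ⟨t, rfl⟩
  exact ⟨t, (g.2 t z).symm ▸ rfl⟩)

theorem gq_mk {X : Type u} [MulAction (S × S) X] (g : rAut S X) (x : X) :
    gq g (Quotient.mk (rset S X) x) = Quotient.mk (rset S X) ((g : Equiv.Perm X) x) := rfl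

instance gqAct (X : Type u) [MulAction (S × S) X] : MulAction (rAut S X) (RQ S X) where
  smul := gq
  one_smul y := by
    induction y using Quotient.inductionOn with
    | _ z => rfl
  mul_smul g h y := by
    induction y using Quotient.inductionOn with
    | _ z => rfl

theorem gq_rInc {X : Type u} [MulAction (S × S) X] (s : S) (y : RQ S X) : (rInc S X s) • y = s • y := by
  induction y using Quotient.inductionOn with
  | _ z => rfl

section Coc
variable {X : Type u} [MulAction (S × S) X] {r : RQ S X → X} (hr : ∀ y, Quotient.mk (rset S X) (r y) = y)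
include hr

theorem exists_rcoc (g : rAut S X) (y : RQ S X) : ∃ c : S, ((1, c) : S × S) • (g : Equiv.Perm X) (r y) = r (g • y) := by
  have h1 : Quotient.mk (rset S X) ((g : Equiv.Perm X) (r y)) = Quotient.mk (rset S X) (r (g • y)) := by
    rw [hr, ← gq_mk, hr]; rfl
  obtain ⟨t, ht⟩ := Quotient.exact h1
  exact ⟨t, ht.symm⟩

noncomputable def rcoc (g : rAut S X) (y : RQ S X) : S := Classical.choose (exists_rcoc hr g y)

theorem rcoc_spec (g : rAut S X) (y : RQ S X) : ((1, rcoc hr g y) : S × S) • (g : Equiv.Perm X) (r y) = r (g • y) :=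
  Classical.choose_spec (exists_rcoc hr g y)

theorem rcoc_eq (hX : FSet F X) {g : rAut S X} {y : RQ S X} {c : S} (h : ((1, c) : S × S) • (g : Equiv.Perm X) (r y) = r (g • y)) :
    rcoc hr g y = c := by
  apply smul_right_inj hX (s := 1) (x := (g : Equiv.Perm X) (r y))
  rw [rcoc_spec, h]

theorem rcoc_mul (hX : FSet F X) (g h : rAut S X) (y : RQ S X) : rcoc hr (g * h) y = rcoc hr g (h • y) * rcoc hr h y := by
  apply rcoc_eq hr hX
  have h1 := rcoc_spec hr h y
  have h2 := rcoc_spec hr g (h • y)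
  rw [← h1, g.2, ← mul_smul, Prod.mk_mul_mk, one_mul] at h2
  rw [mul_smul g h y]
  exact h2

theorem rcoc_rInc (hX : FSet F X) (s : S) (y : RQ S X) : rcoc hr (rInc S X s) y = coc hr s y := by
  apply rcoc_eq hr hX
  have h1 := coc_spec hr s y
  rw [rInc_apply, ← mul_smul, Prod.mk_mul_mk, one_mul, mul_one, h1, gq_rInc]
  rfl

end Coc

end Cfsg.Agent.L0.Fus
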