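import Cfsg.Agent.L0.Fus.PIdx1
set_option autoImplicit false
/-! The transfer homomorphism on the automorphism group of a biset. -/

open Pointwise

namespace Cfsg.Agent.L0.Fus

open Cfsg.Agent.L0 Cfsg.FusionSystem

universe u v w

variable {Ω : Type u} [Group Ω] {S : Subgroup Ω} {F : FusionSystem S} [Finite S]
variable {X : Type u} [MulAction (S × S) X] [Finite X] {r : RQ S X → X} (hr : ∀ y, Quotient.mk (rset S X) (r y) = y)

section
variable [Fintype (RQ S X)] {A : Type w} [CommGroup A]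

/-- the transfer homomorphism. -/
noncomputable def bigT (hX : FSet F X) (L : Ω → A) (hL : ∀ x ∈ S, ∀ y ∈ S, L (x * y) = L x * L y) : rAut S X →* A where
  toFun g := ∏ y : RQ S X, L (rcoc hr g y)
  map_one' := by
    have hL1 : L 1 = 1 := by
      have := hL 1 S.one_mem 1 S.one_mem
      rw [mul_one] at this
      exact mul_eq_left.mp this.symm
    refine Finset.prod_eq_one fun y _ => ?_
    have h1 : rcoc hr (1 : rAut S X) y = 1 := by
      apply rcoc_eq hr hX
      have e : ((1, 1) : S × S) = 1 := rfl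
      rw [e, one_smul, one_smul]
      rfl
    rw [h1]; exact hL1
  map_mul' g h := by
    have h1 : ∀ y : RQ S X, L (rcoc hr (g * h) y) = L (rcoc hr g (h • y)) * L (rcoc hr h y) := fun y => by
      rw [rcoc_mul hr hX]; exact hL _ (rcoc hr g (h • y)).2 _ (rcoc hr h y).2
    rw [Finset.prod_congr rfl (fun y _ => h1 y), Finset.prod_mul_distrib]
    congr 1
    exact Equiv.prod_comp (MulAction.toPerm h) (fun y => L (rcoc hr g y))

theorem bigT_apply (hX : FSet F X) (L : Ω → A) (hL : ∀ x ∈ S, ∀ y ∈ S, L (x * y) = L x * L y) (g : rAut S X) :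
    bigT hr hX L hL g = ∏ y : RQ S X, L (rcoc hr g y) := rfl

/-- value on `S`. -/
theorem bigT_rInc (hX : FSet F X) (L : Ω → A) (hL : ∀ x ∈ S, ∀ y ∈ S, L (x * y) = L x * L y)
    (hLF : ∀ (P : Subgroup Ω) (φ : P →* Ω), φ ∈ F.Hom P → ∀ x : P, L (φ x) = L x) (s : S) :
    bigT hr hX L hL (rInc S X s) = L s ^ Nat.card (RQ S X) := by
  rw [bigT_apply, Finset.prod_congr rfl (fun y _ => by rw [rcoc_rInc hr hX])]
  have hL1 : L 1 = 1 := by
    have := hL 1 S.one_mem 1 S.one_mem
    rw [mul_one] at this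
    exact mul_eq_left.mp this.symm
  have h1 : ∏ y : RQ S X, (L (coc hr s y) * (L s)⁻¹) = 1 := by
    apply prod_eq_one_of_orbits (lperm s)
    intro y k hk hy
    have h2 : ∀ i, ((lperm s) ^ i) y = lact (s ^ i) y := fun i => lperm_pow _ i y
    rw [h2] at hy
    rw [Finset.prod_congr rfl (fun i _ => by rw [h2 i]), Finset.prod_mul_distrib, Finset.prod_const, Finset.card_range]
    obtain ⟨h3, h4⟩ := coc_pow (M := S) hX hr L hL s (fun z => (coc hr s z).2) k y
    rw [← h4]
    obtain ⟨ψ, hψ, hψc⟩ := hom_of_fixed hX hr (C := Subgroup.zpowers ((s ^ k : S) : Ω)) (Subgroup.zpowers_le.mpr (s ^ k).2) (y := y) (by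
      rintro ⟨_, i, rfl⟩
      have h5 : (⟨((s ^ k : S) : Ω) ^ i, (Subgroup.zpowers_le.mpr (s ^ k).2) ⟨i, rfl⟩⟩ : S) = (s ^ k) ^ i := rfl
      rw [h5]
      have h6 : s ^ k ∈ MulAction.stabilizer S y := hy
      exact (MulAction.stabilizer S y).zpow_mem h6 i)
    have h5 := hψc ⟨_, Subgroup.mem_zpowers _⟩
    have h6 : (coc hr (s ^ k) y : Ω) = ψ ⟨_, Subgroup.mem_zpowers _⟩ := h5.symm
    rw [h6, hLF _ ψ hψ]
    have h7 : ∀ j : ℕ, L ((s : Ω) ^ j) = L s ^ j := by
      intro j
      induction j with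
      | zero => simp [hL1]
      | succ j ih => rw [pow_succ, hL _ (S.pow_mem s.2 j) _ s.2, ih, pow_succ]
    change L ((s : Ω) ^ k) * _ = 1
    rw [h7, inv_pow, mul_inv_cancel]
  rw [Finset.prod_mul_distrib, Finset.prod_const, Finset.card_univ, ← Nat.card_eq_fintype_card, inv_pow] at h1
  exact mul_inv_eq_one.mp h1

/-- The key lemma: elements centralizing `P` are in the kernel when all centralizers of conjugates of `P` are. -/
theorem bigT_centralizer {p : ℕ} [Fact p.Prime] (hS : IsPGroup p S) (hX : FSet F X) (L : Ω → A)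
    (hL : ∀ x ∈ S, ∀ y ∈ S, L (x * y) = L x * L y)
    (hLF : ∀ (P : Subgroup Ω) (φ : P →* Ω), φ ∈ F.Hom P → ∀ x : P, L (φ x) = L x) (hA : ∀ a : A, a ^ p = 1)
    {P : Subgroup Ω} (hPS : P ≤ S) (hPL : ∀ x ∈ P, L x = 1)
    (hPc : ∀ (φ : P →* Ω), φ ∈ F.Hom P → ∀ x ∈ centralizerIn S φ.range, L x = 1) {g : rAut S X}
    (hg : ∀ x : P, g * rInc S X ⟨x, hPS x.2⟩ = rInc S X ⟨x, hPS x.2⟩ * g) : bigT hr hX L hL g = 1 := by
  classical
  let P' : Subgroup S := P.subgroupOf S
  have hmulL : ∀ a b : S, L ((a * b : S) : Ω) = L a * L b := fun a b => hL _ a.2 _ b.2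
  let f : rAut S X → RQ S X → A := fun g y => L (rcoc hr g y)
  have hf : ∀ g h y, f (g * h) y = f g (h • y) * f h y := fun g h y => by
    change L (rcoc hr (g * h) y) = _
    rw [rcoc_mul hr hX]; exact hmulL _ _
  -- statement for elements normalizing an orbit
  have key : ∀ h : rAut S X, (∀ x : P, h * rInc S X ⟨x, hPS x.2⟩ = rInc S X ⟨x, hPS x.2⟩ * h) → ∀ y₀ : RQ S X,
      (∃ u : P', h • y₀ = (u : S) • y₀) → ∏ y ∈ Finset.univ.filter (fun y : RQ S X => ∃ u : P', y = (u : S) • y₀), f h y = 1 := by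
    rintro h hh y₀ ⟨a, ha⟩
    have hhu : ∀ (u : P') (y : RQ S X), h • (u : S) • y = (u : S) • h • y := by
      intro u y
      have h1 := hh ⟨u, u.2⟩
      have h2 : h • (rInc S X (u : S)) • y = (rInc S X (u : S)) • h • y := by
        rw [← mul_smul, ← mul_smul]
        exact congrArg (fun k => k • y) h1
      rw [gq_rInc, gq_rInc] at h2
      exact h2
    let lam : S → A := fun u => f (rInc S X u) y₀
    have hfix : ∀ (u : S) (y : RQ S X), u • y = y → f (rInc S X u) y = L u := by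
      intro u y hy
      obtain ⟨ψ, hψ, hψc⟩ := hom_of_fixed hX hr (C := Subgroup.zpowers (u : Ω)) (Subgroup.zpowers_le.mpr u.2) (y := y) (by
        rintro ⟨_, i, rfl⟩
        have h5 : (⟨(u : Ω) ^ i, (Subgroup.zpowers_le.mpr u.2) ⟨i, rfl⟩⟩ : S) = u ^ i := rfl
        rw [h5]
        exact (MulAction.stabilizer S y).zpow_mem hy i)
      have h5 := hψc ⟨_, Subgroup.mem_zpowers _⟩
      have h6 : (coc hr u y : Ω) = ψ ⟨_, Subgroup.mem_zpowers _⟩ := h5.symm
      change L (rcoc hr (rInc S X u) y) = _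
      rw [rcoc_rInc hr hX, h6, hLF _ ψ hψ]
    have hlam : ∀ u v : P', (u : S) • y₀ = (v : S) • y₀ → lam u = lam v := by
      intro u v huv
      have hq : ((v : S)⁻¹ * u) • y₀ = y₀ := by rw [mul_smul, huv, inv_smul_smul]
      have h1 : lam ((v : S) * ((v : S)⁻¹ * u)) = lam v * L ((v : S)⁻¹ * u : S) := by
        change f (rInc S X _) y₀ = _
        rw [map_mul, hf, gq_rInc, hq, hfix _ _ hq]
      have h2 : L (((v : S)⁻¹ * u : S) : Ω) = 1 := hPL _ (P'.mul_mem (P'.inv_mem v.2) u.2)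
      rw [mul_inv_cancel_left, h2, mul_one] at h1
      exact h1
    let Lam : RQ S X → A := fun y => if hy : ∃ u : P', y = (u : S) • y₀ then lam (Classical.choose hy : P') else 1
    have hLam : ∀ u : P', Lam ((u : S) • y₀) = lam u := by
      intro u
      have hy : ∃ v : P', (u : S) • y₀ = (v : S) • y₀ := ⟨u, rfl⟩
      change (if hy : ∃ v : P', (u : S) • y₀ = (v : S) • y₀ then lam (Classical.choose hy : P') else 1) = _
      rw [dif_pos hy]
      exact (hlam _ _ (Classical.choose_spec hy)).symm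
    set O : Finset (RQ S X) := Finset.univ.filter (fun y : RQ S X => ∃ u : P', y = (u : S) • y₀) with hO
    have hOm : ∀ y, y ∈ O ↔ ∃ u : P', y = (u : S) • y₀ := fun y => by simp [hO]
    set c : A := f h y₀ * (lam a)⁻¹ with hc
    have hval : ∀ y ∈ O, f h y = Lam (h • y) * (Lam y)⁻¹ * c := by
      intro y hy
      obtain ⟨u, rfl⟩ := (hOm y).mp hy
      have h1 : f h ((u : S) • y₀) * lam u = lam (u * a : S) * (lam a)⁻¹ * f h y₀ := by
        have h2 : f (h * rInc S X u) y₀ = f h ((u : S) • y₀) * lam u := by rw [hf, gq_rInc]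
        have h3 : f (rInc S X u * h) y₀ = f (rInc S X u) ((a : S) • y₀) * f h y₀ := by rw [hf, ha]
        have h4 : lam (u * a : S) = f (rInc S X u) ((a : S) • y₀) * lam a := by
          change f (rInc S X (u * a : S)) y₀ = _
          rw [map_mul, hf, gq_rInc]
        have h5 := hh ⟨u, u.2⟩
        have h6 : h * rInc S X u = rInc S X u * h := h5
        rw [← h2, h6, h3, h4, mul_inv_cancel_right]
      have h7 : Lam (h • (u : S) • y₀) = lam (u * a : S) := by
        have h8 : h • (u : S) • y₀ = ((u * a : P') : S) • y₀ := by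
          rw [hhu, ha, ← mul_smul]; rfl
        rw [h8]; exact hLam (u * a)
      rw [h7, hLam, hc, eq_mul_inv_of_mul_eq h1]
      rw [mul_comm (f h y₀) (lam a)⁻¹, mul_assoc, mul_assoc, mul_assoc]
      congr 1
      rw [mul_comm (lam u)⁻¹, mul_assoc]
    have hperm : ∏ y ∈ O, Lam (h • y) = ∏ y ∈ O, Lam y := by
      refine Finset.prod_bij (fun y _ => h • y) ?_ (fun a _ b _ h1 => MulAction.injective h h1) ?_ (fun _ _ => rfl)
      · intro y hy
        obtain ⟨u, rfl⟩ := (hOm y).mp hy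
        exact (hOm _).mpr ⟨u * a, by rw [hhu, ha, ← mul_smul]; rfl⟩
      · intro y hy
        obtain ⟨u, rfl⟩ := (hOm y).mp hy
        refine ⟨((u * a⁻¹ : P') : S) • y₀, (hOm _).mpr ⟨_, rfl⟩, ?_⟩
        rw [hhu, ha, ← mul_smul]
        congr 1
        exact inv_mul_cancel_right _ _
    rw [Finset.prod_congr rfl hval, Finset.prod_mul_distrib, Finset.prod_mul_distrib, Finset.prod_inv_distrib, hperm,
      mul_inv_cancel, one_mul, Finset.prod_const]
    have hP'p : IsPGroup p P' := hS.to_subgroup _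
    obtain ⟨n, hn⟩ := hP'p.card_orbit y₀
    have hOcard : O.card = Nat.card (MulAction.orbit P' y₀) := by
      have e : Nat.card (MulAction.orbit P' y₀) = Nat.card {y : RQ S X // ∃ u : P', y = (u : S) • y₀} := by
        refine Nat.card_congr (Equiv.subtypeEquivRight fun y => ?_)
        constructor
        · rintro ⟨u, hu⟩; exact ⟨u, hu.symm⟩
        · rintro ⟨u, hu⟩; exact ⟨u, hu.symm⟩
      rw [e, Nat.card_eq_fintype_card, Fintype.card_subtype]
    rw [hOcard, hn]
    rcases Nat.eq_zero_or_pos n with rfl | hn0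
    · rw [pow_zero, pow_one]
      rw [pow_zero] at hn
      have hfixP : ∀ u : P', (u : S) • y₀ = y₀ := by
        intro u
        have h1 := (Nat.card_eq_one_iff_unique.mp hn).1
        have h2 : (⟨(u : S) • y₀, ⟨u, rfl⟩⟩ : MulAction.orbit P' y₀) = ⟨y₀, MulAction.mem_orbit_self y₀⟩ := Subsingleton.elim _ _
        exact congrArg Subtype.val h2
      have hhy : h • y₀ = y₀ := by rw [ha, hfixP]
      have h1 : lam a = 1 := by
        change f (rInc S X _) y₀ = 1
        rw [hfix _ _ (hfixP a)]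
        exact hPL _ a.2
      rw [hc, h1, inv_one, mul_one]
      obtain ⟨ψ, hψ, hψc⟩ := hom_of_fixed hX hr hPS (y := y₀) (fun u => hfixP ⟨⟨u, hPS u.2⟩, u.2⟩)
      refine hPc ψ hψ _ (mem_centralizerIn.mpr ⟨(rcoc hr h y₀).2, ?_⟩)
      rintro _ ⟨u, rfl⟩
      have h2 := hh u
      have h3 := rcoc_mul hr hX h (rInc S X ⟨u, hPS u.2⟩) y₀
      have h4 := rcoc_mul hr hX (rInc S X ⟨u, hPS u.2⟩) h y₀
      rw [h2, h4, gq_rInc, hhy, hfixP ⟨⟨u, hPS u.2⟩, u.2⟩, rcoc_rInc hr hX] at h3
      rw [hψc u]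
      exact congrArg Subtype.val h3
    · obtain ⟨m, rfl⟩ := Nat.exists_eq_succ_of_ne_zero hn0.ne'
      rw [pow_succ', pow_mul, hA, one_pow]
  -- reduction
  have hcommP : ∀ (k : ℕ) (x : P), g ^ k * rInc S X ⟨x, hPS x.2⟩ = rInc S X ⟨x, hPS x.2⟩ * g ^ k := by
    intro k x
    have h1 : Commute g (rInc S X ⟨x, hPS x.2⟩) := hg x
    exact (h1.pow_left k).eq
  have hgu : ∀ (h : rAut S X), (∀ x : P, h * rInc S X ⟨x, hPS x.2⟩ = rInc S X ⟨x, hPS x.2⟩ * h) →
      ∀ (u : P') (y : RQ S X), h • (u : S) • y = (u : S) • h • y := by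
    intro h hh u y
    have h1 := hh ⟨u, u.2⟩
    have h2 : h • (rInc S X (u : S)) • y = (rInc S X (u : S)) • h • y := by
      rw [← mul_smul, ← mul_smul]
      exact congrArg (fun k => k • y) h1
    rw [gq_rInc, gq_rInc] at h2
    exact h2
  have hginv : ∀ x : P, g⁻¹ * rInc S X ⟨x, hPS x.2⟩ = rInc S X ⟨x, hPS x.2⟩ * g⁻¹ := by
    intro x
    have h1 : Commute g (rInc S X ⟨x, hPS x.2⟩) := hg x
    exact h1.inv_left.eq
  haveI : Fintype (MulAction.orbitRel.Quotient P' (RQ S X)) := Fintype.ofFinite _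
  let qmap : (h : rAut S X) → (∀ x : P, h * rInc S X ⟨x, hPS x.2⟩ = rInc S X ⟨x, hPS x.2⟩ * h) →
      MulAction.orbitRel.Quotient P' (RQ S X) → MulAction.orbitRel.Quotient P' (RQ S X) := fun h hh =>
    Quotient.map' (s₁ := MulAction.orbitRel P' (RQ S X)) (s₂ := MulAction.orbitRel P' (RQ S X)) (fun y => h • y) (by
      rintro _ y ⟨u, rfl⟩
      exact ⟨u, (hgu h hh u y).symm⟩)
  let gbar : Equiv.Perm (MulAction.orbitRel.Quotient P' (RQ S X)) :=
    { toFun := qmap g hg
      invFun := qmap g⁻¹ hginv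
      left_inv := fun ω => by
        induction ω using Quotient.inductionOn' with
        | _ y =>
          change Quotient.mk'' (g⁻¹ • g • y) = _
          rw [inv_smul_smul]
      right_inv := fun ω => by
        induction ω using Quotient.inductionOn' with
        | _ y =>
          change Quotient.mk'' (g • g⁻¹ • y) = _
          rw [smul_inv_smul] }
  have hgbar : ∀ (i : ℕ) (y : RQ S X), (gbar ^ i) (Quotient.mk'' y) = Quotient.mk'' (g ^ i • y) := by
    intro i y
    induction i with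
    | zero => simp
    | succ i ih =>
      rw [pow_succ', Equiv.Perm.mul_apply, ih, pow_succ', mul_smul]
      rfl
  have hfpow : ∀ (k : ℕ) y, f (g ^ k) y = ∏ i ∈ Finset.range k, f g (g ^ i • y) := by
    intro k y
    induction k with
    | zero =>
      have h1 : f 1 y = 1 := by
        have := hf 1 1 y
        rw [mul_one, one_smul] at this
        exact mul_eq_right.mp this.symm
      simp [h1]
    | succ k ih => rw [pow_succ', hf, ih, Finset.prod_range_succ, mul_comm]
  rw [bigT_apply]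
  change ∏ y : RQ S X, f g y = 1
  rw [← Finset.prod_fiberwise Finset.univ (fun y => (Quotient.mk'' y : MulAction.orbitRel.Quotient P' (RQ S X)))]
  apply prod_eq_one_of_orbits gbar
  intro ω k hk hω
  induction ω using Quotient.inductionOn' with
  | _ y₀ =>
    have h1 : ∀ i : ℕ, ∏ y ∈ Finset.univ.filter (fun y : RQ S X => (Quotient.mk'' y : MulAction.orbitRel.Quotient P' (RQ S X)) = (gbar ^ i) (Quotient.mk'' y₀)), f g y =
        ∏ y ∈ Finset.univ.filter (fun y : RQ S X => ∃ u : P', y = (u : S) • y₀), f g (g ^ i • y) := by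
      intro i
      symm
      refine Finset.prod_bij (fun y _ => g ^ i • y) ?_ (fun a _ b _ h1 => MulAction.injective (g ^ i) h1) ?_ (fun _ _ => rfl)
      · intro y hy
        obtain ⟨-, u, rfl⟩ := Finset.mem_filter.mp hy
        refine Finset.mem_filter.mpr ⟨Finset.mem_univ _, ?_⟩
        rw [hgbar, hgu (g ^ i) (hcommP i)]
        exact Quotient.sound' ⟨u, rfl⟩
      · intro y hy
        obtain ⟨-, hy⟩ := Finset.mem_filter.mp hy
        rw [hgbar] at hy
        obtain ⟨u, hu⟩ := Quotient.exact' hy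
        have hu' : (u : S) • g ^ i • y₀ = y := hu
        refine ⟨(u : S) • y₀, Finset.mem_filter.mpr ⟨Finset.mem_univ _, u, rfl⟩, ?_⟩
        rw [hgu (g ^ i) (hcommP i)]
        exact hu'
    rw [Finset.prod_congr rfl (fun i _ => h1 i), Finset.prod_comm, Finset.prod_congr rfl (fun y _ => (hfpow k y).symm)]
    apply key (g ^ k) (hcommP k) y₀
    rw [hgbar] at hω
    obtain ⟨u, hu⟩ := Quotient.exact' hω
    exact ⟨u, hu.symm⟩

end

end Cfsg.Agent.L0.Fus
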