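import Cfsg.Agent.L0.Fus.PIdx2
set_option autoImplicit false
/-! The index `p` step: saturated subsystem over a normal subgroup of index `p` containing the focal subgroup. -/

open Pointwise

namespace Cfsg.Agent.L0.Fus

open Cfsg.Agent.L0 Cfsg.FusionSystem

universe u v w

theorem isSylowIn_inf_normal {G : Type*} [Group G] [Finite G] {p : ℕ} [Fact p.Prime] {P M N : Subgroup G} (hP : IsSylowIn p P M)
    (hNM : N ≤ M) (hn : ∀ m ∈ M, ∀ x ∈ N, m * x * m⁻¹ ∈ N) : IsSylowIn p (P ⊓ N) N := by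
  obtain ⟨R, hR⟩ := exists_isSylowIn p N
  obtain ⟨T, rfl⟩ := hP
  obtain ⟨a, ha⟩ := exists_conj_le_sylow T (B := R.subgroupOf M) (isPGroup_subgroupOf hR.isPGroup)
  rw [isSylowIn_iff_card] at hR ⊢
  refine ⟨inf_le_right, ?_⟩
  have hpg : IsPGroup p (((T : Subgroup M).map M.subtype) ⊓ N : Subgroup G) :=
    (T.isPGroup'.map M.subtype).to_le inf_le_left
  obtain ⟨k, hk⟩ := hpg.exists_card_eq
  have h1 : Nat.card (((T : Subgroup M).map M.subtype) ⊓ N : Subgroup G) ∣ Nat.card N := Subgroup.card_dvd_of_le inf_le_right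
  have h2 : Nat.card R ≤ Nat.card (((T : Subgroup M).map M.subtype) ⊓ N : Subgroup G) := by
    refine Nat.card_le_card_of_injective (fun x : R => (⟨a * x * (a : G)⁻¹, ?_⟩ : (((T : Subgroup M).map M.subtype) ⊓ N : Subgroup G))) ?_
    · refine Subgroup.mem_inf.mpr ⟨⟨_, ha ⟨x, hNM (hR.1 x.2)⟩ x.2, rfl⟩, hn a a.2 x (hR.1 x.2)⟩
    · intro x y hxy
      have h3 := congrArg Subtype.val hxy
      exact Subtype.ext (mul_left_cancel (mul_right_cancel h3))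
  rw [hk] at h1 h2 ⊢
  rw [hR.2] at h2
  have hp : p.Prime := Fact.out
  have h3 := (Nat.pow_le_pow_iff_right hp.one_lt).mp h2
  have h4 := (hp.pow_dvd_iff_le_factorization (Nat.card_pos.ne')).mp h1
  rw [le_antisymm h3 h4]

variable {Ω : Type u} [Group Ω] {S : Subgroup Ω} {F : FusionSystem S} [Finite S] {p : ℕ} [Fact p.Prime]

section Step
variable {G : Type v} [Group G] {ι : S →* G} {A : Type w} [CommGroup A]

theorem realize (hr : F.IsRealizedBy ι) {P : Subgroup Ω} {φ : P →* Ω} (hφ : φ ∈ F.Hom P) :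
    ∃ g : G, ∀ x : P, ι ⟨φ x, hom_mem F hφ x⟩ = g * ι ⟨x, hom_le F hφ x.2⟩ * g⁻¹ :=
  (hr.2 P (hom_le F hφ) φ (hom_mem F hφ)).mp hφ

variable {T : Subgroup Ω}

/-- the subsystem cut out by the kernel of `Θ`. -/
def pidx (F : FusionSystem S) {T : Subgroup Ω} (hTS : T ≤ S) (ι : S →* G) (Θ : G →* A) (hΘ : ∀ s : S, (s : Ω) ∈ T → Θ (ι s) = 1)
    (hTF : ∀ (P : Subgroup Ω) (φ : P →* Ω), φ ∈ F.Hom P → P ≤ T → ∀ x : P, φ x ∈ T) : FusionSystem T where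
  Hom P := {φ | P ≤ T ∧ φ ∈ F.Hom P ∧ ∃ g : G, Θ g = 1 ∧
    ∀ (x : P) (h1 : φ x ∈ S) (h2 : (x : Ω) ∈ S), ι ⟨φ x, h1⟩ = g * ι ⟨x, h2⟩ * g⁻¹}
  le_of_mem := fun {P φ} h => ⟨h.1, hTF P φ h.2.1 h.1⟩
  injective_of_mem := fun h => F.injective_of_mem h.2.1
  conj_mem := fun {P g} hP hg => ⟨hP, F.conj_mem (hP.trans hTS) (hTS hg), ι ⟨g, hTS hg⟩, hΘ _ hg, fun x h1 h2 => by
    rw [← map_mul, ← map_inv, ← map_mul]; rfl⟩
  comp_mem := fun {P Q φ ψ} h1 h2 h => by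
    obtain ⟨hP, hφ, g, hg, hgφ⟩ := h1
    obtain ⟨hQ, hψ, k, hk, hkψ⟩ := h2
    refine ⟨hP, F.comp_mem hφ hψ h, k * g, by rw [map_mul, hg, hk, one_mul], fun x h1 h2 => ?_⟩
    have h3 := hkψ ⟨φ x, h x⟩ h1 (hom_mem F hφ x)
    change ι ⟨ψ ⟨φ x, h x⟩, h1⟩ = _
    rw [h3, hgφ x (hom_mem F hφ x) h2]
    group
  inv_mem := fun {P φ} h => by
    obtain ⟨hP, hφ, g, hg, hgφ⟩ := h
    obtain ⟨ψ, hψ, hψφ⟩ := F.inv_mem hφ
    have hTr : φ.range ≤ T := by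
      rintro _ ⟨x, rfl⟩
      exact hTF P φ hφ hP x
    refine ⟨ψ, ⟨hTr, hψ, g⁻¹, by rw [map_inv, hg, inv_one], ?_⟩, hψφ⟩
    rintro ⟨_, x, rfl⟩ h1 h2
    have h3 : (⟨ψ ⟨φ x, ⟨x, rfl⟩⟩, h1⟩ : S) = ⟨x, hom_le F hφ x.2⟩ := Subtype.ext (hψφ x)
    rw [h3]
    have h4 := hgφ x h2 (hom_le F hφ x.2)
    change _ = g⁻¹ * ι ⟨φ x, h2⟩ * g⁻¹⁻¹
    rw [h4]; group

section Main
variable (hS : IsPGroup p S) (hF : F.IsSaturated p) (hTS : T ≤ S) (hr : F.IsRealizedBy ι) (Θ : G →* A) (hA : Nat.card A = p)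
  (hΘ : ∀ s : S, Θ (ι s) = 1 ↔ (s : Ω) ∈ T) (hsur : ∀ a : A, ∃ s : S, Θ (ι s) = a)
  (hfoc : F.focalSubgroup ≤ T)
  (hcent : ∀ P : Subgroup Ω, ∀ hP : P ≤ T, (∀ φ ∈ F.Hom P, centralizerIn S φ.range ≤ T) → ∀ g : G,
    (∀ x : P, g * ι ⟨x, hTS (hP x.2)⟩ = ι ⟨x, hTS (hP x.2)⟩ * g) → Θ g = 1)

include hfoc in
theorem foc_mem {P : Subgroup Ω} {φ : P →* Ω} (hφ : φ ∈ F.Hom P) (x : P) : (φ x ∈ T ↔ (x : Ω) ∈ T) := by
  have h1 : (x : Ω)⁻¹ * φ x ∈ T := hfoc (Subgroup.subset_closure ⟨P, φ, x, hφ, rfl⟩)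
  constructor
  · intro h
    have h2 := T.mul_mem h (T.inv_mem h1)
    simpa using h2
  · intro h
    have h2 := T.mul_mem h h1
    simpa using h2

include hfoc in
theorem foc_T (P : Subgroup Ω) (φ : P →* Ω) (hφ : φ ∈ F.Hom P) (hP : P ≤ T) (x : P) : φ x ∈ T := (foc_mem hfoc hφ x).mpr (hP x.2)

include hS hF hfoc hcent in
/-- dichotomy for fully centralized subgroups. -/
theorem dich {R : Subgroup Ω} (hR : R ≤ T) (hRc : F.IsFullyCentralized R) :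
    (∀ g : G, (∀ x : R, g * ι ⟨x, hTS (hR x.2)⟩ = ι ⟨x, hTS (hR x.2)⟩ * g) → Θ g = 1) ∨
    ∃ z ∈ centralizerIn S R, z ∉ T := by
  by_cases h : ∀ φ ∈ F.Hom R, centralizerIn S φ.range ≤ T
  · exact Or.inl (hcent R hR h)
  · right
    push Not at h
    obtain ⟨φ, hφ, hφT⟩ := h
    obtain ⟨z, hz, hzT⟩ := SetLike.not_le_iff_exists.mp hφT
    obtain ⟨ψ, hψ, hψφ⟩ := F.inv_mem hφ
    have hψR : ψ.range = R := by
      ext y
      constructor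
      · rintro ⟨⟨_, x, rfl⟩, rfl⟩
        rw [hψφ]; exact x.2
      · intro hy
        exact ⟨⟨φ ⟨y, hy⟩, ⟨_, rfl⟩⟩, hψφ ⟨y, hy⟩⟩
    have hrec := receptive_of_fullyCentralized_sat hS hF hRc
    obtain ⟨χ, hχ, hχψ⟩ := hrec.2 _ ψ hψ hψR
    have hzE : z ∈ extender S φ.range ψ := centralizerIn_le_extender hz
    refine ⟨χ ⟨z, hzE⟩, ?_, fun h1 => hzT ((foc_mem hfoc hχ ⟨z, hzE⟩).mp h1)⟩
    have h2 := map_centralizerIn hχ (le_extender (range_le F hφ) (hom_mem F hψ)) hzE hz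
    rw [map_eq_range_of_agree (le_extender (range_le F hφ) (hom_mem F hψ)) hχψ, hψR] at h2
    exact h2

include hA hΘ in
theorem adjust {z : S} (hz : (z : Ω) ∉ T) (a : A) : ∃ k : ℕ, Θ (ι (z ^ k)) = a := by
  haveI : Finite A := Nat.finite_of_card_ne_zero (by rw [hA]; exact (Fact.out : p.Prime).ne_zero)
  have h1 : Θ (ι z) ≠ 1 := fun h => hz ((hΘ z).mp h)
  obtain ⟨k, hk⟩ := mem_powers_of_prime_card (g := Θ (ι z)) (g' := a) hA h1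
  exact ⟨k, by rw [map_pow, map_pow]; exact hk⟩

include hS hF hfoc hcent hA hΘ in
/-- elements of `S` acting on `R` as elements of `ker Θ` act as elements of `T`. -/
theorem act_T {R : Subgroup Ω} (hR : R ≤ T) (hRc : F.IsFullyCentralized R) {s : S} {g : G} (hg : Θ g = 1)
    (hsg : ∀ x : R, ι s * ι ⟨x, hTS (hR x.2)⟩ * (ι s)⁻¹ = g * ι ⟨x, hTS (hR x.2)⟩ * g⁻¹) :
    ∃ t : S, (t : Ω) ∈ T ∧ t⁻¹ * s ∈ (centralizerIn S R).subgroupOf S := by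
  rcases dich hS hF hTS Θ hfoc hcent hR hRc with h | ⟨z, hz, hzT⟩
  · have h1 := h (g⁻¹ * ι s) (fun x => by
      have h2 := hsg x
      have h3 : g⁻¹ * ι s * ι ⟨x, hTS (hR x.2)⟩ = g⁻¹ * (ι s * ι ⟨x, hTS (hR x.2)⟩ * (ι s)⁻¹) * ι s := by group
      rw [h3, h2]; group)
    rw [map_mul, map_inv, hg, inv_one, one_mul] at h1
    refine ⟨s, (hΘ s).mp h1, ?_⟩
    rw [inv_mul_cancel]; exact Subgroup.one_mem _
  · have hzS : z ∈ S := (mem_centralizerIn.mp hz).1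
    obtain ⟨k, hk⟩ := adjust Θ hA hΘ (z := ⟨z, hzS⟩) hzT (Θ (ι s))
    have h1 : Θ (ι (s * (⟨z, hzS⟩ ^ k)⁻¹)) = 1 := by
      rw [map_mul, map_mul, map_inv, map_inv, hk, mul_inv_cancel]
    refine ⟨s * (⟨z, hzS⟩ ^ k)⁻¹, (hΘ _).mp h1, ?_⟩
    have e : (s * ((⟨z, hzS⟩ : S) ^ k)⁻¹)⁻¹ * s = (⟨z, hzS⟩ : S) ^ k := by group
    rw [e]
    exact Subgroup.pow_mem _ (Subgroup.mem_subgroupOf.mpr hz) k

include hA hΘ hS hF hfoc hcent hr in
theorem receptive_step (hTF : ∀ (P : Subgroup Ω) (φ : P →* Ω), φ ∈ F.Hom P → P ≤ T → ∀ x : P, φ x ∈ T)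
    {R : Subgroup Ω} (hR : R ≤ T) (hRc : F.IsFullyCentralized R) :
    (pidx F hTS ι Θ (fun s h => (hΘ s).mpr h) hTF).IsReceptive R := by
  refine ⟨hR, fun P φ hφE hφR => ?_⟩
  obtain ⟨hP, hφ, g, hg, hgφ⟩ := hφE
  obtain ⟨ψ, hψ, hψφ⟩ := (receptive_of_fullyCentralized_sat hS hF hRc).2 P φ hφ hφR
  have hle : extender T P φ ≤ extender S P φ := by
    intro x hx
    obtain ⟨h1, h2, h, h3, h4⟩ := mem_extender.mp hx
    exact mem_extender.mpr ⟨hTS h1, h2, h, hTS h3, h4⟩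
  have hPe : P ≤ extender T P φ := le_extender hP (fun x => hTF P φ hφ hP x)
  obtain ⟨g₁, hg₁⟩ := realize hr (restrict_mem F hψ hle)
  -- comparison on P
  have hc : ∀ x : R, (g₁ * g⁻¹) * ι ⟨x, hTS (hR x.2)⟩ = ι ⟨x, hTS (hR x.2)⟩ * (g₁ * g⁻¹) := by
    intro x
    have h1 : (x : Ω) ∈ φ.range := by rw [hφR]; exact x.2
    obtain ⟨y, hy⟩ := h1
    have h2 := hgφ y (hom_mem F hφ y) (hTS (hP y.2))
    have h3 := hg₁ ⟨y, hPe y.2⟩
    have h4 : (⟨(ψ.comp (Subgroup.inclusion hle)) ⟨y, hPe y.2⟩, hom_mem F (restrict_mem F hψ hle) ⟨y, hPe y.2⟩⟩ : S) = ⟨φ y, hom_mem F hφ y⟩ :=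
      Subtype.ext (hψφ y y.2 (hle (hPe y.2)))
    rw [h4] at h3
    have h5 : (⟨φ y, hom_mem F hφ y⟩ : S) = ⟨x, hTS (hR x.2)⟩ := Subtype.ext hy
    rw [h5] at h2 h3
    have h6 : g * ι ⟨y, hTS (hP y.2)⟩ * g⁻¹ = g₁ * ι ⟨y, hTS (hP y.2)⟩ * g₁⁻¹ := h2.symm.trans h3
    have h7 : ι ⟨y, hTS (hP y.2)⟩ = g⁻¹ * ι ⟨x, hTS (hR x.2)⟩ * g := by rw [h2]; group
    have h8 : ι ⟨x, hTS (hR x.2)⟩ = g₁ * (g⁻¹ * ι ⟨x, hTS (hR x.2)⟩ * g) * g₁⁻¹ := by rw [← h7]; exact h3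
    calc (g₁ * g⁻¹) * ι ⟨x, hTS (hR x.2)⟩ = (g₁ * (g⁻¹ * ι ⟨x, hTS (hR x.2)⟩ * g) * g₁⁻¹) * (g₁ * g⁻¹) := by group
      _ = _ := by rw [← h8]
  rcases dich hS hF hTS Θ hfoc hcent hR hRc with h | ⟨z, hz, hzT⟩
  · have h1 := h _ hc
    rw [map_mul, map_inv, hg, inv_one, mul_one] at h1
    exact ⟨_, ⟨extender_le, restrict_mem F hψ hle, g₁, h1, fun x _ _ => hg₁ x⟩, fun x hxP hxN => hψφ x hxP (hle hxN)⟩
  · have hzS : z ∈ S := (mem_centralizerIn.mp hz).1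
    obtain ⟨k, hk⟩ := adjust Θ hA hΘ (z := ⟨z, hzS⟩) hzT (Θ g₁)⁻¹
    have hm := conj_comp_mem (restrict_mem F hψ hle) (S.pow_mem hzS k)
    refine ⟨_, ⟨extender_le, hm, ι (⟨z, hzS⟩ ^ k) * g₁, by rw [map_mul, hk, inv_mul_cancel], fun x h1 h2 => ?_⟩, fun x hxP hxN => ?_⟩
    · have h3 := hg₁ x
      have h4 : (⟨_, h1⟩ : S) = (⟨z, hzS⟩ ^ k) * ⟨(ψ.comp (Subgroup.inclusion hle)) x, hom_mem F (restrict_mem F hψ hle) x⟩ * (⟨z, hzS⟩ ^ k)⁻¹ :=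
        Subtype.ext rfl
      rw [h4, map_mul, map_mul, map_inv, h3]; group
    · change z ^ k * ψ ⟨x, _⟩ * (z ^ k)⁻¹ = _
      rw [hψφ x hxP (hle hxN)]
      have h3 : φ ⟨x, hxP⟩ ∈ R := by rw [← hφR]; exact ⟨_, rfl⟩
      have h4 := (mem_centralizerIn.mp (Subgroup.pow_mem _ hz k)).2 _ h3
      rw [← h4, mul_inv_cancel_right]

include hS hF hfoc hcent hA hΘ hsur hr in
theorem saturated_step (hTF : ∀ (P : Subgroup Ω) (φ : P →* Ω), φ ∈ F.Hom P → P ≤ T → ∀ x : P, φ x ∈ T) :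
    (pidx F hTS ι Θ (fun s h => (hΘ s).mpr h) hTF).IsSaturated p := by
  set E := pidx F hTS ι Θ (fun s h => (hΘ s).mpr h) hTF with hE
  intro P hP
  obtain ⟨R₀, hPR₀, hR₀⟩ := exists_fullyNormalized (F := F) (hP.trans hTS)
  obtain ⟨φ, hφ, hφR⟩ := hPR₀
  obtain ⟨g₀, hg₀⟩ := realize hr hφ
  obtain ⟨s, hs⟩ := hsur (Θ g₀)⁻¹
  have hm := conj_comp_mem hφ s.2
  set ψ : P →* Ω := (MulAut.conj (s : Ω)).toMonoidHom.comp φ with hψ
  have hψE : ψ ∈ E.Hom P := by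
    refine ⟨hP, hm, ι s * g₀, by rw [map_mul, hs, inv_mul_cancel], fun x h1 h2 => ?_⟩
    have h3 : (⟨ψ x, h1⟩ : S) = s * ⟨φ x, hom_mem F hφ x⟩ * s⁻¹ := Subtype.ext rfl
    rw [h3, map_mul, map_mul, map_inv, hg₀ x]; group
  have hRT : ψ.range ≤ T := by
    rintro _ ⟨x, rfl⟩
    exact hTF _ _ hm hP x
  have hRn : F.IsFullyNormalized ψ.range := by
    have h1 : F.IsConj R₀ ψ.range := isConj_trans (isConj_symm ⟨φ, hφ, hφR⟩) ⟨ψ, hm, rfl⟩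
    refine isFullyNormalized_of_conj_card (isConj_symm h1) hR₀ ?_
    have h2 := normalizer_card_le_of_map (F := F) (P := R₀) (R := normalizerIn S R₀) (F.conj_mem (P := normalizerIn S R₀) (g := s) inf_le_left s.2) (le_normalizerIn hR₀.1) le_rfl
    have h3 : (R₀.subgroupOf (normalizerIn S R₀)).map (conjHom (normalizerIn S R₀) (s : Ω)) = ψ.range := by
      ext y
      constructor
      · rintro ⟨x, hx, rfl⟩
        have h4 : (x : Ω) ∈ φ.range := by rw [hφR]; exact hx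
        obtain ⟨w, hw⟩ := h4
        refine ⟨w, ?_⟩
        change (s : Ω) * φ w * (s : Ω)⁻¹ = s * x * (s : Ω)⁻¹
        rw [hw]
      · rintro ⟨w, rfl⟩
        have h4 : φ w ∈ R₀ := by rw [← hφR]; exact ⟨w, rfl⟩
        exact ⟨⟨φ w, le_normalizerIn hR₀.1 h4⟩, h4, rfl⟩
    rw [h3] at h2
    exact h2
  have hRc := fullyCentralized_of_fullyNormalized_sat hS hF hRn
  refine ⟨ψ.range, ⟨ψ, hψE, rfl⟩, ?_, receptive_step hS hF hTS hr Θ hA hΘ hfoc hcent hTF hRT hRc⟩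
  set R := ψ.range with hR
  haveI := finite_of_le hRn.1
  haveI := finite_autGroup (S := S) hRn.1
  have hmemE : ∀ α : MulAut R, α ∈ E.autGroup R ↔ ∃ g : G, Θ g = 1 ∧ α ∈ F.autGroup R ∧ ∀ x : R, ι ⟨α x, hRn.1 (α x).2⟩ = g * ι ⟨x, hRn.1 x.2⟩ * g⁻¹ := by
    intro α
    rw [mem_autGroup E hRT, mem_autGroup F hRn.1]
    constructor
    · rintro ⟨-, h1, g, hg, h2⟩
      exact ⟨g, hg, h1, fun x => h2 x _ _⟩
    · rintro ⟨g, hg, h1, h2⟩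
      exact ⟨hRT, h1, g, hg, fun x _ _ => h2 x⟩
  rw [fullyAutomized_iff_isSylowIn hRT]
  have hsyl := isSylowIn_autInducedBy (fullyAutomized_of_fullyNormalized_sat hS hF hRn)
  have key := isSylowIn_inf_normal hsyl (N := E.autGroup R) (fun α hα => ((hmemE α).mp hα).choose_spec.2.1) (by
    intro β hβ α hα
    obtain ⟨g, hg, hαF, hgα⟩ := (hmemE α).mp hα
    obtain ⟨k, hk⟩ := realize hr ((mem_autGroup F hRn.1).mp hβ)
    rw [hmemE]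
    refine ⟨k * g * k⁻¹, by rw [map_mul, map_mul, map_inv, hg, mul_one, mul_inv_cancel], ?_, fun x => ?_⟩
    · exact (F.autGroup R).mul_mem ((F.autGroup R).mul_mem hβ hαF) ((F.autGroup R).inv_mem hβ)
    · have h1 : ∀ y : R, ι ⟨(β y : R), hRn.1 (β y).2⟩ = k * ι ⟨y, hRn.1 y.2⟩ * k⁻¹ := fun y => hk y
      have h2 : ι ⟨(β⁻¹ x : R), hRn.1 (β⁻¹ x).2⟩ = k⁻¹ * ι ⟨x, hRn.1 x.2⟩ * k := by
        have h3 := h1 (β⁻¹ x)
        have h4 : β (β⁻¹ x) = x := MulAut.apply_inv_self _ _ _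
        rw [h4] at h3
        rw [h3]; group
      change ι ⟨(β (α (β⁻¹ x)) : R), _⟩ = _
      rw [h1, hgα, h2]; group)
  have hinf : autInducedBy S R ⊓ E.autGroup R = autInducedBy T R := by
    ext α
    rw [Subgroup.mem_inf, mem_autInducedBy, mem_autInducedBy, hmemE]
    constructor
    · rintro ⟨⟨s', hs', hs'α⟩, g, hg, -, hgα⟩
      obtain ⟨t, ht, hts⟩ := act_T hS hF hTS Θ hA hΘ hfoc hcent hRT hRc (s := ⟨s', hs'⟩) (g := g) hg (fun x => by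
        rw [← hgα x, ← map_mul, ← map_inv, ← map_mul]
        congr 1
        exact Subtype.ext (hs'α x).symm)
      refine ⟨t, ht, fun x => ?_⟩
      rw [hs'α x]
      have h1 := (mem_centralizerIn.mp (Subgroup.mem_subgroupOf.mp hts)).2 x x.2
      have h2 : (x : Ω) * ((t : Ω)⁻¹ * s') = (t : Ω)⁻¹ * s' * x := h1
      have h3 : s' * (x : Ω) * s'⁻¹ = t * ((t : Ω)⁻¹ * s' * x) * s'⁻¹ := by group
      rw [h3, ← h2]; group
    · rintro ⟨t, ht, htα⟩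
      refine ⟨⟨t, hTS ht, htα⟩, ι ⟨t, hTS ht⟩, (hΘ _).mpr ht, ?_, fun x => ?_⟩
      · exact autInducedBy_le_autGroup F hRn.1 (mem_autInducedBy.mpr ⟨t, hTS ht, htα⟩)
      · rw [← map_mul, ← map_inv, ← map_mul]
        congr 1
        exact Subtype.ext (htα x)
  rw [hinf] at key
  exact key

include hA hr in
theorem pres_step (hTF : ∀ (P : Subgroup Ω) (φ : P →* Ω), φ ∈ F.Hom P → P ≤ T → ∀ x : P, φ x ∈ T)
    (hΘ' : ∀ s : S, (s : Ω) ∈ T → Θ (ι s) = 1) {P : Subgroup Ω} (hP : P ≤ T) :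
    (pResidual p (F.autGroup P)).map (F.autGroup P).subtype ≤ (pidx F hTS ι Θ hΘ' hTF).autGroup P := by
  rw [pResidual, MonoidHom.map_closure, Subgroup.closure_le]
  rintro _ ⟨α, hα, rfl⟩
  have hα' : (orderOf α).Coprime p := hα
  obtain ⟨k, hk⟩ : ∃ k : ℕ, α ^ (k * p) = α := by
    haveI := finite_of_le (hP.trans hTS)
    haveI := finite_autGroup (S := S) (hP.trans hTS)
    obtain ⟨m, hm⟩ := exists_pow_eq_self_of_coprime (n := p) (x := α) hα'.symm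
    refine ⟨m, ?_⟩
    rw [mul_comm, pow_mul]; exact hm
  obtain ⟨g, hg⟩ := realize hr ((mem_autGroup F (hP.trans hTS)).mp α.2)
  have hpow : ∀ (n : ℕ) (x : P), ι ⟨(((α : MulAut P) ^ n) x : P), hTS (hP (((α : MulAut P) ^ n) x).2)⟩ = g ^ n * ι ⟨x, hTS (hP x.2)⟩ * (g ^ n)⁻¹ := by
    intro n
    induction n with
    | zero => intro x; simp
    | succ n ih =>
      intro x
      have h1 : ((α : MulAut P) ^ (n + 1)) x = (α : MulAut P) (((α : MulAut P) ^ n) x) := by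
        rw [pow_succ']; rfl
      have h2 := hg (((α : MulAut P) ^ n) x)
      have h3 : (⟨(((α : MulAut P) ^ (n + 1)) x : P), hTS (hP (((α : MulAut P) ^ (n + 1)) x).2)⟩ : S) =
          ⟨((α : MulAut P) (((α : MulAut P) ^ n) x) : P), hTS (hP ((α : MulAut P) (((α : MulAut P) ^ n) x)).2)⟩ := by
        apply Subtype.ext; change ((_ : P) : Ω) = _; rw [h1]
      rw [h3]
      have h4 : ι ⟨((α : MulAut P) (((α : MulAut P) ^ n) x) : P), hTS (hP ((α : MulAut P) (((α : MulAut P) ^ n) x)).2)⟩ = g * ι ⟨(((α : MulAut P) ^ n) x : P), hTS (hP (((α : MulAut P) ^ n) x).2)⟩ * g⁻¹ := h2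
      rw [h4, ih x, pow_succ']; group
  refine mem_autGroup_of_iso _ ?_
  refine ⟨hP, (mem_autGroup F (hP.trans hTS)).mp α.2, g ^ (k * p), ?_, fun x h1 h2 => ?_⟩
  · rw [map_pow, pow_mul]
    have h5 : ∀ a : A, a ^ p = 1 := fun a => by rw [← hA]; exact pow_card_eq_one'
    exact h5 _
  · have h3 := hpow (k * p) x
    have h4 : ((α : MulAut P) ^ (k * p)) = (α : MulAut P) := by
      have := congrArg (Subtype.val) hk
      simpa using this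
    rw [h4] at h3
    exact h3

end Main

end Step

end Cfsg.Agent.L0.Fus
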