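import Cfsg.Agent.L0.Fus.PIdx3
import Cfsg.Agent.L0.Fus.Bis13
import Cfsg.Agent.L0.Fus.Hyp
set_option autoImplicit false
/-! Existence of the saturated subsystem of `p`-power index over a subgroup containing the hyperfocal subgroup. -/

open Pointwise
open scoped commutatorElement

namespace Cfsg.Agent.L0.Fus

open Cfsg.Agent.L0 Cfsg.FusionSystem

universe u v w

variable {Ω : Type u} [Group Ω] {S : Subgroup Ω} {F : FusionSystem S} [Finite S] {p : ℕ} [Fact p.Prime]

theorem exists_quot_hom' {N : Subgroup Ω} (hN1 : ⁅S, S⁆ ≤ N) (hNS : N ≤ S) :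
    ∃ (A : Type u) (_ : CommGroup A) (L : Ω → A), (∀ x ∈ S, ∀ y ∈ S, L (x * y) = L x * L y) ∧
      (∀ x ∈ S, L x = 1 ↔ x ∈ N) ∧ (∀ a : A, ∃ s ∈ S, L s = a) ∧ Nat.card A = (N.subgroupOf S).index := by
  classical
  have hn : (N.subgroupOf S).Normal := by
    refine Subgroup.normal_subgroupOf_of_le_normalizer ?_
    haveI : Finite N := finite_of_le hNS
    intro s hs
    refine mem_normalizer_of_finite fun x hx => ?_
    have h1 := hN1 (Subgroup.commutator_mem_commutator hs (hNS hx))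
    have h2 := N.mul_mem h1 hx
    rw [commutatorElement_def] at h2
    simpa [mul_assoc] using h2
  let A := S ⧸ N.subgroupOf S
  letI : CommGroup A :=
    { (inferInstance : Group (S ⧸ N.subgroupOf S)) with
      mul_comm := by
        intro a b
        obtain ⟨x, rfl⟩ := QuotientGroup.mk_surjective a
        obtain ⟨y, rfl⟩ := QuotientGroup.mk_surjective b
        rw [← QuotientGroup.mk_mul, ← QuotientGroup.mk_mul, QuotientGroup.eq, Subgroup.mem_subgroupOf]
        have h1 := hN1 (Subgroup.commutator_mem_commutator (S.inv_mem y.2) (S.inv_mem x.2))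
        rw [commutatorElement_def] at h1
        have e : (((x * y)⁻¹ * (y * x) : S) : Ω) = (y : Ω)⁻¹ * (x : Ω)⁻¹ * ((y : Ω)⁻¹)⁻¹ * ((x : Ω)⁻¹)⁻¹ := by
          simp [mul_assoc]
        rw [e]; exact h1 }
  have hL : ∀ x : S, (QuotientGroup.mk x : A) = 1 ↔ (x : Ω) ∈ N := fun x => by
    rw [QuotientGroup.eq_one_iff, Subgroup.mem_subgroupOf]
  refine ⟨A, inferInstance, fun x => if h : x ∈ S then (QuotientGroup.mk (⟨x, h⟩ : S) : A) else 1, ?_, ?_, ?_, ?_⟩
  · intro x hx y hy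
    beta_reduce
    rw [dif_pos hx, dif_pos hy, dif_pos (S.mul_mem hx hy)]
    rfl
  · intro x hx
    beta_reduce
    rw [dif_pos hx]
    exact hL ⟨x, hx⟩
  · intro a
    obtain ⟨x, rfl⟩ := QuotientGroup.mk_surjective a
    refine ⟨x, x.2, ?_⟩
    beta_reduce
    rw [dif_pos x.2]
  · exact (Subgroup.index_eq_card _).symm

theorem mrk_diag_pos (hS : IsPGroup p S) {X : Type u} [MulAction (S × S) X] [Finite X] (hX : FSet F X) (hst : StableAt F X 0)
    {m : ℕ} (hm : Nat.card X = m * Nat.card S) (hmp : m.Coprime p) : 0 < mrk (gdiag S S S.subtype S.subtype) X := by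
  have h1 : Nat.card (RQ S X) = m := by
    have h2 := card_RQ hX
    rw [hm] at h2
    exact (Nat.eq_of_mul_eq_mul_right Nat.card_pos h2).symm
  haveI : Fintype (RQ S X) := Fintype.ofFinite _
  have h2 : ¬ p ∣ Nat.card (RQ S X) := by
    rw [h1]
    intro h
    exact (Fact.out : p.Prime).one_lt.ne' (Nat.eq_one_of_dvd_coprimes hmp h dvd_rfl)
  obtain ⟨y, hy⟩ := hS.nonempty_fixed_point_of_prime_not_dvd_card (α := RQ S X) h2
  obtain ⟨r, hr⟩ : ∃ r : RQ S X → X, ∀ y, Quotient.mk (rset S X) (r y) = y := ⟨Quotient.out, fun y => Quotient.out_eq y⟩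
  obtain ⟨ψ, hψ, hψc⟩ := hom_of_fixed hX hr (C := S) le_rfl (y := y) (fun u => hy u)
  rw [← hst S S.subtype ψ (subtype_mem F le_rfl) hψ (Nat.zero_le _), mrk]
  have : Nonempty (fxp (gdiag S S S.subtype ψ) X) := by
    refine ⟨⟨r y, ?_⟩⟩
    rintro ⟨a, b⟩ ⟨u, hu1, hu2⟩
    have ha : a = u := Subtype.ext hu1.symm
    have hb : b = coc hr u y := Subtype.ext (hu2.symm.trans (hψc u))
    rw [ha, hb]
    have h3 := coc_spec hr u y
    rw [h3]
    have h4 : lact u y = y := hy u
    rw [h4]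
  exact Nat.card_pos

theorem index_step (hS : IsPGroup p S) (hF : F.IsSaturated p) {T : Subgroup Ω} (hTS : T ≤ S) (hidx : (T.subgroupOf S).index = p)
    (hfoc : F.focalSubgroup ≤ T) : ∃ E : FusionSystem T, E.IsSaturated p ∧ E.HasPPowerIndexIn F p := by
  obtain ⟨A, _, L, hL, hLT, hLs, hcard⟩ := exists_quot_hom' (S := S) (comm_le_focal.trans hfoc) hTS
  rw [hidx] at hcard
  obtain ⟨X, _, _, hX, hst, m, hm, hmp⟩ := exists_biset hS hF
  obtain ⟨r, hr⟩ : ∃ r : RQ S X → X, ∀ y, Quotient.mk (rset S X) (r y) = y := ⟨Quotient.out, fun y => Quotient.out_eq y⟩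
  haveI : Fintype (RQ S X) := Fintype.ofFinite _
  have hcR : Nat.card (RQ S X) = m := by
    have h2 := card_RQ hX
    rw [hm] at h2
    exact (Nat.eq_of_mul_eq_mul_right Nat.card_pos h2).symm
  have hreal := realized hX hst (mrk_diag_pos hS hX hst hm hmp)
  have hL1 : L 1 = 1 := (hLT 1 S.one_mem).mpr T.one_mem
  have hLF : ∀ (P : Subgroup Ω) (φ : P →* Ω), φ ∈ F.Hom P → ∀ x : P, L (φ x) = L x := by
    intro P φ hφ x
    have h1 : (x : Ω)⁻¹ * φ x ∈ T := hfoc (Subgroup.subset_closure ⟨P, φ, x, hφ, rfl⟩)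
    have h2 : φ x = (x : Ω) * ((x : Ω)⁻¹ * φ x) := by group
    rw [h2, hL _ (hom_le F hφ x.2) _ (hTS h1), (hLT _ (hTS h1)).mpr h1, mul_one]
  have hA : ∀ a : A, a ^ p = 1 := fun a => by rw [← hcard]; exact pow_card_eq_one'
  let Θ := bigT hr hX L hL
  have hval : ∀ s : S, Θ (rInc S X s) = L s ^ m := fun s => by rw [← hcR]; exact bigT_rInc hr hX L hL hLF s
  have hpm : ∀ a : A, a ^ m = 1 → a = 1 := fun a ha => pow_coprime_eq_one (p := p) (k := 1) hmp ha (by rw [pow_one]; exact hA a)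
  have hΘ : ∀ s : S, Θ (rInc S X s) = 1 ↔ (s : Ω) ∈ T := by
    intro s
    rw [hval, ← hLT s s.2]
    exact ⟨hpm _, fun h => by rw [h, one_pow]⟩
  have hsur : ∀ a : A, ∃ s : S, Θ (rInc S X s) = a := by
    intro a
    haveI : Finite A := Nat.finite_of_card_ne_zero (by rw [hcard]; exact (Fact.out : p.Prime).ne_zero)
    have h1 : (Nat.card A).Coprime m := by rw [hcard]; exact hmp.symm
    obtain ⟨b, hb⟩ := (powCoprime h1).surjective a
    obtain ⟨s, hs, hsb⟩ := hLs b
    refine ⟨⟨s, hs⟩, ?_⟩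
    rw [hval]
    change L s ^ m = a
    rw [hsb]; exact hb
  have hcent : ∀ P : Subgroup Ω, ∀ hP : P ≤ T, (∀ φ ∈ F.Hom P, centralizerIn S φ.range ≤ T) → ∀ g : rAut S X,
      (∀ x : P, g * rInc S X ⟨x, hTS (hP x.2)⟩ = rInc S X ⟨x, hTS (hP x.2)⟩ * g) → Θ g = 1 := by
    intro P hP hc g hg
    refine bigT_centralizer hr hS hX L hL hLF hA (P := P) (hP.trans hTS) (fun x hx => (hLT x (hTS (hP hx))).mpr (hP hx)) ?_ hg
    intro φ hφ x hx
    exact (hLT x (mem_centralizerIn.mp hx).1).mpr (hc φ hφ hx)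
  have hTF : ∀ (P : Subgroup Ω) (φ : P →* Ω), φ ∈ F.Hom P → P ≤ T → ∀ x : P, φ x ∈ T := fun P φ hφ hP x => foc_T hfoc P φ hφ hP x
  refine ⟨pidx F hTS (rInc S X) Θ (fun s h => (hΘ s).mpr h) hTF, saturated_step hS hF hTS hreal Θ hcard hΘ hsur hfoc hcent hTF, ?_, ?_, ?_⟩
  · intro P φ hφ
    exact hφ.2.1
  · refine le_trans ?_ hfoc
    rw [focal_eq hS hF]; exact le_sup_left
  · intro P hP
    exact pres_step hTS hreal Θ hcard hTF (fun s h => (hΘ s).mpr h) hP

theorem hyp_mono {T : Subgroup Ω} {E : FusionSystem T} (h : E.IsSubsystemOf F) :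
    E.hyperfocalSubgroup p ≤ F.hyperfocalSubgroup p := by
  conv_lhs => unfold FusionSystem.hyperfocalSubgroup
  rw [Subgroup.closure_le]
  rintro _ ⟨P, α, x, hP, hα, rfl⟩
  have hPS : P ≤ S := hom_le F (h P (subtype_mem E hP))
  haveI := finite_of_le hPS
  haveI := finite_autGroup (S := S) hPS
  have hle : E.autGroup P ≤ F.autGroup P := by
    intro β hβ
    exact mem_autGroup_of_iso F (h P ((mem_autGroup E hP).mp hβ))
  exact mem_hyperfocal F (α := Subgroup.inclusion hle α) hPS (pResidual_map_le (Subgroup.inclusion hle) ⟨α, hα, rfl⟩) x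

theorem pPowerIndex_trans (hS : IsPGroup p S) {M T : Subgroup Ω} {F₁ : FusionSystem M} {E : FusionSystem T} (hMS : M ≤ S)
    (h1 : F₁.HasPPowerIndexIn F p) (h2 : E.HasPPowerIndexIn F₁ p) (hT : F.hyperfocalSubgroup p ≤ T) (hTM : T ≤ M) :
    E.HasPPowerIndexIn F p := by
  refine ⟨fun P φ hφ => h1.1 P (h2.1 P hφ), hT, fun P hP => ?_⟩
  refine le_trans ?_ (h2.2.2 P hP)
  have hPM := hP.trans hTM
  rw [pResidual, MonoidHom.map_closure, Subgroup.closure_le]
  rintro _ ⟨α, hα, rfl⟩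
  have h3 : (α : MulAut P) ∈ F₁.autGroup P := h1.2.2 P hPM ⟨α, Subgroup.subset_closure hα, rfl⟩
  refine ⟨⟨α, h3⟩, Subgroup.subset_closure ?_, rfl⟩
  have h4 : orderOf (⟨(α : MulAut P), h3⟩ : F₁.autGroup P) = orderOf α := by
    rw [← Subgroup.orderOf_coe, ← Subgroup.orderOf_coe]
  change (orderOf (⟨(α : MulAut P), h3⟩ : F₁.autGroup P)).Coprime p
  rw [h4]; exact hα

theorem exists_pPowerIndex : ∀ (n : ℕ) (S : Subgroup Ω) [Finite S] (F : FusionSystem S), Nat.card S = n → IsPGroup p S → F.IsSaturated p →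
    ∀ T : Subgroup Ω, T ≤ S → F.hyperfocalSubgroup p ≤ T → ∃ E : FusionSystem T, E.IsSaturated p ∧ E.HasPPowerIndexIn F p := by
  intro n
  induction n using Nat.strong_induction_on with
  | _ n ih =>
    intro S _ F hn hS hF T hTS hT
    rcases eq_or_lt_of_le hTS with rfl | hlt
    · exact ⟨F, hF, fun P => subset_rfl, hT, fun P hP => Subgroup.map_subtype_le _⟩
    · -- a maximal subgroup
      have hT' : T.subgroupOf S ≠ ⊤ := by
        intro h
        rw [Subgroup.subgroupOf_eq_top] at h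
        exact absurd h (not_le_of_gt hlt)
      obtain ⟨M', hM', hTM'⟩ := (eq_top_or_exists_le_coatom (T.subgroupOf S)).resolve_left hT'
      haveI := hS.isNilpotent
      have hMn : M'.Normal := Subgroup.NormalizerCondition.normal_of_coatom M' Group.normalizerCondition_of_isNilpotent hM'
      have hMi : M'.index = p := by
        have h1 := H1.index_of_isCoatom_pgroup hS hM'
        rw [Subgroup.index_eq_card]; exact h1
      obtain ⟨M, hM⟩ : ∃ M : Subgroup Ω, M = M'.map S.subtype := ⟨_, rfl⟩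
      have hMS : M ≤ S := by rw [hM]; exact Subgroup.map_subtype_le _
      have hMM : M.subgroupOf S = M' := by
        rw [hM, Subgroup.subgroupOf, Subgroup.comap_map_eq_self_of_injective S.subtype_injective]
      have hTM : T ≤ M := by
        rw [hM]
        intro x hx
        exact ⟨⟨x, hTS hx⟩, hTM' hx, rfl⟩
      have hfoc : F.focalSubgroup ≤ M := by
        rw [focal_eq hS hF]
        refine sup_le (hT.trans hTM) ((comm_le_frattini hS).trans ?_)
        rw [hM]
        exact Subgroup.map_mono (frattini_le_coatom hM')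
      obtain ⟨F₁, hF₁, hF₁i⟩ := index_step hS hF hMS (by rw [hMM]; exact hMi) hfoc
      haveI := finite_of_le hMS
      obtain ⟨E, hE, hEi⟩ := ih (Nat.card M) (by
        rw [← hn]
        have h1 := Subgroup.card_mul_index (M.subgroupOf S)
        rw [hMM, hMi, ← hMM, card_subgroupOf_of_le hMS] at h1
        rw [← h1]
        exact lt_mul_right Nat.card_pos (Fact.out : p.Prime).one_lt) M F₁ rfl (hS.to_le hMS) hF₁ T hTM (le_trans (hyp_mono hF₁i.1) hT)
      exact ⟨E, hE, pPowerIndex_trans hS hMS hF₁i hEi hT hTM⟩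

end Cfsg.Agent.L0.Fus
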