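import Cfsg.Agent.L0.Fus.PIdx4
import Cfsg.Agent.L0.Fus.Trans
import Cfsg.Agent.L0.Fus.Bis11
set_option autoImplicit false
/-! Normality of the subsystem of `p`-power index. -/

open Pointwise
open scoped commutatorElement

namespace Cfsg.Agent.L0.Fus

open Cfsg.Agent.L0 Cfsg.FusionSystem

universe u v w

section Tr
variable {Ω : Type*} [Group Ω] {S : Subgroup Ω} {Ω' : Type*} [Group Ω'] {S' : Subgroup Ω'}

/-- the transported fusion system. -/
def trSystem (F : FusionSystem S) (e : S ≃* S') : FusionSystem S' where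
  Hom P' := {φ' | ∃ (P : Subgroup Ω) (φ : P →* Ω) (hφ : φ ∈ F.Hom P), P' = img e P ∧
     ∀ (x : S) (hx : (x : Ω) ∈ P) (hx' : (e x : Ω') ∈ P'), φ' ⟨e x, hx'⟩ = e ⟨φ ⟨x, hx⟩, hom_mem F hφ _⟩}
  le_of_mem := by
    rintro P' φ' ⟨P, φ, hφ, rfl, h⟩
    refine ⟨img_le, ?_⟩
    rintro ⟨_, x, hx, rfl⟩
    have := h x hx ⟨x, hx, rfl⟩
    change φ' ⟨e x, _⟩ ∈ S'
    rw [this]
    exact (e _).2
  injective_of_mem := by
    rintro P' φ' ⟨P, φ, hφ, rfl, h⟩
    rintro ⟨_, x, hx, rfl⟩ ⟨_, y, hy, rfl⟩ hxy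
    have h1 := h x hx ⟨x, hx, rfl⟩
    have h2 := h y hy ⟨y, hy, rfl⟩
    change φ' ⟨e x, _⟩ = φ' ⟨e y, _⟩ at hxy
    rw [h1, h2] at hxy
    have h3 := congrArg Subtype.val (e.injective (Subtype.ext hxy))
    have h4 := F.injective_of_mem hφ h3
    have h5 : x = y := Subtype.ext (congrArg (fun z : P => (z : Ω)) h4)
    subst h5
    rfl
  conj_mem := by
    intro P' g' hP' hg'
    refine ⟨img e.symm P', _, F.conj_mem (P := img e.symm P') (g := (e.symm ⟨g', hg'⟩ : S)) img_le (e.symm ⟨g', hg'⟩).2, (img_img_symm hP').symm, fun x hx hx' => ?_⟩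
    have h1 : (⟨(conjHom (img e.symm P') ((e.symm ⟨g', hg'⟩ : S) : Ω)) ⟨x, hx⟩, hom_mem F (F.conj_mem (P := img e.symm P') (g := (e.symm ⟨g', hg'⟩ : S)) img_le (e.symm ⟨g', hg'⟩).2) _⟩ : S) =
      e.symm ⟨g', hg'⟩ * x * (e.symm ⟨g', hg'⟩)⁻¹ := Subtype.ext rfl
    rw [h1, map_mul, map_mul, map_inv, e.apply_symm_apply]
    rfl
  comp_mem := by
    rintro P' Q' φ' ψ' ⟨P, φ, hφ, rfl, h⟩ ⟨Q, ψ, hψ, rfl, k⟩ hQ
    have hq : ∀ x : P, φ x ∈ Q := by
      intro x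
      have h1 := h ⟨x, hom_le F hφ x.2⟩ x.2 ⟨_, x.2, rfl⟩
      have h2 := hQ ⟨_, ⟨⟨x, hom_le F hφ x.2⟩, x.2, rfl⟩⟩
      change φ' ⟨e _, _⟩ ∈ _ at h2
      rw [h1] at h2
      exact mem_img_coe.mp h2
    refine ⟨P, _, F.comp_mem hφ hψ hq, rfl, fun x hx hx' => ?_⟩
    have h1 := h x hx hx'
    have h2 := k ⟨φ ⟨x, hx⟩, hom_mem F hφ _⟩ (hq _) (mem_img_coe.mpr (hq _))
    change ψ' ⟨φ' ⟨e x, hx'⟩, _⟩ = _
    have h3 : (⟨φ' ⟨e x, hx'⟩, hQ _⟩ : img e Q) = ⟨e ⟨φ ⟨x, hx⟩, hom_mem F hφ _⟩, mem_img_coe.mpr (hq _)⟩ := Subtype.ext h1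
    rw [h3, h2]
    rfl
  inv_mem := by
    rintro P' φ' ⟨P, φ, hφ, rfl, h⟩
    obtain ⟨ψ, hψ, hψφ⟩ := F.inv_mem hφ
    have hr : φ'.range = img e φ.range := by
      ext y
      constructor
      · rintro ⟨⟨_, x, hx, rfl⟩, rfl⟩
        have := h x hx ⟨x, hx, rfl⟩
        change φ' ⟨e x, _⟩ ∈ _
        rw [this]
        exact mem_img_coe.mpr ⟨_, rfl⟩
      · rintro ⟨x, hx, rfl⟩
        obtain ⟨w, hw⟩ := hx
        refine ⟨⟨e ⟨w, hom_le F hφ w.2⟩, mem_img_coe.mpr w.2⟩, ?_⟩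
        rw [h ⟨w, hom_le F hφ w.2⟩ w.2 (mem_img_coe.mpr w.2)]
        change _ = (e x : Ω')
        congr 2
        exact Subtype.ext hw
    obtain ⟨ψ', hψ'⟩ : ∃ ψ' : φ'.range →* Ω', ∀ (x : S) (hx : (x : Ω) ∈ φ.range) (hx' : (e x : Ω') ∈ φ'.range), ψ' ⟨e x, hx'⟩ = e ⟨ψ ⟨x, hx⟩, hom_mem F hψ _⟩ := by
      rw [hr]
      exact ⟨homT e (range_le F hφ) ψ (hom_mem F hψ), fun x hx hx' => homT_apply e (range_le F hφ) ψ (hom_mem F hψ) ⟨x, hx⟩⟩
    refine ⟨ψ', ⟨φ.range, ψ, hψ, hr, hψ'⟩, ?_⟩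
    rintro ⟨_, x, hx, rfl⟩
    have h1 := h x hx ⟨x, hx, rfl⟩
    have h2 : (e ⟨φ ⟨x, hx⟩, hom_mem F hφ _⟩ : Ω') ∈ φ'.range := by rw [hr]; exact mem_img_coe.mpr ⟨_, rfl⟩
    have h3 : (⟨φ' ⟨e x, ⟨x, hx, rfl⟩⟩, ⟨_, rfl⟩⟩ : φ'.range) = ⟨e ⟨φ ⟨x, hx⟩, hom_mem F hφ _⟩, h2⟩ := Subtype.ext h1
    change ψ' ⟨φ' ⟨e x, ⟨x, hx, rfl⟩⟩, ⟨_, rfl⟩⟩ = (e x : Ω')
    rw [h3, hψ' ⟨φ ⟨x, hx⟩, hom_mem F hφ _⟩ ⟨_, rfl⟩ h2]
    congr 2
    exact Subtype.ext (hψφ ⟨x, hx⟩)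

theorem fIso_tr (F : FusionSystem S) (e : S ≃* S') : FIso F (trSystem F e) e := by
  intro P hP φ hφ
  constructor
  · intro h
    exact ⟨P, φ, h, rfl, fun x hx hx' => homT_apply e hP φ hφ ⟨x, hx⟩⟩
  · rintro ⟨P₁, φ₁, hφ₁, hP₁, h⟩
    have hPP : P = P₁ := by
      rw [← img_symm_img (e := e) hP, hP₁, img_symm_img (hom_le F hφ₁)]
    subst hPP
    have : φ = φ₁ := by
      ext x
      have h1 := h ⟨x, hP x.2⟩ x.2 (mem_img_coe.mpr x.2)
      have h2 := homT_apply e hP φ hφ x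
      have h3 : (e ⟨φ x, hφ x⟩ : Ω') = e ⟨φ₁ x, hom_mem F hφ₁ x⟩ := h2.symm.trans h1
      exact congrArg Subtype.val (e.injective (Subtype.ext h3))
    rw [this]; exact hφ₁

end Tr

variable {Ω : Type u} [Group Ω] {S : Subgroup Ω} {F : FusionSystem S} [Finite S] {p : ℕ} [Fact p.Prime]

/-- transport of a subsystem of `p`-power index by an automorphism in `F`. -/
theorem tr_pPowerIndex {T : Subgroup Ω} {E : FusionSystem T} (hE : E.HasPPowerIndexIn F p) {e : T ≃* T} (he : Iso F T T e) :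
    (trSystem E e).HasPPowerIndexIn F p := by
  have hTS : T ≤ S := he.le_left
  have hI : ∀ {P : Subgroup Ω} (hP : P ≤ T), Iso F P (img e P) (imgE e hP) := fun {P} hP =>
    mem_of_agree F he hP (fun x => rfl)
  refine ⟨?_, hE.2.1, ?_⟩
  · rintro P' φ' ⟨P, φ, hφ, rfl, h⟩
    have hPT := hom_le E hφ
    have h1 := comp_agree (hI hPT).symm (hE.1 P hφ) (fun x => ((imgE e hPT).symm x).2)
    obtain ⟨χ, hχ, hχe⟩ := h1
    have hχT : ∀ x, χ x ∈ T := fun x => by rw [hχe]; exact hom_mem E hφ _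
    obtain ⟨θ, hθ, hθe⟩ := comp_agree hχ he hχT
    have : φ' = θ := by
      apply MonoidHom.ext
      rintro ⟨_, x, hx, rfl⟩
      have h2 := h x hx ⟨x, hx, rfl⟩
      change φ' ⟨e x, _⟩ = _
      rw [h2, hθe]
      change (e _ : Ω) = e _
      congr 2
      apply Subtype.ext
      change φ _ = χ _
      rw [hχe]
      have h3 : (⟨((imgE e hPT).symm ⟨(e x : Ω), ⟨x, hx, rfl⟩⟩ : P), ((imgE e hPT).symm ⟨(e x : Ω), ⟨x, hx, rfl⟩⟩).2⟩ : P) = ⟨x, hx⟩ := by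
        have h4 := (imgE e hPT).symm_apply_apply ⟨x, hx⟩
        exact h4
      exact congrArg φ h3.symm
    rw [this]; exact hθ
  · intro P' hP'
    obtain ⟨P, hP⟩ : ∃ P : Subgroup Ω, P = img e.symm P' := ⟨_, rfl⟩
    have hPT : P ≤ T := by rw [hP]; exact img_le
    have hP'P : P' = img e P := by rw [hP, img_img_symm hP']
    subst hP'P
    rw [(fIso_tr E e).autGroup_eq hPT]
    rw [pResidual, MonoidHom.map_closure, Subgroup.closure_le]
    rintro _ ⟨α, hα, rfl⟩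
    have h1 : (autCongr (imgE e hPT)).symm (α : MulAut (img e P)) ∈ F.autGroup P := by
      rw [autCongr_symm]
      exact autCongr_mem (hI hPT).symm α.2
    have h2 : (autCongr (imgE e hPT)).symm (α : MulAut (img e P)) ∈ E.autGroup P := by
      refine hE.2.2 P hPT ⟨⟨_, h1⟩, Subgroup.subset_closure ?_, rfl⟩
      change (orderOf _).Coprime p
      rw [← Subgroup.orderOf_coe]
      change (orderOf ((autCongr (imgE e hPT)).symm (α : MulAut (img e P)))).Coprime p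
      rw [MulEquiv.orderOf_eq, Subgroup.orderOf_coe]
      exact hα
    exact ⟨_, h2, (autCongr (imgE e hPT)).apply_symm_apply _⟩

theorem fIso_self (hS : IsPGroup p S) {T : Subgroup Ω} {E : FusionSystem T} (hEs : E.IsSaturated p)
    (hE : E.HasPPowerIndexIn F p) {e : T ≃* T} (he : Iso F T T e) : FIso E E e := by
  haveI := finite_of_le he.le_left
  have h1 := (fIso_tr E e).saturated hEs
  have h2 := pPowerIndex_unique hS h1 hEs (tr_pPowerIndex hE he) hE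
  have h3 := fIso_tr E e
  rw [h2] at h3
  exact h3

/-- restriction of an automorphism to an invariant subgroup. -/
theorem exists_res_inf {R D : Subgroup Ω} (hRS : R ≤ S) (hDR : D ≤ R) {α : MulAut R} (hα : Iso F R R α)
    (hD : ∀ x : R, (x : Ω) ∈ D → ((α x : R) : Ω) ∈ D) :
    ∃ β : MulAut D, Iso F D D β ∧ (∀ x : D, ((β x : D) : Ω) = (α ⟨x, hDR x.2⟩ : R)) ∧ orderOf β ∣ orderOf α := by
  haveI := finite_of_le (hDR.trans hRS)
  let f : D →* D := (MonoidHom.codRestrict (R.subtype.comp (α.toMonoidHom.comp (Subgroup.inclusion hDR))) D (fun x => hD _ x.2))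
  have hf : Function.Injective f := by
    intro x y hxy
    have h1 := congrArg Subtype.val hxy
    have h2 : α (Subgroup.inclusion hDR x) = α (Subgroup.inclusion hDR y) := Subtype.ext h1
    have h3 := α.injective h2
    exact Subtype.ext (congrArg (fun z : R => (z : Ω)) h3)
  let β : MulAut D := MulEquiv.ofBijective f (Finite.injective_iff_bijective.mp hf)
  have hβ : ∀ x : D, ((β x : D) : Ω) = (α ⟨x, hDR x.2⟩ : R) := fun x => rfl
  refine ⟨β, mem_of_agree F hα hDR (fun x => rfl), hβ, ?_⟩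
  apply orderOf_dvd_of_pow_eq_one
  have hpow : ∀ (n : ℕ) (x : D), (((β ^ n) x : D) : Ω) = ((α ^ n) ⟨x, hDR x.2⟩ : R) := by
    intro n
    induction n with
    | zero => intro x; rfl
    | succ n ih =>
      intro x
      rw [pow_succ', pow_succ']
      change ((β ((β ^ n) x) : D) : Ω) = (α ((α ^ n) _) : R)
      rw [hβ]
      congr 2
      exact Subtype.ext (ih x)
  ext x
  rw [hpow, pow_orderOf_eq_one]
  rfl

theorem inv_conj (hS : IsPGroup p S) {T : Subgroup Ω} {E : FusionSystem T} (hTS : T ≤ S) (hTn : S ≤ Subgroup.normalizer (T : Set Ω))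
    (hEs : E.IsSaturated p) (hE : E.HasPPowerIndexIn F p) {s : Ω} (hs : s ∈ S) {P : Subgroup Ω} {χ : P →* Ω} (hχ : χ ∈ E.Hom P)
    {P' : Subgroup Ω} (hP' : ∀ y ∈ P', s * y * s⁻¹ ∈ P) :
    ∃ χ' ∈ E.Hom P', ∀ y : P', χ' y = s⁻¹ * χ ⟨s * y * s⁻¹, hP' y y.2⟩ * s := by
  let e : T ≃* T := T.normalizerMonoidHom ⟨s⁻¹, hTn (S.inv_mem hs)⟩
  have he : Iso F T T e := mem_of_agree F (F.conj_mem hTS (S.inv_mem hs)) le_rfl (fun x => rfl)
  have hval : ∀ x : T, (e x : Ω) = s⁻¹ * x * s := fun x => by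
    change s⁻¹ * (x : Ω) * (s⁻¹)⁻¹ = _
    rw [inv_inv]
  have h1 := fIso_self hS hEs hE he
  have hPT := hom_le E hχ
  have h2 := (h1 P hPT χ (hom_mem E hχ)).mp hχ
  have h3 : ∀ y : P', (y : Ω) = (imgE e hPT ⟨s * y * s⁻¹, hP' y y.2⟩ : Ω) := by
    intro y
    rw [imgE_apply, hval]
    group
  have h4 : P' ≤ img e P := by
    intro y hy
    have := h3 ⟨y, hy⟩
    change y = _ at this
    rw [this]
    exact (imgE e hPT _).2
  refine ⟨_, restrict_mem E h2 h4, fun y => ?_⟩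
  have h5 : Subgroup.inclusion h4 y = imgE e hPT ⟨s * y * s⁻¹, hP' y y.2⟩ := Subtype.ext (h3 y)
  change homT e hPT χ _ (Subgroup.inclusion h4 y) = _
  rw [h5, homT_apply, hval]

/-- the maps of `F` which restrict on `T` to maps of `E` followed by conjugation. -/
def dSys (F : FusionSystem S) {T : Subgroup Ω} (E : FusionSystem T) (hTS : T ≤ S) (hsc : F.StronglyClosed T)
    (hinv : ∀ s ∈ S, ∀ (P : Subgroup Ω) (χ : P →* Ω), χ ∈ E.Hom P → ∀ (P' : Subgroup Ω) (hP' : ∀ y ∈ P', s * y * s⁻¹ ∈ P),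
      ∃ χ' ∈ E.Hom P', ∀ y : P', χ' y = s⁻¹ * χ ⟨s * y * s⁻¹, hP' y y.2⟩ * s) : FusionSystem S where
  Hom Q := {ψ | ψ ∈ F.Hom Q ∧ ∃ s ∈ S, ∃ χ ∈ E.Hom (Q ⊓ T), ∀ (x : Ω) (hQ : x ∈ Q) (hT : x ∈ T), ψ ⟨x, hQ⟩ = s * χ ⟨x, ⟨hQ, hT⟩⟩ * s⁻¹}
  le_of_mem := fun h => F.le_of_mem h.1
  injective_of_mem := fun h => F.injective_of_mem h.1
  conj_mem := fun {P g} hP hg => ⟨F.conj_mem hP hg, g, hg, _, subtype_mem E inf_le_right, fun x _ _ => rfl⟩
  comp_mem := by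
    rintro Q₁ Q₂ ψ₁ ψ₂ ⟨h1, s₁, hs₁, χ₁, hχ₁, k1⟩ ⟨h2, s₂, hs₂, χ₂, hχ₂, k2⟩ h
    refine ⟨F.comp_mem h1 h2 h, s₂ * s₁, S.mul_mem hs₂ hs₁, ?_⟩
    have hmem : ∀ y ∈ χ₁.range, s₁ * y * s₁⁻¹ ∈ Q₂ ⊓ T := by
      rintro _ ⟨x, rfl⟩
      have h3 := k1 x x.2.1 x.2.2
      have h4 : χ₁ x = χ₁ ⟨x, ⟨x.2.1, x.2.2⟩⟩ := rfl
      rw [h4, ← h3]
      refine ⟨h _, ?_⟩
      exact hsc.2 (Q₁ ⊓ T) inf_le_right _ (restrict_mem F h1 inf_le_left) x
    obtain ⟨χ', hχ', hχ'e⟩ := hinv s₁ hs₁ _ χ₂ hχ₂ χ₁.range hmem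
    refine ⟨_, E.comp_mem hχ₁ hχ' (fun x => ⟨x, rfl⟩), fun x hQ hT => ?_⟩
    have h3 := k1 x hQ hT
    change ψ₂ ⟨ψ₁ ⟨x, hQ⟩, _⟩ = s₂ * s₁ * χ' ⟨χ₁ ⟨x, ⟨hQ, hT⟩⟩, _⟩ * (s₂ * s₁)⁻¹
    rw [hχ'e]
    have h5 : ψ₁ ⟨x, hQ⟩ ∈ T := hsc.2 (Q₁ ⊓ T) inf_le_right _ (restrict_mem F h1 inf_le_left) ⟨x, ⟨hQ, hT⟩⟩
    have h4 : (⟨s₁ * ((⟨χ₁ ⟨x, ⟨hQ, hT⟩⟩, ⟨_, rfl⟩⟩ : χ₁.range) : Ω) * s₁⁻¹, hmem _ ⟨_, rfl⟩⟩ : (Q₂ ⊓ T : Subgroup Ω)) = ⟨ψ₁ ⟨x, hQ⟩, ⟨h _, h5⟩⟩ := Subtype.ext h3.symm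
    rw [h4, k2 _ (h _) h5]
    group
  inv_mem := by
    rintro Q ψ ⟨h1, s, hs, χ, hχ, k⟩
    obtain ⟨θ, hθ, hθψ⟩ := F.inv_mem h1
    obtain ⟨κ, hκ, hκχ⟩ := E.inv_mem hχ
    have hT : ∀ q : Q, ψ q ∈ T → (q : Ω) ∈ T := by
      intro q hq
      have h2 := hsc.2 (ψ.range ⊓ T) inf_le_right _ (restrict_mem F hθ inf_le_left) ⟨ψ q, ⟨⟨q, rfl⟩, hq⟩⟩
      have h3 : θ ⟨ψ q, ⟨q, rfl⟩⟩ ∈ T := h2
      rw [hθψ] at h3
      exact h3
    have hmem : ∀ y ∈ ψ.range ⊓ T, s⁻¹ * y * (s⁻¹)⁻¹ ∈ χ.range := by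
      rintro _ ⟨⟨q, rfl⟩, hq⟩
      have h2 := k q q.2 (hT q hq)
      refine ⟨⟨q, ⟨q.2, hT q hq⟩⟩, ?_⟩
      have h3 : ψ q = ψ ⟨q, q.2⟩ := rfl
      rw [h3, h2]; group
    obtain ⟨χ', hχ', hχ'e⟩ := hinv s⁻¹ (S.inv_mem hs) _ κ hκ (ψ.range ⊓ T) hmem
    refine ⟨θ, ⟨hθ, s⁻¹, S.inv_mem hs, χ', hχ', ?_⟩, hθψ⟩
    rintro _ ⟨q, rfl⟩ hq
    rw [hχ'e, hθψ]
    have h2 := k q q.2 (hT q hq)
    have h4 : (⟨s⁻¹ * ((⟨ψ q, ⟨⟨q, rfl⟩, hq⟩⟩ : (ψ.range ⊓ T : Subgroup Ω)) : Ω) * (s⁻¹)⁻¹, hmem _ ⟨⟨q, rfl⟩, hq⟩⟩ : χ.range) = ⟨χ ⟨q, ⟨q.2, hT q hq⟩⟩, ⟨_, rfl⟩⟩ := by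
      apply Subtype.ext
      change s⁻¹ * ψ ⟨q, q.2⟩ * (s⁻¹)⁻¹ = _
      rw [h2]; group
    rw [h4, hκχ]
    group

theorem stronglyClosed_of_hyp (hS : IsPGroup p S) (hF : F.IsSaturated p) {T : Subgroup Ω} (hTS : T ≤ S)
    (hTn : S ≤ Subgroup.normalizer (T : Set Ω)) (hT : F.hyperfocalSubgroup p ≤ T) : F.StronglyClosed T := by
  refine ⟨hTS, fun R hR φ hφ x => ?_⟩
  obtain ⟨s, hs, h⟩ := mod_hyperfocal hS hF hφ
  have h1 := hT (h x)
  have h2 : s * (x : Ω) * s⁻¹ ∈ T := (Subgroup.mem_normalizer_iff.mp (hTn hs) _).mp (hR x.2)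
  have h3 := T.mul_mem h2 (T.inv_mem h1)
  have e : φ x = s * (x : Ω) * s⁻¹ * ((φ x)⁻¹ * (s * x * s⁻¹))⁻¹ := by group
  rw [e]; exact h3

theorem le_dSys (hS : IsPGroup p S) (hF : F.IsSaturated p) {T : Subgroup Ω} (hTS : T ≤ S)
    (hsc : F.StronglyClosed T) {E : FusionSystem T} (hE : E.HasPPowerIndexIn F p)
    (hinv : ∀ s ∈ S, ∀ (P : Subgroup Ω) (χ : P →* Ω), χ ∈ E.Hom P → ∀ (P' : Subgroup Ω) (hP' : ∀ y ∈ P', s * y * s⁻¹ ∈ P),
      ∃ χ' ∈ E.Hom P', ∀ y : P', χ' y = s⁻¹ * χ ⟨s * y * s⁻¹, hP' y y.2⟩ * s) : F ≤ dSys F E hTS hsc hinv := by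
  apply le_of_pResidual_le hS hF
  intro R hR
  rw [pResidual, MonoidHom.map_closure, Subgroup.closure_le]
  rintro _ ⟨α, hα, rfl⟩
  have hα' : (orderOf α).Coprime p := hα
  have hαI := (mem_autGroup F hR.1).mp α.2
  have hD : ∀ x : R, (x : Ω) ∈ R ⊓ T → (((α : MulAut R) x : R) : Ω) ∈ R ⊓ T := by
    intro x hx
    exact ⟨((α : MulAut R) x).2, hsc.2 (R ⊓ T) inf_le_right _ (restrict_mem F hαI inf_le_left) ⟨x, hx⟩⟩
  obtain ⟨β, hβ, hβα, hβo⟩ := exists_res_inf hR.1 inf_le_left hαI hD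
  have hβE : β ∈ E.autGroup (R ⊓ T) := by
    refine hE.2.2 (R ⊓ T) inf_le_right ⟨⟨β, mem_autGroup_of_iso F hβ⟩, Subgroup.subset_closure ?_, rfl⟩
    change (orderOf _).Coprime p
    rw [← Subgroup.orderOf_coe]
    refine Nat.Coprime.coprime_dvd_left hβo ?_
    change (orderOf (α : MulAut R)).Coprime p
    rw [Subgroup.orderOf_coe]; exact hα'
  refine mem_autGroup_of_iso _ ⟨hαI, 1, S.one_mem, _, (mem_autGroup E inf_le_right).mp hβE, fun x hQ hT => ?_⟩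
  rw [one_mul, inv_one, mul_one]
  exact (hβα ⟨x, ⟨hQ, hT⟩⟩).symm

theorem weaklyNormal_of_pPowerIndex (hS : IsPGroup p S) (hF : F.IsSaturated p) {T : Subgroup Ω} (hTS : T ≤ S)
    (hTn : S ≤ Subgroup.normalizer (T : Set Ω)) {E : FusionSystem T} (hEs : E.IsSaturated p) (hE : E.HasPPowerIndexIn F p) :
    E.IsWeaklyNormalIn F p := by
  have hsc := stronglyClosed_of_hyp hS hF hTS hTn hE.2.1
  have hinv : ∀ s ∈ S, ∀ (P : Subgroup Ω) (χ : P →* Ω), χ ∈ E.Hom P → ∀ (P' : Subgroup Ω) (hP' : ∀ y ∈ P', s * y * s⁻¹ ∈ P),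
      ∃ χ' ∈ E.Hom P', ∀ y : P', χ' y = s⁻¹ * χ ⟨s * y * s⁻¹, hP' y y.2⟩ * s := fun s hs P χ hχ P' hP' => inv_conj hS hTS hTn hEs hE hs hχ hP'
  have hle := le_dSys hS hF hTS hsc hE hinv
  refine ⟨hEs, hF, hE.1, hsc, ?_, ?_⟩
  · intro P hPT φ hφ α hα
    have h1 := fIso_self hS hEs hE ((mem_autGroup F hTS).mp hα)
    refine ⟨_, (h1 P hPT φ (hom_mem E hφ)).mp hφ, fun x hφx hαx => ?_⟩
    exact homT_apply α hPT φ (hom_mem E hφ) x
  · intro P hPT φ hφ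
    obtain ⟨-, s, hs, χ, hχ, h⟩ := hle P hφ
    have hPP : P ≤ P ⊓ T := le_inf le_rfl hPT
    refine ⟨T.normalizerMonoidHom ⟨s, hTn hs⟩, ?_, _, restrict_mem E hχ hPP, fun x hx => ?_⟩
    · exact autInducedBy_le_autGroup F hTS (mem_autInducedBy.mpr ⟨s, hs, fun x => rfl⟩)
    · exact h x x.2 (hPT x.2)

theorem exists_coprime_pow {G : Type*} [Group G] [Finite G] (β : G) :
    ∃ k : ℕ, (orderOf (β ^ k)).Coprime p ∧ ∀ n : ℕ, n ∣ orderOf β → n.Coprime p → k ≡ 1 [MOD n] := by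
  have hg0 : orderOf β ≠ 0 := (orderOf_pos β).ne'
  have hgm := Nat.ordProj_mul_ordCompl_eq_self (orderOf β) p
  have hmp : Nat.Coprime p (ordCompl[p] (orderOf β)) := Nat.coprime_ordCompl Fact.out hg0
  obtain ⟨k, hk1, hk2⟩ := Nat.chineseRemainder (hmp.pow_left ((orderOf β).factorization p)) 0 1
  refine ⟨k, ?_, ?_⟩
  · have h1 : (β ^ k) ^ (ordCompl[p] (orderOf β)) = 1 := by
      rw [← pow_mul, ← orderOf_dvd_iff_pow_eq_one]
      exact (dvd_of_eq hgm.symm).trans (Nat.mul_dvd_mul ((Nat.modEq_zero_iff_dvd).mp hk1) dvd_rfl)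
    exact Nat.Coprime.coprime_dvd_left (orderOf_dvd_of_pow_eq_one h1) hmp.symm
  · intro n hn hnp
    have h1 : n ∣ ordCompl[p] (orderOf β) := by
      rw [← hgm] at hn
      exact (hnp.pow_right _).dvd_of_dvd_mul_left hn
    exact hk2.of_dvd h1

/-- The extension condition. -/
theorem normal_of_pPowerIndex (hS : IsPGroup p S) (hF : F.IsSaturated p) {T : Subgroup Ω} (hTS : T ≤ S)
    (hTn : S ≤ Subgroup.normalizer (T : Set Ω)) {E : FusionSystem T} (hEs : E.IsSaturated p) (hE : E.HasPPowerIndexIn F p) :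
    E.IsNormalIn F p := by
  have hsc := stronglyClosed_of_hyp hS hF hTS hTn hE.2.1
  refine ⟨weaklyNormal_of_pPowerIndex hS hF hTS hTn hEs hE, ?_⟩
  haveI := finite_of_le hTS
  haveI := finite_autGroup (S := S) hTS
  set TC := T ⊔ centralizerIn S T with hTC
  have hTCS : TC ≤ S := sup_le hTS inf_le_left
  haveI := finite_of_le hTCS
  haveI := finite_autGroup (S := S) hTCS
  let Good : MulAut T → MulAut TC → Prop := fun α β => β ∈ F.autGroup TC ∧
      (∀ x : T, ((β (Subgroup.inclusion le_sup_left x) : TC) : Ω) = ((α x : T) : Ω)) ∧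
      ∀ c : TC, (c : Ω) ∈ centralizerIn S T →
        (c : Ω)⁻¹ * ((β c : TC) : Ω) ∈ T ⊓ Subgroup.centralizer (T : Set Ω)
  have hcl : ∀ (α : MulAut T) (β : MulAut TC), Good α β → ∀ c : TC, (c : Ω) ∈ centralizerIn S T → ((β c : TC) : Ω) ∈ centralizerIn S T := by
    rintro α β ⟨h1, h2, h3⟩ c hc
    have h4 := h3 c hc
    have h5 : ((β c : TC) : Ω) = c * ((c : Ω)⁻¹ * ((β c : TC) : Ω)) := by group
    rw [h5]
    exact (centralizerIn S T).mul_mem hc ⟨hTS h4.1, h4.2⟩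
  have hmul : ∀ (α α' : MulAut T) (β β' : MulAut TC), Good α β → Good α' β' → Good (α * α') (β * β') := by
    intro α α' β β' hg hg'
    refine ⟨(F.autGroup TC).mul_mem hg.1 hg'.1, fun x => ?_, fun c hc => ?_⟩
    · change ((β (β' _) : TC) : Ω) = (α (α' x) : T)
      rw [← hg.2.1 (α' x)]
      congr 2
      exact Subtype.ext (hg'.2.1 x)
    · have h1 := hg'.2.2 c hc
      have h2 := hg.2.2 (β' c) (hcl _ _ hg' c hc)
      have h3 := (T ⊓ Subgroup.centralizer (T : Set Ω)).mul_mem h1 h2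
      have e : (c : Ω)⁻¹ * (((β * β') c : TC) : Ω) = (c : Ω)⁻¹ * (β' c : TC) * (((β' c : TC) : Ω)⁻¹ * (β (β' c) : TC)) := by
        change (c : Ω)⁻¹ * ((β (β' c) : TC) : Ω) = _
        group
      rw [e]; exact h3
  let K : Subgroup (MulAut T) :=
    { carrier := {α | ∃ β, Good α β}
      one_mem' := ⟨1, (F.autGroup TC).one_mem, fun x => rfl, fun c hc => by
        change (c : Ω)⁻¹ * c ∈ _
        rw [inv_mul_cancel]; exact Subgroup.one_mem _⟩
      mul_mem' := by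
        rintro α α' ⟨β, hβ⟩ ⟨β', hβ'⟩
        exact ⟨_, hmul _ _ _ _ hβ hβ'⟩
      inv_mem' := by
        rintro α ⟨β, hβ⟩
        refine ⟨β⁻¹, (F.autGroup TC).inv_mem hβ.1, fun x => ?_, fun c hc => ?_⟩
        · have h1 := hβ.2.1 (α⁻¹ x)
          have h2 : α (α⁻¹ x) = x := MulAut.apply_inv_self _ _ _
          rw [h2] at h1
          have h3 : β (Subgroup.inclusion le_sup_left (α⁻¹ x)) = Subgroup.inclusion le_sup_left x := Subtype.ext h1
          rw [← h3]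
          change ((β⁻¹ (β _) : TC) : Ω) = _
          rw [MulAut.inv_apply_self]
          rfl
        · -- β⁻¹ preserves the centralizer
          have h0 : ∃ n : ℕ, β⁻¹ = β ^ n := by
            obtain ⟨n, hn⟩ := (isOfFinOrder_of_finite β).mem_powers_iff_mem_zpowers.mpr (Subgroup.inv_mem _ (Subgroup.mem_zpowers β))
            exact ⟨n, hn.symm⟩
          obtain ⟨n, hn⟩ := h0
          have hpow : ∀ n : ℕ, (((β ^ n) c : TC) : Ω) ∈ centralizerIn S T := by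
            intro n
            induction n with
            | zero => exact hc
            | succ n ih =>
              rw [pow_succ']
              exact hcl _ _ hβ _ ih
          have h1 := hβ.2.2 (β⁻¹ c) (by rw [hn]; exact hpow n)
          rw [MulAut.apply_inv_self] at h1
          have h2 := Subgroup.inv_mem _ h1
          rw [mul_inv_rev, inv_inv] at h2
          exact h2 }
  have hfn : F.IsFullyNormalized T := by
    refine ⟨hTS, fun Q hQ => ?_⟩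
    obtain ⟨φ, hφ, rfl⟩ := hQ
    have h1 : φ.range = T := by
      apply Subgroup.eq_of_le_of_card_ge
      · rintro _ ⟨x, rfl⟩; exact hsc.2 T le_rfl φ hφ x
      · exact (isConj_card ⟨φ, hφ, rfl⟩).le
    rw [h1]
  have hle : E.autGroup T ≤ K := by
    have hEfa : E.IsFullyAutomized p T := by
      obtain ⟨Q, hQ, hQa, -⟩ := hEs T le_rfl
      have : Q = T := by
        apply Subgroup.eq_of_le_of_card_ge (hQa.1)
        exact (isConj_card hQ).le
      rw [this] at hQa; exact hQa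
    obtain ⟨-, R, hR⟩ := hEfa
    haveI := finite_autGroup (S := T) (P := T) le_rfl
    have h1 := H1.sylow_sup_pResidual R
    have h2 := congrArg (Subgroup.map (E.autGroup T).subtype) h1
    rw [Subgroup.map_sup, hR, Subgroup.subgroupOf_map_subtype, ← MonoidHom.range_eq_map, Subgroup.range_subtype] at h2
    rw [← h2]
    refine sup_le (inf_le_left.trans ?_) ?_
    · intro α hα
      obtain ⟨t, ht, htα⟩ := mem_autInducedBy.mp hα
      have htN : t ∈ Subgroup.normalizer (TC : Set Ω) := by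
        have h3 : t ∈ TC := le_sup_left (α := Subgroup Ω) ht
        exact Subgroup.le_normalizer h3
      refine ⟨TC.normalizerMonoidHom ⟨t, htN⟩, autInducedBy_le_autGroup F hTCS (mem_autInducedBy.mpr ⟨t, hTS ht, fun x => rfl⟩), fun x => (htα x).symm, fun c hc => ?_⟩
      have h4 := (mem_centralizerIn.mp hc).2 t ht
      have h5 : (c : Ω)⁻¹ * (t * c * t⁻¹) = 1 := by rw [h4]; group
      change (c : Ω)⁻¹ * (t * c * t⁻¹) ∈ _
      rw [h5]; exact Subgroup.one_mem _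
    · rw [pResidual, MonoidHom.map_closure, Subgroup.closure_le]
      rintro _ ⟨α, hα, rfl⟩
      have hα' : (orderOf (α : MulAut T)).Coprime p := by rw [Subgroup.orderOf_coe]; exact hα
      have hαI := (mem_autGroup E le_rfl).mp α.2
      have hαF : Iso F T T (α : MulAut T) := hE.1 T hαI
      have hrange : (T.subtype.comp ((α : MulAut T) : T ≃* T).toMonoidHom).range = T := by
        ext y
        constructor
        · rintro ⟨x, rfl⟩; exact ((α : MulAut T) x).2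
        · intro hy
          obtain ⟨x, hx⟩ := (α : MulAut T).surjective ⟨y, hy⟩
          exact ⟨x, congrArg Subtype.val hx⟩
      obtain ⟨ψ, hψ, hψα⟩ := (receptive_of_fullyNormalized_sat hS hF hfn).2 T _ hαF hrange
      have hTCe : TC ≤ extender S T (T.subtype.comp ((α : MulAut T) : T ≃* T).toMonoidHom) :=
        sup_le (le_extender hTS (fun x => hTS ((α : MulAut T) x).2)) centralizerIn_le_extender
      have hψr := restrict_mem F hψ hTCe
      set χ := ψ.comp (Subgroup.inclusion hTCe) with hχ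
      have hT0 : ∀ (x : Ω) (hx : x ∈ T) (hx' : x ∈ TC), χ ⟨x, hx'⟩ = ((α : MulAut T) ⟨x, hx⟩ : T) := fun x hx hx' => hψα x hx (hTCe hx')
      have hTimg : (T.subgroupOf TC).map χ = T := by
        rw [map_eq_range_of_agree (φ := T.subtype.comp ((α : MulAut T) : T ≃* T).toMonoidHom) le_sup_left (fun x hx hx' => hT0 x hx hx')]
        exact hrange
      have hχTC : ∀ x : TC, χ x ∈ TC := by
        intro x
        have h3 : TC ≤ (TC.comap χ).map TC.subtype := by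
          conv_lhs => rw [hTC]
          refine sup_le ?_ ?_
          · intro y hy
            have hy' : y ∈ TC := le_sup_left (α := Subgroup Ω) hy
            refine ⟨⟨y, hy'⟩, ?_, rfl⟩
            change χ ⟨y, hy'⟩ ∈ TC
            rw [hT0 y hy hy']
            exact le_sup_left (α := Subgroup Ω) (((α : MulAut T) ⟨y, hy⟩ : T)).2
          · intro y hy
            have hy' : y ∈ TC := le_sup_right (α := Subgroup Ω) hy
            refine ⟨⟨y, hy'⟩, ?_, rfl⟩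
            have h4 := map_centralizerIn hψr le_sup_left hy' hy
            rw [hTimg] at h4
            exact le_sup_right (α := Subgroup Ω) h4
        obtain ⟨y, hy, hyx⟩ := h3 x.2
        have : y = x := Subtype.ext hyx
        rw [← this]; exact hy
      let f : TC →* TC := χ.codRestrict TC hχTC
      have hf : Function.Injective f := by
        intro x y hxy
        exact F.injective_of_mem hψr (congrArg Subtype.val hxy)
      let β₀ : MulAut TC := MulEquiv.ofBijective f (Finite.injective_iff_bijective.mp hf)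
      have hβ₀F : β₀ ∈ F.autGroup TC := mem_autGroup_of_iso F (mem_of_agree F hψr le_rfl (fun x => rfl))
      have hβ₀T : ∀ (n : ℕ) (x : T), (((β₀ ^ n) (Subgroup.inclusion le_sup_left x) : TC) : Ω) = (((α : MulAut T) ^ n) x : T) := by
        intro n
        induction n with
        | zero => intro x; rfl
        | succ n ih =>
          intro x
          rw [pow_succ', pow_succ']
          change χ ((β₀ ^ n) _) = ((α : MulAut T) (((α : MulAut T) ^ n) x) : T)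
          have h3 : (β₀ ^ n) (Subgroup.inclusion le_sup_left x) = ⟨(((α : MulAut T) ^ n) x : T), le_sup_left (α := Subgroup Ω) (((α : MulAut T) ^ n) x).2⟩ := Subtype.ext (ih x)
          rw [h3, hT0 _ (((α : MulAut T) ^ n) x).2]
      have hdvd : orderOf (α : MulAut T) ∣ orderOf β₀ := by
        apply orderOf_dvd_of_pow_eq_one
        ext x
        rw [← hβ₀T, pow_orderOf_eq_one]
        rfl
      obtain ⟨k, hk1, hk2⟩ := exists_coprime_pow (p := p) β₀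
      have hαk : (α : MulAut T) ^ k = α := by
        have h3 := (pow_eq_pow_iff_modEq (x := (α : MulAut T))).mpr (hk2 _ hdvd hα')
        rw [h3, pow_one]
      have hβF : β₀ ^ k ∈ F.autGroup TC := (F.autGroup TC).pow_mem hβ₀F k
      refine ⟨β₀ ^ k, hβF, fun x => ?_, fun c hc => ?_⟩
      · rw [hβ₀T, hαk]; rfl
      · have hcT : (c : Ω)⁻¹ * (((β₀ ^ k) c : TC) : Ω) ∈ T := by
          apply hE.2.1
          refine mem_hyperfocal F hTCS (α := ⟨β₀ ^ k, hβF⟩) (Subgroup.subset_closure ?_) c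
          change (orderOf _).Coprime p
          rw [← Subgroup.orderOf_coe]; exact hk1
        have hcC : ∀ n : ℕ, (((β₀ ^ n) c : TC) : Ω) ∈ centralizerIn S T := by
          intro n
          induction n with
          | zero => exact hc
          | succ n ih =>
            rw [pow_succ']
            have h4 := map_centralizerIn hψr le_sup_left ((β₀ ^ n) c).2 ih
            rw [hTimg] at h4
            exact h4
        exact ⟨hcT, ((centralizerIn S T).mul_mem ((centralizerIn S T).inv_mem hc) (hcC k)).2⟩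
  intro α hα
  exact hle hα

end Cfsg.Agent.L0.Fus
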