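import Cfsg.Agent.L0.Fus.Agemo1
import Cfsg.Agent.L0.Fus.KSat
import Cfsg.Agent.L0.Fus.SecFree2
set_option autoImplicit false
/-! Isomorphisms of a fusion system as restrictions of functions; systems given by a relation. -/

open Pointwise

namespace Cfsg.Agent.L0.Fus

open Cfsg.Agent.L0 Cfsg.FusionSystem

variable {Ω : Type*} [Group Ω] {S : Subgroup Ω}

/-- `f` restricts to an isomorphism of `F` from `P` onto `Q`. -/
def Mi (F : FusionSystem S) (P Q : Subgroup Ω) (f : Ω → Ω) : Prop :=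
  ∃ φ ∈ F.Hom P, (∀ x : P, φ x = f x) ∧ φ.range = Q

section
variable {F : FusionSystem S} {P Q R : Subgroup Ω} {f g : Ω → Ω}

theorem Mi.le (h : Mi F P Q f) : P ≤ S := by
  obtain ⟨φ, hφ, -, -⟩ := h; exact hom_le F hφ

theorem Mi.le' (h : Mi F P Q f) : Q ≤ S := by
  obtain ⟨φ, hφ, -, rfl⟩ := h; exact range_le F hφ

theorem Mi.mem (h : Mi F P Q f) {x : Ω} (hx : x ∈ P) : f x ∈ Q := by
  obtain ⟨φ, hφ, h1, rfl⟩ := h
  rw [← h1 ⟨x, hx⟩]; exact ⟨_, rfl⟩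

theorem Mi.surj (h : Mi F P Q f) {y : Ω} (hy : y ∈ Q) : ∃ x ∈ P, f x = y := by
  obtain ⟨φ, hφ, h1, rfl⟩ := h
  obtain ⟨x, rfl⟩ := hy
  exact ⟨x, x.2, (h1 x).symm⟩

theorem Mi.inj (h : Mi F P Q f) {x y : Ω} (hx : x ∈ P) (hy : y ∈ P) (hxy : f x = f y) : x = y := by
  obtain ⟨φ, hφ, h1, rfl⟩ := h
  have h2 : φ ⟨x, hx⟩ = φ ⟨y, hy⟩ := by rw [h1, h1]; exact hxy
  exact congrArg Subtype.val (F.injective_of_mem hφ h2)

theorem Mi.map_mul (h : Mi F P Q f) {x y : Ω} (hx : x ∈ P) (hy : y ∈ P) : f (x * y) = f x * f y := by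
  obtain ⟨φ, hφ, h1, rfl⟩ := h
  have h2 := φ.map_mul ⟨x, hx⟩ ⟨y, hy⟩
  rw [h1, h1, h1] at h2
  exact h2

theorem Mi.map_one (h : Mi F P Q f) : f 1 = 1 := by
  obtain ⟨φ, hφ, h1, rfl⟩ := h
  have h2 := φ.map_one
  rw [h1] at h2
  exact h2

theorem Mi.map_inv (h : Mi F P Q f) {x : Ω} (hx : x ∈ P) : f x⁻¹ = (f x)⁻¹ := by
  obtain ⟨φ, hφ, h1, rfl⟩ := h
  have h2 := φ.map_inv ⟨x, hx⟩
  rw [h1, h1] at h2
  exact h2

theorem Mi.congr (h : Mi F P Q f) (hg : ∀ x ∈ P, f x = g x) : Mi F P Q g := by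
  obtain ⟨φ, hφ, h1, h2⟩ := h
  exact ⟨φ, hφ, fun x => by rw [h1 x]; exact hg x x.2, h2⟩

theorem Mi.refl (hP : P ≤ S) : Mi F P P id := ⟨P.subtype, subtype_mem F hP, fun _ => rfl, P.range_subtype⟩

theorem Mi.comp (h : Mi F P Q f) (h' : Mi F Q R g) : Mi F P R (g ∘ f) := by
  obtain ⟨φ, hφ, h1, rfl⟩ := h
  obtain ⟨ψ, hψ, h3, rfl⟩ := h'
  refine ⟨ψ.comp (φ.codRestrict φ.range (fun x => ⟨x, rfl⟩)), F.comp_mem hφ hψ _, fun x => ?_, ?_⟩
  · change ψ ⟨φ x, _⟩ = g (f x)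
    rw [h3, ← h1 x]
  · apply le_antisymm
    · rintro _ ⟨x, rfl⟩; exact ⟨_, rfl⟩
    · rintro _ ⟨⟨_, ⟨x, rfl⟩⟩, rfl⟩
      exact ⟨x, rfl⟩

theorem Mi.symm (h : Mi F P Q f) : ∃ g, Mi F Q P g ∧ (∀ x ∈ P, g (f x) = x) ∧ ∀ y ∈ Q, f (g y) = y := by
  classical
  have h0 := h
  obtain ⟨φ, hφ, h1, rfl⟩ := h
  obtain ⟨ψ, hψ, h2⟩ := F.inv_mem hφ
  refine ⟨fun y => if hy : y ∈ φ.range then ψ ⟨y, hy⟩ else y, ⟨ψ, hψ, fun y => ?_, ?_⟩, fun x hx => ?_, fun y hy => ?_⟩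
  · beta_reduce; rw [dif_pos y.2]
  · apply le_antisymm
    · rintro _ ⟨⟨_, ⟨x, rfl⟩⟩, rfl⟩
      rw [h2]; exact x.2
    · intro x hx
      exact ⟨⟨φ ⟨x, hx⟩, ⟨_, rfl⟩⟩, h2 _⟩
  · have hfx : f x = φ ⟨x, hx⟩ := (h1 ⟨x, hx⟩).symm
    beta_reduce
    rw [hfx, dif_pos ⟨_, rfl⟩, h2]
  · beta_reduce
    rw [dif_pos hy]
    obtain ⟨x, rfl⟩ := hy
    rw [h2, ← h1]

theorem Mi.symm_of (h : Mi F P Q f) (hg : ∀ x ∈ P, g (f x) = x) : Mi F Q P g := by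
  obtain ⟨g', h1, h2, h3⟩ := h.symm
  refine h1.congr fun y hy => ?_
  obtain ⟨x, hx, rfl⟩ := h.surj hy
  rw [h2 x hx, hg x hx]

theorem Mi.restrict (h : Mi F P Q f) (hR : R ≤ P) : ∃ R' ≤ Q, Mi F R R' f ∧ ∀ y, y ∈ R' ↔ ∃ x ∈ R, f x = y := by
  obtain ⟨φ, hφ, h1, rfl⟩ := h
  refine ⟨(φ.comp (Subgroup.inclusion hR)).range, ?_, ⟨_, restrict_mem F hφ hR, fun x => h1 _, rfl⟩, fun y => ?_⟩
  · rintro _ ⟨x, rfl⟩; exact ⟨_, rfl⟩
  · constructor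
    · rintro ⟨x, rfl⟩; exact ⟨x, x.2, (h1 (Subgroup.inclusion hR x)).symm⟩
    · rintro ⟨x, hx, rfl⟩; exact ⟨⟨x, hx⟩, h1 _⟩

theorem Mi.mem_hom (h : Mi F P Q f) {φ : P →* Ω} (hφ : ∀ x : P, φ x = f x) : φ ∈ F.Hom P := by
  obtain ⟨ψ, hψ, h1, rfl⟩ := h
  have : φ = ψ := MonoidHom.ext fun x => by rw [hφ, h1]
  rw [this]; exact hψ

theorem Mi.mono {T : Subgroup Ω} {E : FusionSystem T} (hE : E.IsSubsystemOf F) (h : Mi E P Q f) : Mi F P Q f := by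
  obtain ⟨φ, hφ, h1, h2⟩ := h
  exact ⟨φ, hE P hφ, h1, h2⟩

theorem Mi.range_unique {T : Subgroup Ω} {E : FusionSystem T} (h : Mi F P Q f) (h' : Mi E P R g) (hfg : ∀ x ∈ P, f x = g x) : Q = R := by
  ext y
  constructor
  · intro hy
    obtain ⟨x, hx, rfl⟩ := h.surj hy
    rw [hfg x hx]; exact h'.mem hx
  · intro hy
    obtain ⟨x, hx, rfl⟩ := h'.surj hy
    rw [← hfg x hx]; exact h.mem hx

/-- the extension of a homomorphism to a function. -/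
noncomputable def toF (φ : P →* Ω) : Ω → Ω := by
  classical
  exact fun x => if h : x ∈ P then φ ⟨x, h⟩ else x

theorem toF_apply (φ : P →* Ω) {x : Ω} (hx : x ∈ P) : toF φ x = φ ⟨x, hx⟩ := dif_pos hx

theorem toF_coe (φ : P →* Ω) (x : P) : toF φ x = φ x := toF_apply φ x.2

theorem mi_toF {φ : P →* Ω} : Mi F P φ.range (toF φ) ↔ φ ∈ F.Hom P :=
  ⟨fun h => h.mem_hom fun x => (toF_coe φ x).symm, fun h => ⟨φ, h, fun x => (toF_coe φ x).symm, rfl⟩⟩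

theorem Mi.card [Finite S] (h : Mi F P Q f) : Nat.card P = Nat.card Q := by
  obtain ⟨φ, hφ, h1, rfl⟩ := h
  exact Nat.card_congr (Equiv.ofInjective φ (F.injective_of_mem hφ))

theorem Mi.isConj (h : Mi F P Q f) : F.IsConj P Q := by
  obtain ⟨φ, hφ, h1, h2⟩ := h
  exact ⟨φ, hφ, h2⟩

theorem exists_mi_of_isConj (h : F.IsConj P Q) : ∃ f, Mi F P Q f := by
  obtain ⟨φ, hφ, rfl⟩ := h
  exact ⟨_, mi_toF.mpr hφ⟩

theorem mi_conj (hP : P ≤ S) {s : Ω} (hs : s ∈ S) : Mi F P (P.map (MulAut.conj s).toMonoidHom) (fun x => s * x * s⁻¹) := by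
  refine ⟨conjHom P s, F.conj_mem hP hs, fun x => rfl, ?_⟩
  ext y
  constructor
  · rintro ⟨x, rfl⟩; exact ⟨x, x.2, rfl⟩
  · rintro ⟨x, hx, rfl⟩; exact ⟨⟨x, hx⟩, rfl⟩

/-- the action of an automorphism, as a function. -/
noncomputable def ac (α : MulAut P) : Ω → Ω := by
  classical
  exact fun x => if h : x ∈ P then ((α ⟨x, h⟩ : P) : Ω) else x

theorem ac_apply (α : MulAut P) {x : Ω} (hx : x ∈ P) : ac α x = ((α ⟨x, hx⟩ : P) : Ω) := dif_pos hx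

theorem ac_mem (α : MulAut P) {x : Ω} (hx : x ∈ P) : ac α x ∈ P := by rw [ac_apply α hx]; exact (α _).2

theorem ac_mul (α β : MulAut P) {x : Ω} (hx : x ∈ P) : ac (α * β) x = ac α (ac β x) := by
  rw [ac_apply _ hx, ac_apply _ (ac_mem β hx)]
  change ((α (β ⟨x, hx⟩) : P) : Ω) = _
  congr 2
  exact Subtype.ext (ac_apply β hx).symm

theorem ac_one {x : Ω} (hx : x ∈ P) : ac (1 : MulAut P) x = x := by rw [ac_apply _ hx]; rfl

theorem ac_inv_ac (α : MulAut P) {x : Ω} (hx : x ∈ P) : ac α⁻¹ (ac α x) = x := by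
  rw [← ac_mul _ _ hx, inv_mul_cancel, ac_one hx]

theorem ac_ac_inv (α : MulAut P) {x : Ω} (hx : x ∈ P) : ac α (ac α⁻¹ x) = x := by
  rw [← ac_mul _ _ hx, mul_inv_cancel, ac_one hx]

theorem mi_ac {α : MulAut P} (hP : P ≤ S) : Mi F P P (ac α) ↔ α ∈ F.autGroup P := by
  rw [mem_autGroup F hP]
  constructor
  · intro h
    exact h.mem_hom fun x => (ac_apply α x.2).symm
  · intro h
    refine ⟨_, h, fun x => (ac_apply α x.2).symm, ?_⟩
    ext y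
    constructor
    · rintro ⟨x, rfl⟩; exact (α x).2
    · intro hy
      refine ⟨α⁻¹ ⟨y, hy⟩, ?_⟩
      change ((α (α⁻¹ ⟨y, hy⟩) : P) : Ω) = y
      rw [MulAut.apply_inv_self]

theorem Mi.aut (h : Mi F P P f) : ∃ α ∈ F.autGroup P, ∀ x ∈ P, ac α x = f x := by
  obtain ⟨φ, hφ, h1, h2⟩ := h
  have hinj := F.injective_of_mem hφ
  let e : P ≃* P := (MonoidHom.ofInjective hinj).trans (MulEquiv.subgroupCongr h2)
  have he : ∀ x : P, ((e x : P) : Ω) = φ x := fun x => rfl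
  refine ⟨e, mem_autGroup_of_iso F ?_, fun x hx => ?_⟩
  · have : P.subtype.comp e.toMonoidHom = φ := MonoidHom.ext fun x => rfl
    rw [Iso, this]; exact hφ
  · rw [ac_apply _ hx, he, h1]

theorem mi_iff_iso : Mi F P Q f ↔ ∃ e : P ≃* Q, Iso F P Q e ∧ ∀ x : P, ((e x : Q) : Ω) = f x := by
  constructor
  · rintro ⟨φ, hφ, h1, rfl⟩
    exact ⟨isoOfHom hφ, isoOfHom_iso hφ, fun x => by rw [isoOfHom_apply, h1]⟩
  · rintro ⟨e, he, h⟩
    refine ⟨_, he, h, ?_⟩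
    ext y
    constructor
    · rintro ⟨x, rfl⟩; exact (e x).2
    · intro hy
      exact ⟨e.symm ⟨y, hy⟩, by
        change ((e (e.symm ⟨y, hy⟩) : Q) : Ω) = y
        rw [e.apply_symm_apply]⟩
end

/-- the fusion system given by a relation on the isomorphisms of `F`. -/
def ofRel (F : FusionSystem S) (G : Subgroup Ω → Subgroup Ω → (Ω → Ω) → Prop)
    (hcongr : ∀ P Q f g, (∀ x ∈ P, f x = g x) → G P Q f → G P Q g)
    (hconj : ∀ P s, P ≤ S → s ∈ S → G P (P.map (MulAut.conj s).toMonoidHom) (fun x => s * x * s⁻¹))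
    (hcomp : ∀ P Q R f g, Mi F P Q f → Mi F Q R g → G P Q f → G Q R g → G P R (g ∘ f))
    (hinv : ∀ P Q f g, Mi F P Q f → Mi F Q P g → (∀ x ∈ P, g (f x) = x) → G P Q f → G Q P g)
    (hres : ∀ P Q f P' Q', Mi F P Q f → Mi F P' Q' f → P' ≤ P → G P Q f → G P' Q' f) : FusionSystem S where
  Hom P := {φ | φ ∈ F.Hom P ∧ G P φ.range (toF φ)}
  le_of_mem h := F.le_of_mem h.1
  injective_of_mem h := F.injective_of_mem h.1
  conj_mem := by
    intro P g hP hg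
    refine ⟨F.conj_mem hP hg, ?_⟩
    have h1 := hconj P g hP hg
    have h2 : (conjHom P g).range = P.map (MulAut.conj g).toMonoidHom := by
      ext y
      constructor
      · rintro ⟨x, rfl⟩; exact ⟨x, x.2, rfl⟩
      · rintro ⟨x, hx, rfl⟩; exact ⟨⟨x, hx⟩, rfl⟩
    rw [h2]
    exact hcongr _ _ _ _ (fun x hx => (toF_apply (conjHom P g) hx).symm) h1
  comp_mem := by
    rintro P Q φ ψ ⟨hφ, hφG⟩ ⟨hψ, hψG⟩ h
    refine ⟨F.comp_mem hφ hψ h, ?_⟩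
    have hφM := mi_toF.mpr hφ
    have hψM := mi_toF.mpr hψ
    have hle : φ.range ≤ Q := by rintro _ ⟨x, rfl⟩; exact h x
    obtain ⟨R', hR', hR, hR''⟩ := hψM.restrict hle
    have h1 := hres _ _ _ _ _ hψM hR hle hψG
    have h2 := hcomp _ _ _ _ _ hφM hR hφG h1
    have hag : ∀ x ∈ P, (toF ψ ∘ toF φ) x = toF (ψ.comp (φ.codRestrict Q h)) x := by
      intro x hx
      rw [toF_apply _ hx]
      change toF ψ (toF φ x) = ψ ⟨φ ⟨x, hx⟩, h _⟩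
      rw [toF_apply _ hx, toF_apply _ (h _)]
    have h3 : (ψ.comp (φ.codRestrict Q h)).range = R' :=
      (mi_toF.mpr (F.comp_mem hφ hψ h)).range_unique (hφM.comp hR) (fun x hx => (hag x hx).symm)
    rw [h3]
    exact hcongr _ _ _ _ hag h2
  inv_mem := by
    rintro P φ ⟨hφ, hφG⟩
    obtain ⟨ψ, hψ, h2⟩ := F.inv_mem hφ
    have hφM := mi_toF.mpr hφ
    have hag : ∀ x ∈ P, toF ψ (toF φ x) = x := by
      intro x hx
      rw [toF_apply _ hx, toF_apply ψ (show φ ⟨x, hx⟩ ∈ φ.range from ⟨_, rfl⟩), h2]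
    have hψM := hφM.symm_of hag
    have h3 : ψ.range = P := (mi_toF.mpr hψ).range_unique hψM (fun _ _ => rfl)
    refine ⟨ψ, ⟨hψ, ?_⟩, h2⟩
    rw [h3]
    exact hinv _ _ _ _ hφM hψM hag hφG

section
variable {F : FusionSystem S} {P Q : Subgroup Ω} {f : Ω → Ω}

theorem mi_ofRel {G : Subgroup Ω → Subgroup Ω → (Ω → Ω) → Prop}
    {hcongr : ∀ P Q f g, (∀ x ∈ P, f x = g x) → G P Q f → G P Q g}
    {hconj : ∀ P s, P ≤ S → s ∈ S → G P (P.map (MulAut.conj s).toMonoidHom) (fun x => s * x * s⁻¹)}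
    {hcomp : ∀ P Q R f g, Mi F P Q f → Mi F Q R g → G P Q f → G Q R g → G P R (g ∘ f)}
    {hinv : ∀ P Q f g, Mi F P Q f → Mi F Q P g → (∀ x ∈ P, g (f x) = x) → G P Q f → G Q P g}
    {hres : ∀ P Q f P' Q', Mi F P Q f → Mi F P' Q' f → P' ≤ P → G P Q f → G P' Q' f} :
    Mi (ofRel F G hcongr hconj hcomp hinv hres) P Q f ↔ Mi F P Q f ∧ G P Q f := by
  constructor
  · rintro ⟨φ, ⟨hφ, hφG⟩, h1, rfl⟩
    exact ⟨⟨φ, hφ, h1, rfl⟩, hcongr _ _ _ _ (fun x hx => by rw [toF_apply _ hx, h1]) hφG⟩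
  · rintro ⟨⟨φ, hφ, h1, rfl⟩, hG⟩
    exact ⟨φ, ⟨hφ, hcongr _ _ _ _ (fun x hx => by rw [toF_apply _ hx, h1]) hG⟩, h1, rfl⟩

theorem le_of_mi {T : Subgroup Ω} {E : FusionSystem T} (h : ∀ P Q f, Mi F P Q f → Mi E P Q f) : F.IsSubsystemOf E := by
  intro P φ hφ
  exact mi_toF.mp (h _ _ _ (mi_toF.mpr hφ))

end

/-- the intersection of the fusion systems below `F` with a property. -/
def interSys (F : FusionSystem S) (C : FusionSystem S → Prop) : FusionSystem S where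
  Hom P := {φ | φ ∈ F.Hom P ∧ ∀ E : FusionSystem S, C E → φ ∈ E.Hom P}
  le_of_mem h := F.le_of_mem h.1
  injective_of_mem h := F.injective_of_mem h.1
  conj_mem hP hg := ⟨F.conj_mem hP hg, fun E _ => E.conj_mem hP hg⟩
  comp_mem := by
    rintro P Q φ ψ ⟨h1, h2⟩ ⟨h3, h4⟩ h
    exact ⟨F.comp_mem h1 h3 h, fun E hE => E.comp_mem (h2 E hE) (h4 E hE) h⟩
  inv_mem := by
    rintro P φ ⟨h1, h2⟩
    obtain ⟨ψ, hψ, h3⟩ := F.inv_mem h1
    refine ⟨ψ, ⟨hψ, fun E hE => ?_⟩, h3⟩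
    obtain ⟨ψ', hψ', h3'⟩ := E.inv_mem (h2 E hE)
    have : ψ = ψ' := by
      apply MonoidHom.ext
      rintro ⟨_, ⟨x, rfl⟩⟩
      rw [h3, h3']
    rw [this]; exact hψ'

theorem mi_interSys {F : FusionSystem S} {C : FusionSystem S → Prop} {P Q : Subgroup Ω} {f : Ω → Ω} :
    Mi (interSys F C) P Q f ↔ Mi F P Q f ∧ ∀ E : FusionSystem S, C E → Mi E P Q f := by
  constructor
  · rintro ⟨φ, ⟨hφ, h2⟩, h1, rfl⟩
    exact ⟨⟨φ, hφ, h1, rfl⟩, fun E hE => ⟨φ, h2 E hE, h1, rfl⟩⟩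
  · rintro ⟨⟨φ, hφ, h1, rfl⟩, h2⟩
    refine ⟨φ, ⟨hφ, fun E hE => (h2 E hE).mem_hom h1⟩, h1, rfl⟩

theorem interSys_le {F : FusionSystem S} {C : FusionSystem S → Prop} {E : FusionSystem S} (hE : C E) : (interSys F C).IsSubsystemOf E :=
  fun _ _ h => h.2 E hE

theorem interSys_le' {F : FusionSystem S} {C : FusionSystem S → Prop} : (interSys F C).IsSubsystemOf F := fun _ _ h => h.1

/-- the image of a subgroup of `S` under an automorphism of `S`. -/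
def im (α : MulAut S) (P : Subgroup Ω) : Subgroup Ω := (P.subgroupOf S).map (S.subtype.comp α.toMonoidHom)

section
variable {F : FusionSystem S} {P Q : Subgroup Ω} {f : Ω → Ω}

theorem mem_im {α : MulAut S} {y : Ω} (hP : P ≤ S) : y ∈ im α P ↔ ∃ x ∈ P, ac α x = y := by
  constructor
  · rintro ⟨x, hx, rfl⟩
    exact ⟨x, hx, ac_apply α x.2⟩
  · rintro ⟨x, hx, rfl⟩
    exact ⟨⟨x, hP hx⟩, hx, (ac_apply α (hP hx)).symm⟩

theorem im_le {α : MulAut S} : im α P ≤ S := by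
  rintro _ ⟨x, hx, rfl⟩; exact (α x).2

theorem mi_im {α : MulAut S} (hα : α ∈ F.autGroup S) (hP : P ≤ S) : Mi F P (im α P) (ac α) := by
  obtain ⟨R, hR, h1, h2⟩ := (mi_ac le_rfl |>.mpr hα).restrict hP
  have : R = im α P := by ext y; rw [h2, mem_im hP]
  rwa [← this]

theorem im_mul {α β : MulAut S} (hP : P ≤ S) : im (α * β) P = im α (im β P) := by
  ext y
  rw [mem_im hP, mem_im im_le]
  constructor
  · rintro ⟨x, hx, rfl⟩
    exact ⟨ac β x, (mem_im hP).mpr ⟨x, hx, rfl⟩, (ac_mul _ _ (hP hx)).symm⟩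
  · rintro ⟨z, hz, rfl⟩
    obtain ⟨x, hx, rfl⟩ := (mem_im hP).mp hz
    exact ⟨x, hx, ac_mul _ _ (hP hx)⟩

theorem im_one (hP : P ≤ S) : im (1 : MulAut S) P = P := by
  ext y
  rw [mem_im hP]
  constructor
  · rintro ⟨x, hx, rfl⟩; rw [ac_one (hP hx)]; exact hx
  · intro hy; exact ⟨y, hy, ac_one (hP hy)⟩

theorem im_inv_im {α : MulAut S} (hP : P ≤ S) : im α⁻¹ (im α P) = P := by
  rw [← im_mul hP, inv_mul_cancel, im_one hP]

theorem im_im_inv {α : MulAut S} (hP : P ≤ S) : im α (im α⁻¹ P) = P := by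
  rw [← im_mul hP, mul_inv_cancel, im_one hP]

theorem im_self {α : MulAut S} : im α S = S := by
  apply le_antisymm im_le
  intro x hx
  exact (mem_im le_rfl).mpr ⟨ac α⁻¹ x, ac_mem _ hx, ac_ac_inv α hx⟩

/-- the transport of `E` along `α`. -/
noncomputable def conjSys (F E : FusionSystem S) (hE : E.IsSubsystemOf F) (α : MulAut S) (hα : α ∈ F.autGroup S) : FusionSystem S :=
  ofRel F (fun P Q f => Mi E (im α⁻¹ P) (im α⁻¹ Q) (ac α⁻¹ ∘ f ∘ ac α))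
    (by
      intro P Q f g hfg h
      refine h.congr fun x hx => ?_
      obtain ⟨⟨y, hy0⟩, hy, rfl⟩ := hx
      have hyP : y ∈ P := hy
      have h1 : ac α ((S.subtype.comp (α⁻¹).toMonoidHom) ⟨y, hy0⟩) = y := by
        have h2 : (S.subtype.comp (α⁻¹).toMonoidHom) ⟨y, hy0⟩ = ac α⁻¹ y := (ac_apply α⁻¹ hy0).symm
        rw [h2, ac_ac_inv α hy0]
      simp only [Function.comp_apply, h1]
      rw [hfg y hyP])
    (by
      intro P s hP hs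
      have hs' : ac α⁻¹ s ∈ S := ac_mem _ hs
      have h1 := mi_conj (F := E) (P := im α⁻¹ P) im_le hs'
      have h2 : ∀ x ∈ im α⁻¹ P, ac α⁻¹ s * x * (ac α⁻¹ s)⁻¹ = (ac α⁻¹ ∘ (fun x => s * x * s⁻¹) ∘ ac α) x := by
        intro x hx
        have hxS : x ∈ S := im_le hx
        have hm := (mi_ac (F := F) (P := S) le_rfl).mpr ((F.autGroup S).inv_mem hα)
        change _ = ac α⁻¹ (s * ac α x * s⁻¹)
        rw [hm.map_mul (S.mul_mem hs (ac_mem _ hxS)) (S.inv_mem hs), hm.map_mul hs (ac_mem _ hxS), hm.map_inv hs, ac_inv_ac α hxS]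
      have h3 := h1.congr h2
      have h4 : Mi F (im α⁻¹ P) (im α⁻¹ (P.map (MulAut.conj s).toMonoidHom)) (ac α⁻¹ ∘ (fun x => s * x * s⁻¹) ∘ ac α) := by
        have h5 := mi_im (F := F) hα (P := im α⁻¹ P) im_le
        rw [im_im_inv hP] at h5
        have h6 := mi_conj (F := F) hP hs
        exact (h5.comp h6).comp (mi_im ((F.autGroup S).inv_mem hα) h6.le')
      rw [h4.range_unique h3 (fun _ _ => rfl)]
      exact h3)
    (by
      intro P Q R f g hf hg h1 h2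
      refine (h1.comp h2).congr fun x hx => ?_
      change ac α⁻¹ (g (ac α (ac α⁻¹ (f (ac α x))))) = ac α⁻¹ (g (f (ac α x)))
      have hx' : ac α x ∈ P := by
        have h5 := mi_im (F := F) hα (P := im α⁻¹ P) im_le
        rw [im_im_inv hf.le] at h5
        exact h5.mem hx
      rw [ac_ac_inv α (hf.le' (hf.mem hx'))])
    (by
      intro P Q f g hf hg hgf h1
      refine h1.symm_of fun x hx => ?_
      have hx' : ac α x ∈ P := by
        have h5 := mi_im (F := F) hα (P := im α⁻¹ P) im_le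
        rw [im_im_inv hf.le] at h5
        exact h5.mem hx
      change ac α⁻¹ (g (ac α (ac α⁻¹ (f (ac α x))))) = x
      rw [ac_ac_inv α (hf.le' (hf.mem hx')), hgf _ hx', ac_inv_ac α (im_le hx)])
    (by
      intro P Q f P' Q' hf hf' hP h1
      have hle : im α⁻¹ P' ≤ im α⁻¹ P := by
        intro y hy
        obtain ⟨x, hx, rfl⟩ := (mem_im hf'.le).mp hy
        exact (mem_im hf.le).mpr ⟨x, hP hx, rfl⟩
      obtain ⟨R, hR, h2, h3⟩ := h1.restrict hle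
      have h4 : Mi F (im α⁻¹ P') (im α⁻¹ Q') (ac α⁻¹ ∘ f ∘ ac α) := by
        have h5 := mi_im (F := F) hα (P := im α⁻¹ P') im_le
        rw [im_im_inv hf'.le] at h5
        exact (h5.comp hf').comp (mi_im ((F.autGroup S).inv_mem hα) hf'.le')
      rw [h4.range_unique h2 (fun _ _ => rfl)]
      exact h2)

theorem mi_conjSys {E : FusionSystem S} {hE : E.IsSubsystemOf F} {α : MulAut S} {hα : α ∈ F.autGroup S} :
    Mi (conjSys F E hE α hα) P Q f ↔ Mi F P Q f ∧ Mi E (im α⁻¹ P) (im α⁻¹ Q) (ac α⁻¹ ∘ f ∘ ac α) := mi_ofRel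

end

end Cfsg.Agent.L0.Fus
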