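import Cfsg.Agent.L0.Fus.Prime9
import Cfsg.Agent.L0.Fus.SecFree
set_option autoImplicit false
/-! Centric subgroups that are not radical. -/

open Pointwise

namespace Cfsg.Agent.L0.Fus

open Cfsg.Agent.L0 Cfsg.FusionSystem

variable {Ω : Type*} [Group Ω] {S : Subgroup Ω}

section
variable {F : FusionSystem S} {P Q R D D' X X' W W' P' : Subgroup Ω} {f g μ : Ω → Ω} {a b : MulAut S} {p : ℕ}
variable [Fact p.Prime] [Finite S]

/-- two maps agreeing on a centric subgroup have the same values -/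
theorem V.of_agree {G : FusionSystem S} (hS : IsPGroup p S) (hF : F.IsSaturated p) (hG : GD F G) (hP : F.IsCentric P) (hPD : P ≤ D)
    (hf : Mi F D X f) (hg : Mi F D X' g) (hfg : ∀ x ∈ P, f x = g x) (h : V F G D X f a) : V F G D X' g a := by
  obtain ⟨φ, hφ, h1, h2⟩ := hf
  obtain ⟨ψ, hψ, h3, h4⟩ := hg
  obtain ⟨z, hz, hzc, hzy⟩ := maps_agree_centric hS hF _ D P hPD hP φ ψ hφ hψ (fun x hx => by rw [h1, h3]; exact hfg x hx) rfl
  have hDS := hom_le F hφ
  have hzS := hDS z.2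
  have hc : Mi F D D (fun x => (z : Ω) * x * (z : Ω)⁻¹) := by
    refine mi_eq (mi_conj (F := F) hDS hzS) rfl ?_ (fun _ _ => rfl)
    ext y
    constructor
    · rintro ⟨x, hx, rfl⟩
      exact D.mul_mem (D.mul_mem z.2 hx) (D.inv_mem z.2)
    · intro hy
      refine ⟨(z : Ω)⁻¹ * y * z, D.mul_mem (D.mul_mem (D.inv_mem z.2) hy) z.2, ?_⟩
      change (z : Ω) * ((z : Ω)⁻¹ * y * z) * (z : Ω)⁻¹ = y
      group
  have hcV : V F G D D (fun x => (z : Ω) * x * (z : Ω)⁻¹) 1 := by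
    have h1 := mi_conj (F := G) hDS hzS
    have h5 := ((v_one hG).mp h1).2.2
    rwa [← hc.range_unique (h1.mono hG.le) (fun _ _ => rfl)] at h5
  have hfM : Mi F D X f := ⟨φ, hφ, h1, h2⟩
  have h5 := hcV.comp hG hc hfM h
  rw [mul_one] at h5
  have hag : ∀ y ∈ D, (f ∘ fun x => (z : Ω) * x * (z : Ω)⁻¹) y = g y := by
    intro y hy
    have h6 := hzy ⟨y, hy⟩
    rw [h3] at h6
    rw [h6]
    simp only [Function.comp_apply]
    rw [h1]; rfl
  have h7 := h5.congr hag
  have hgM : Mi F D X' g := ⟨ψ, hψ, h3, h4⟩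
  rwa [(hc.comp hfM).range_unique hgM hag] at h7

/-- subgroups between: the preimage of a normal subgroup of the automizer -/
theorem exists_ext_O (hP : F.IsReceptive P) {O : Subgroup (MulAut P)} (hOS : O ≤ autInducedBy S P)
    (hOn : ∀ α ∈ F.autGroup P, ∀ o ∈ O, α * o * α⁻¹ ∈ O)
    (hf : Mi F W W' f) (hPW : P ≤ W) (hW : W ≤ normalizerIn S P) (h1 : Mi F P P f) :
    ∃ g X', Mi F (W ⊔ kNormIn S P O) X' g ∧ ∀ x ∈ P, g x = f x := by
  have hPS := hP.1
  haveI := finite_of_le hPS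
  obtain ⟨α, hα, hαf⟩ := h1.aut
  obtain ⟨φ, hφ, h2, h3⟩ := h1
  obtain ⟨ψ, hψ, h4⟩ := hP.2 P φ hφ h3
  have hle : W ⊔ kNormIn S P O ≤ extender S P φ := by
    refine sup_le ?_ ?_
    · intro w hw
      have hwN := mem_normalizerIn.mp (hW hw)
      refine mem_extender.mpr ⟨hwN.1, hwN.2, f w, hf.le' (hf.mem hw), fun x hx => ?_⟩
      rw [h2, h2]
      rw [← hf.map_inv hw, ← hf.map_mul hw (hPW x.2), ← hf.map_mul (W.mul_mem hw (hPW x.2)) (W.inv_mem hw)]
    · intro w hw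
      obtain ⟨hwS, o, ho, how⟩ := mem_kNormIn'.mp hw
      have hwN := (mem_normalizerIn.mp (kNormIn_le_normalizerIn hw)).2
      obtain ⟨s, hs, hsx⟩ := mem_autInducedBy.mp (hOS (hOn α hα o ho))
      refine mem_extender.mpr ⟨hwS, hwN, s, hs, fun x hx => ?_⟩
      rw [h2, h2]
      change f (w * x * w⁻¹) = s * f x * s⁻¹
      have e1 := hsx (α x)
      have e2 : (α * o * α⁻¹) (α x) = α (o x) := by
        change α (o (α⁻¹ (α x))) = _
        rw [MulAut.inv_apply_self]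
      rw [e2] at e1
      rw [← how x, ← hαf _ (o x).2, ← hαf _ x.2, ac_apply α (o x).2, ac_apply α x.2]
      exact e1
  obtain ⟨X', hX', h5, h6⟩ := (mi_toF.mpr hψ).restrict hle
  refine ⟨_, _, h5, fun x hx => ?_⟩
  rw [toF_apply ψ (hle ((le_sup_left (α := Subgroup Ω)) (hPW hx))), h4 x hx, h2]

omit [Fact p.Prime] in
theorem mi_O {O : Subgroup (MulAut P)} (hP : P ≤ S) (hOn : ∀ α ∈ F.autGroup P, ∀ o ∈ O, α * o * α⁻¹ ∈ O)
    (hf : Mi F W W' f) (hPW : P ≤ W) (hW : kNormIn S P O ≤ W) (h1 : Mi F P P f) :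
    Mi F (kNormIn S P O) (kNormIn S P O) f := by
  haveI := finite_of_le hP
  obtain ⟨α, hα, hαf⟩ := h1.aut
  refine mi_of_maps hf hW fun w hw => ?_
  obtain ⟨hwS, o, ho, how⟩ := mem_kNormIn'.mp hw
  have hwW := hW hw
  refine mem_kNormIn'.mpr ⟨hf.le' (hf.mem hwW), α * o * α⁻¹, hOn α hα o ho, fun x => ?_⟩
  obtain ⟨y, rfl⟩ := α.surjective x
  have e2 : (α * o * α⁻¹) (α y) = α (o y) := by
    change α (o (α⁻¹ (α y))) = _
    rw [MulAut.inv_apply_self]
  rw [e2, ← ac_apply α (o y).2, ← ac_apply α y.2, hαf _ (o y).2, hαf _ y.2, how y,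
    hf.map_mul (W.mul_mem hwW (hPW y.2)) (W.inv_mem hwW), hf.map_mul hwW (hPW y.2), hf.map_inv hwW]

/-- the core of the automizer of a nonradical subgroup -/
theorem core_facts (hS : IsPGroup p S) (hF : F.IsSaturated p) (hP : F.IsFullyNormalized P) (hr : ¬ F.IsRadical p P) :
    ∃ O : Subgroup (MulAut P), O ≤ autInducedBy S P ∧ (∀ α ∈ F.autGroup P, ∀ o ∈ O, α * o * α⁻¹ ∈ O) ∧ Inn P ≤ O ∧ ∃ o ∈ O, o ∉ Inn P := by
  have hPS := hP.1
  haveI := finite_of_le hPS
  haveI := finite_autGroup (S := S) hPS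
  haveI : Finite (F.autGroup P) := inferInstance
  set O : Subgroup (MulAut P) := (pCore p (F.autGroup P)).map (F.autGroup P).subtype with hO
  have hn : ∀ α ∈ F.autGroup P, ∀ o ∈ O, α * o * α⁻¹ ∈ O := by
    rintro α hα _ ⟨o, ho, rfl⟩
    have hN : (pCore p (F.autGroup P)).Normal := inferInstance
    exact ⟨_, hN.conj_mem o ho ⟨α, hα⟩, rfl⟩
  have hInn : Inn P ≤ O := by
    intro x hx
    have h1 := inn_le_autGroup (F := F) hPS hx
    exact ⟨⟨x, h1⟩, isPGroup_inn' hS hPS (Subgroup.mem_subgroupOf.mpr hx), rfl⟩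
  have hsyl := isSylowIn_autInducedBy (fullyAutomized_of_fullyNormalized_sat hS hF hP)
  have hOA : O ≤ F.autGroup P := Subgroup.map_subtype_le _
  refine ⟨O, ?_, hn, hInn, ?_⟩
  · refine IsSylowIn.normal_le hsyl ((pCore_isPGroup p _).map _) hOA fun α hα => ?_
    rw [Subgroup.mem_normalizer_iff]
    intro o
    refine ⟨hn α hα o, fun h => ?_⟩
    have h1 := hn α⁻¹ (Subgroup.inv_mem _ hα) _ h
    have h2 : α⁻¹ * (α * o * α⁻¹) * α⁻¹⁻¹ = o := by group
    rwa [h2] at h1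
  · by_contra hcon
    push Not at hcon
    exact hr ⟨hPS, le_antisymm hcon hInn⟩


theorem mem_aut_conj {G : FusionSystem S} (hG : GD F G) (hb : b ∈ F.autGroup S) (ha : a ∈ G.autGroup S) : b * a * b⁻¹ ∈ G.autGroup S := by
  rw [← mi_ac le_rfl] at ha ⊢
  have h1 := hG.inv b hb _ _ _ ha
  rw [im_self] at h1
  refine h1.congr fun x hx => ?_
  simp only [Function.comp_apply]
  rw [ac_mul _ _ hx, ac_mul _ _ (ac_mem _ hx)]

/-- uniqueness of values for all centric subgroups -/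
theorem uq_good (hS : IsPGroup p S) (hF : F.IsSaturated p) {good : Subgroup Ω → Prop} (hgc : ∀ P, good P → F.IsCentric P)
    (hgi : ∀ P Q, F.IsConj P Q → good P → good Q) (hgr : ∀ P, F.IsCentric P → F.IsRadical p P → good P) (hgS : good S)
    (hG : GD F (gSys F p good good)) (hfr : ∀ P Q f, Mi F P Q f → ∃ a, V F (gSys F p good good) P Q f a) (n : ℕ) :
    ∀ P, F.IsCentric P → Nat.card S - Nat.card P = n → ∀ c, V F (gSys F p good good) P P id c → c ∈ (gSys F p good good).autGroup S := by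
  induction n using Nat.strong_induction_on with
  | _ n ih =>
  intro P hPc hn c hc
  have hcls := gSys_cls (F := F) (p := p) (Y := good) (fun P hP => (hgc P hP).1)
  set G := gSys F p good good with hGdef
  have hPS := hPc.1
  have hgood : ∀ Q, good Q → ∀ c, V F G Q Q id c → c ∈ G.autGroup S := by
    intro Q hQ c hc
    have h1 := hcls.2.2 Q hQ _ ((F.autGroup S).inv_mem hc.1) ⟨_, hc.2⟩
    have h2 := (G.autGroup S).inv_mem h1
    rwa [inv_inv] at h2
  by_cases hPg : good P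
  · exact hgood P hPg c hc
  · obtain ⟨P₁, hPP₁, hP₁⟩ := exists_fullyNormalized (F := F) hPS
    obtain ⟨f, hf⟩ := exists_mi_of_isConj hPP₁
    obtain ⟨b, hb⟩ := hfr _ _ _ hf
    obtain ⟨fi, hfi, hfi1, hfi2⟩ := hf.symm
    have hP₁S := hP₁.1
    have h1 : V F G P₁ P₁ id (b * (c * b⁻¹)) :=
      (((hb.symm_of hG hf hfi1).comp hG hfi (Mi.refl hPS) hc).comp hG hfi hf hb).congr fun x hx => hfi2 x hx
    have hP₁c : F.IsCentric P₁ := by
      obtain ⟨φ, hφ, h2⟩ := hPP₁
      rw [← h2]; exact centric_range hPc hφ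
    have hP₁g : ¬ good P₁ := fun h => hPg (hgi _ _ (isConj_symm hPP₁) h)
    have hcardP : Nat.card P = Nat.card P₁ := hf.card
    suffices h2 : b * (c * b⁻¹) ∈ G.autGroup S by
      have h3 := mem_aut_conj hG ((F.autGroup S).inv_mem hb.1) h2
      have h4 : b⁻¹ * (b * (c * b⁻¹)) * b⁻¹⁻¹ = c := by group
      rwa [h4] at h3
    haveI := finite_of_le hP₁S
    obtain ⟨O, hOS, hOn, hInn, o, hoO, hoI⟩ := core_facts hS hF hP₁ (fun h => hP₁g (hgr _ hP₁c h))
    have hPS' : P₁ < S := lt_of_le_of_ne hP₁S fun h => hP₁g (by rw [h]; exact hgS)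
    set H := kNormIn S P₁ O with hH
    have hPH : P₁ ≤ H := le_kNormIn_of_inn hP₁S hInn
    have hHN : H ≤ normalizerIn S P₁ := kNormIn_le_normalizerIn
    have hHS : H ≤ S := kNormIn_le
    haveI : Finite H := finite_of_le hHS
    have hPHlt : P₁ < H := by
      refine lt_of_le_of_ne hPH fun h => hoI ?_
      obtain ⟨s, hs, hsx⟩ := mem_autInducedBy.mp (hOS hoO)
      have hsH : s ∈ H := mem_kNormIn'.mpr ⟨hs, o, hoO, hsx⟩
      rw [← h] at hsH
      rw [mem_Inn]
      exact ⟨⟨s, hsH⟩, fun y => Subtype.ext (hsx y)⟩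
    have hrec := receptive_of_fullyNormalized_sat hS hF hP₁
    have huq : ∀ D, P₁ < D → D ≤ S → ∀ c, V F G D D id c → c ∈ G.autGroup S := by
      intro D hD hDS
      haveI := finite_of_le hDS
      have h5 := card_lt_of_lt hD
      have h6 := Subgroup.card_le_of_le hDS
      exact ih (Nat.card S - Nat.card D) (by omega) D (centric_of_ge hP₁c hD.le hDS) rfl
    let TH : (Ω → Ω) → MulAut S → Prop := fun f a => Mi F P₁ P₁ f ∧ ∃ χ, Mi F H H χ ∧ (∀ x ∈ P₁, χ x = f x) ∧ V F G H H χ a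
    have htr := trick (XX := good) (YY := good) hS hF (fun P hP => (hgc P hP).1) hG hfr hP₁ hPS'
      (fun Q hQ hQg => hP₁g (hgi _ _ hQ hQg)) TH
      (by
        rintro f g a hfg ⟨h1, χ, h2, h3, h4⟩
        exact ⟨h1.congr hfg, χ, h2, fun x hx => (h3 x hx).trans (hfg x hx), h4⟩)
      (by
        rintro f g a b ⟨h1, χ, h2, h3, h4⟩ ⟨h5, ψ, h6, h7, h8⟩
        refine ⟨h1.comp h5, ψ ∘ χ, h2.comp h6, fun x hx => ?_, h4.comp hG h2 h6 h8⟩
        simp only [Function.comp_apply]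
        rw [h3 x hx, h7 _ (h1.mem hx)])
      (by
        rintro f g a ⟨h1, χ, h2, h3, h4⟩ hg
        obtain ⟨ψ, h5, h6, h7⟩ := h2.symm
        refine ⟨h1.symm_of hg, ψ, h5, fun y hy => ?_, h4.symm_of hG h2 h6⟩
        obtain ⟨x, hx, rfl⟩ := h1.surj hy
        rw [hg x hx, ← h3 x hx, h6 x (hPH hx)])
      (by
        intro D D' f b hPD hDN hf h1 hfb
        obtain ⟨g, X', hg, hgf⟩ := exists_ext_O hrec hOS hOn hf hPD.le hDN h1
        obtain ⟨m, hm⟩ := hfr _ _ _ hg
        have hg1 : Mi F P₁ P₁ g := h1.congr fun x hx => (hgf x hx).symm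
        obtain ⟨Z, hZ, hgZ, hgZ'⟩ := hg.restrict (le_sup_left : D ≤ D ⊔ H)
        have h2 := V.of_agree hS hF hG hP₁c hPD.le hgZ hf hgf (hm.restrict hG le_sup_left hgZ)
        obtain ⟨fi, hfi, hfi1, hfi2⟩ := hf.symm
        have h3 : V F G D D id (m⁻¹ * b) := (hfb.comp hG hf hfi (h2.symm_of hG hf hfi1)).congr fun x hx => hfi1 x hx
        have h4 := huq D hPD hf.le _ h3
        have h5 := hm.mul_right hG hg.le' (fun x hx => hg.le' (hg.mem hx)) h4
        rw [mul_inv_cancel_left] at h5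
        have h6 := mi_O hP₁S hOn hg (hPD.le.trans le_sup_left) (le_sup_right : H ≤ D ⊔ H) hg1
        exact ⟨h1, g, h6, hgf, h5.restrict hG le_sup_right h6⟩)
    obtain ⟨-, χ, hχ, hχ1, hχV⟩ := htr _ h1
    have h2 := V.of_agree hS hF hG hP₁c hPH hχ (Mi.refl hHS) hχ1 hχV
    exact huq H hPHlt hHS _ h2

theorem std_good (hS : IsPGroup p S) (hF : F.IsSaturated p) {good : Subgroup Ω → Prop} (hgc : ∀ P, good P → F.IsCentric P)
    (hgi : ∀ P Q, F.IsConj P Q → good P → good Q) (hgr : ∀ P, F.IsCentric P → F.IsRadical p P → good P) (hgS : good S) :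
    Std F (gSys F p good good) p := by
  have hinv : ∀ α ∈ F.autGroup S, ∀ P, good P → good (im α P) := fun α hα P hP => hgi _ _ (mi_im hα (hgc P hP).1).isConj hP
  have hG : GD F (gSys F p good good) := gSys_gd (fun P hP => (hgc P hP).1) hinv (fun P hP => (hgc P hP).1) hinv
  have hfr : ∀ P Q f, Mi F P Q f → ∃ a, V F (gSys F p good good) P Q f a := fun P Q f hf =>
    frattini_gSys hS hF (fun P hP => (hgc P hP).1) hinv (fun P hP => (hgc P hP).1) hinv
      (fun P hP => hgr P hP.1 (essential_radical hS hP)) hf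
  exact
    { toGD := hG
      pel := fun P hP α hα hk => p_elt_mem hS hF hG hfr hP.1 hα hk
      fr := hfr
      uq := fun P hP a ha Q hQ => by
        have h0 := mi_im ha hP.1
        have h1 : V F (gSys F p good good) P P id a⁻¹ := by
          refine ⟨(F.autGroup S).inv_mem ha, ?_⟩
          rw [inv_inv, ← (hQ.mono hG.le).range_unique h0 (fun _ _ => rfl)]
          exact hQ
        have h2 := Subgroup.inv_mem _ (uq_good hS hF hgc hgi hgr hgS hG hfr _ P hP rfl _ h1)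
        rwa [inv_inv] at h2 }

theorem gC_le_good (hS : IsPGroup p S) (hF : F.IsSaturated p) {good : Subgroup Ω → Prop} (hgc : ∀ P, good P → F.IsCentric P)
    (hgi : ∀ P Q, F.IsConj P Q → good P → good Q) (hgr : ∀ P, F.IsCentric P → F.IsRadical p P → good P) (hgS : good S) :
    (gC F p).IsSubsystemOf (gSys F p good good) := by
  have h := std_good hS hF hgc hgi hgr hgS
  exact gSys_le_of ⟨h.le, fun P hP α hα hk => h.pel P hP α hα hk, fun P hP a ha ⟨Q, hQ⟩ => h.uq P hP a ha Q hQ⟩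

end

end Cfsg.Agent.L0.Fus
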