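import Cfsg.Agent.L0.Fus.Prime1
set_option autoImplicit false
/-! The least system containing the `p`-automorphisms; values in `Aut_F(S)`. -/

open Pointwise

namespace Cfsg.Agent.L0.Fus

open Cfsg.Agent.L0 Cfsg.FusionSystem

variable {Ω : Type*} [Group Ω] {S : Subgroup Ω}

/-- `f` has value `a`: `a⁻¹ f` is in `G`. -/
def V (F G : FusionSystem S) (P Q : Subgroup Ω) (f : Ω → Ω) (a : MulAut S) : Prop :=
  a ∈ F.autGroup S ∧ Mi G P (im a⁻¹ Q) (ac a⁻¹ ∘ f)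

structure GD (F G : FusionSystem S) : Prop where
  le : G.IsSubsystemOf F
  inv : ∀ α ∈ F.autGroup S, ∀ P Q f, Mi G P Q f → Mi G (im α P) (im α Q) (ac α ∘ f ∘ ac α⁻¹)

section
variable {F G : FusionSystem S} {P Q R : Subgroup Ω} {f g : Ω → Ω} {a b : MulAut S}

theorem mi_eq {G : FusionSystem S} {P P' Q Q' : Subgroup Ω} {f g : Ω → Ω} (h : Mi G P Q f) (hP : P = P') (hQ : Q = Q')
    (hfg : ∀ x ∈ P, f x = g x) : Mi G P' Q' g := by
  subst hP; subst hQ; exact h.congr hfg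

theorem V.mi (hG : GD F G) (hQ : Q ≤ S) (h : V F G P Q f a) (hf : ∀ x ∈ P, f x ∈ S) : Mi F P Q f := by
  obtain ⟨ha, h1⟩ := h
  have h2 := (h1.mono hG.le).comp (mi_im ha im_le)
  refine mi_eq h2 rfl (im_im_inv hQ) fun x hx => ac_ac_inv a (hf x hx)

theorem V.congr (h : V F G P Q f a) (hfg : ∀ x ∈ P, f x = g x) : V F G P Q g a :=
  ⟨h.1, h.2.congr fun x hx => by simp only [Function.comp_apply, hfg x hx]⟩

theorem V.comp (hG : GD F G) (hf : Mi F P Q f) (hg : Mi F Q R g) (h1 : V F G P Q f a) (h2 : V F G Q R g b) : V F G P R (g ∘ f) (b * a) := by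
  refine ⟨(F.autGroup S).mul_mem h2.1 h1.1, ?_⟩
  have h3 := hG.inv a⁻¹ ((F.autGroup S).inv_mem h1.1) _ _ _ h2.2
  refine mi_eq (h1.2.comp h3) rfl ?_ fun x hx => ?_
  · rw [mul_inv_rev, im_mul hg.le']
  · have hfx := hf.mem hx
    have hfS := hf.le' hfx
    simp only [Function.comp_apply, inv_inv]
    rw [ac_ac_inv a hfS, mul_inv_rev, ac_mul _ _ (hg.le' (hg.mem hfx))]

theorem V.symm_of (hG : GD F G) (hf : Mi F P Q f) (hgf : ∀ x ∈ P, g (f x) = x) (h : V F G P Q f a) : V F G Q P g a⁻¹ := by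
  refine ⟨(F.autGroup S).inv_mem h.1, ?_⟩
  rw [inv_inv]
  obtain ⟨k, hk, hk1, hk2⟩ := h.2.symm
  have h3 := hG.inv a h.1 _ _ _ hk
  refine mi_eq h3 (im_im_inv hf.le') rfl fun y hy => ?_
  rw [im_im_inv hf.le'] at hy
  obtain ⟨x, hx, rfl⟩ := hf.surj hy
  simp only [Function.comp_apply]
  have h4 := hk1 x hx
  simp only [Function.comp_apply] at h4
  rw [h4, hgf x hx]

theorem v_one (hG : GD F G) : Mi G P Q f ↔ (Q ≤ S ∧ (∀ x ∈ P, f x ∈ S) ∧ V F G P Q f 1) := by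
  constructor
  · intro h
    refine ⟨h.le', fun x hx => h.le' (h.mem hx), (F.autGroup S).one_mem, ?_⟩
    refine mi_eq h rfl ?_ fun x hx => ?_
    · rw [inv_one, im_one h.le']
    · simp only [Function.comp_apply]
      rw [inv_one, ac_one (h.le' (h.mem hx))]
  · rintro ⟨hQ, hf, -, h⟩
    refine mi_eq h rfl ?_ fun x hx => ?_
    · rw [inv_one, im_one hQ]
    · simp only [Function.comp_apply]
      rw [inv_one, ac_one (hf x hx)]

theorem V.restrict (hG : GD F G) (h : V F G P Q f a) {P' Q' : Subgroup Ω} (hP : P' ≤ P) (hf : Mi F P' Q' f) : V F G P' Q' f a := by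
  refine ⟨h.1, ?_⟩
  obtain ⟨R, hR, h1, h2⟩ := h.2.restrict hP
  have h3 : Mi F P' (im a⁻¹ Q') (ac a⁻¹ ∘ f) := hf.comp (mi_im ((F.autGroup S).inv_mem h.1) hf.le')
  rw [h3.range_unique h1 (fun _ _ => rfl)]
  exact h1

theorem v_ac (ha : a ∈ F.autGroup S) (hP : P ≤ S) : V F G P (im a P) (ac a) a := by
  refine ⟨ha, ?_⟩
  refine mi_eq (Mi.refl (F := G) hP) rfl (im_inv_im hP).symm fun x hx => ?_
  exact (ac_inv_ac a (hP hx)).symm

theorem V.mul_right (h : V F G P Q f a) (hG : GD F G) (hQ : Q ≤ S) (hf : ∀ x ∈ P, f x ∈ S) (hb : b ∈ G.autGroup S) : V F G P Q f (a * b) := by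
  have hbF : b ∈ F.autGroup S := (mi_ac le_rfl).mp (((mi_ac le_rfl).mpr hb).mono hG.le)
  refine ⟨(F.autGroup S).mul_mem h.1 hbF, ?_⟩
  have h1 := h.2.comp (mi_im ((G.autGroup S).inv_mem hb) im_le)
  refine mi_eq h1 rfl ?_ fun x hx => ?_
  · rw [mul_inv_rev, im_mul hQ]
  · simp only [Function.comp_apply]
    rw [mul_inv_rev, ac_mul _ _ (hf x hx)]

theorem v_conj (hG : GD F G) (hP : P ≤ S) {s : Ω} (hs : s ∈ S) : V F G P (P.map (MulAut.conj s).toMonoidHom) (fun x => s * x * s⁻¹) 1 :=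
  ((v_one hG).mp (mi_conj (F := G) hP hs)).2.2

theorem v_id (hG : GD F G) (hP : P ≤ S) : V F G P P id 1 := ((v_one hG).mp (Mi.refl (F := G) hP)).2.2

/-- uniqueness of values -/
theorem V.uniq (hG : GD F G) (hf : Mi F P Q f) (hb : ∀ a ∈ F.autGroup S, ∀ Q', Mi G P Q' (ac a) → a ∈ G.autGroup S)
    (h1 : V F G P Q f a) (h2 : V F G P Q f b) : a⁻¹ * b ∈ G.autGroup S := by
  obtain ⟨k, hk, hk1, hk2⟩ := hf.symm
  have h3 := h2.symm_of hG hf hk1
  have h4 := h1.comp hG hf hk h3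
  have h5 : V F G P P id (b⁻¹ * a) := h4.congr fun x hx => hk1 x hx
  have h6 := h5.2
  rw [mul_inv_rev, inv_inv] at h6
  exact hb _ ((F.autGroup S).mul_mem ((F.autGroup S).inv_mem h1.1) h2.1) _ h6

end

/-- the class of systems. -/
def PCls (F : FusionSystem S) (p : ℕ) (X Y : Subgroup Ω → Prop) (E : FusionSystem S) : Prop :=
  E.IsSubsystemOf F ∧ (∀ P, X P → ∀ α ∈ F.autGroup P, (∃ k, orderOf α = p ^ k) → α ∈ E.autGroup P) ∧
    ∀ P, Y P → ∀ a ∈ F.autGroup S, (∃ Q, Mi E P Q (ac a)) → a ∈ E.autGroup S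

def gSys (F : FusionSystem S) (p : ℕ) (X Y : Subgroup Ω → Prop) : FusionSystem S := interSys F (PCls F p X Y)

section
variable {F : FusionSystem S} {p : ℕ} {X Y : Subgroup Ω → Prop}

theorem gSys_cls (hX : ∀ P, X P → P ≤ S) : PCls F p X Y (gSys F p X Y) := by
  refine ⟨interSys_le', fun P hP α hα hk => ?_, fun P hP a ha ⟨Q, hQ⟩ => ?_⟩
  · rw [← mi_ac (hX P hP)] at hα ⊢
    refine mi_interSys.mpr ⟨hα, fun E hE => ?_⟩
    exact (mi_ac (hX P hP)).mpr (hE.2.1 P hP α ((mi_ac (hX P hP)).mp hα) hk)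
  · rw [← mi_ac le_rfl] at ha ⊢
    refine mi_interSys.mpr ⟨ha, fun E hE => ?_⟩
    exact (mi_ac le_rfl).mpr (hE.2.2 P hP a ((mi_ac le_rfl).mp ha) ⟨Q, (mi_interSys.mp hQ).2 E hE⟩)

theorem gSys_le_of {E : FusionSystem S} (hE : PCls F p X Y E) : (gSys F p X Y).IsSubsystemOf E := interSys_le hE

theorem cls_conj (hX : ∀ P, X P → P ≤ S) (hXi : ∀ α ∈ F.autGroup S, ∀ P, X P → X (im α P))
    (hY : ∀ P, Y P → P ≤ S) (hYi : ∀ α ∈ F.autGroup S, ∀ P, Y P → Y (im α P)) {E : FusionSystem S} (hE : PCls F p X Y E)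
    {α : MulAut S} (hα : α ∈ F.autGroup S) : PCls F p X Y (conjSys F E hE.1 α hα) := by
  have hα' := (F.autGroup S).inv_mem hα
  refine ⟨fun P φ h => h.1, fun P hP β hβ hk => ?_, fun P hP a ha ⟨Q, hQ⟩ => ?_⟩
  · rw [← mi_ac (hX P hP)] at hβ ⊢
    refine mi_conjSys.mpr ⟨hβ, ?_⟩
    have h1 := mi_im (F := F) hα' (hX P hP)
    obtain ⟨e, he, hex⟩ := mi_iff_iso.mp h1
    have hβ' : autCongr e β ∈ F.autGroup (im α⁻¹ P) := autCongr_mem he ((mi_ac (hX P hP)).mp hβ)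
    have h2 := hE.2.1 _ (hXi _ hα' P hP) _ hβ' (by
      obtain ⟨k, hk⟩ := hk
      exact ⟨k, by rw [MulEquiv.orderOf_eq]; exact hk⟩)
    have h3 := (mi_ac im_le).mpr h2
    refine h3.congr fun y hy => ?_
    rw [ac_apply _ hy, autCongr_apply]
    obtain ⟨x, hx, hxy⟩ := (mem_im (hX P hP)).mp hy
    have h4 : e.symm ⟨y, hy⟩ = ⟨x, hx⟩ := by
      rw [MulEquiv.symm_apply_eq]
      apply Subtype.ext
      rw [hex]; exact hxy.symm
    rw [h4, hex]
    simp only [Function.comp_apply]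
    rw [← hxy, ac_ac_inv α (hX P hP hx), ac_apply β hx]
  · have h1 := (mi_conjSys.mp hQ).2
    have haA := (F.autGroup S).mul_mem ((F.autGroup S).mul_mem hα' ha) hα
    have h2 := hE.2.2 _ (hYi _ hα' P hP) (α⁻¹ * a * α) haA ⟨_, h1.congr fun x hx => by
      have hxS : x ∈ S := im_le hx
      simp only [Function.comp_apply]
      rw [ac_mul _ _ hxS, ac_mul _ _ (ac_mem _ hxS)]⟩
    rw [← mi_ac le_rfl] at h2 ha ⊢
    refine mi_conjSys.mpr ⟨ha, ?_⟩
    rw [im_self]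
    refine h2.congr fun x hx => ?_
    simp only [Function.comp_apply]
    rw [ac_mul _ _ hx, ac_mul _ _ (ac_mem _ hx)]

theorem gSys_gd (hX : ∀ P, X P → P ≤ S) (hXi : ∀ α ∈ F.autGroup S, ∀ P, X P → X (im α P))
    (hY : ∀ P, Y P → P ≤ S) (hYi : ∀ α ∈ F.autGroup S, ∀ P, Y P → Y (im α P)) : GD F (gSys F p X Y) := by
  refine ⟨interSys_le', fun α hα P Q f h => ?_⟩
  obtain ⟨h1, h2⟩ := mi_interSys.mp h
  have hα' := (F.autGroup S).inv_mem hα
  refine mi_interSys.mpr ⟨?_, fun E hE => ?_⟩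
  · have h3 := mi_im (F := F) hα' (P := im α P) im_le
    rw [im_inv_im h1.le] at h3
    exact (h3.comp h1).comp (mi_im hα h1.le')
  · have h3 := (mi_conjSys.mp (h2 _ (cls_conj hX hXi hY hYi hE hα'))).2
    simp only [inv_inv] at h3
    exact h3

/-- Frattini: every map has a value. -/
theorem frattini_gSys [Finite S] [Fact p.Prime] (hS : IsPGroup p S) (hF : F.IsSaturated p) (hX : ∀ P, X P → P ≤ S)
    (hXi : ∀ α ∈ F.autGroup S, ∀ P, X P → X (im α P))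
    (hY : ∀ P, Y P → P ≤ S) (hYi : ∀ α ∈ F.autGroup S, ∀ P, Y P → Y (im α P)) (hXe : ∀ P, F.IsEssential p P → X P)
    {P Q : Subgroup Ω} {f : Ω → Ω} (hf : Mi F P Q f) : ∃ a, V F (gSys F p X Y) P Q f a := by
  have hG := gSys_gd (F := F) (p := p) hX hXi hY hYi
  set G := gSys F p X Y with hGdef
  let D : FusionSystem S := ofRel F (fun P Q f => ∃ a, V F G P Q f a)
    (fun P Q f g hfg ⟨a, h⟩ => ⟨a, h.congr hfg⟩)
    (fun P s hP hs => ⟨1, v_conj hG hP hs⟩)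
    (fun P Q R f g hf hg ⟨a, h1⟩ ⟨b, h2⟩ => ⟨b * a, h1.comp hG hf hg h2⟩)
    (fun P Q f g hf hg hgf ⟨a, h⟩ => ⟨a⁻¹, h.symm_of hG hf hgf⟩)
    (fun P Q f P' Q' hf hf' hP ⟨a, h⟩ => ⟨a, h.restrict hG hP hf'⟩)
  have hGD : ∀ P Q f, Mi G P Q f → Mi D P Q f := fun P Q f h =>
    mi_ofRel.mpr ⟨h.mono hG.le, 1, ((v_one hG).mp h).2.2⟩
  have hFD : F ≤ D := by
    refine essential_induction hS hF D fun R hR hbig => ?_
    by_cases hRS : R = S
    · subst hRS
      intro α hα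
      rw [← mi_ac le_rfl]
      have h1 := (mi_ac (F := F) le_rfl).mpr hα
      refine mi_ofRel.mpr ⟨h1, α, ?_⟩
      have := v_ac (G := G) hα (le_refl R)
      rwa [im_self] at this
    · have hRe : F.IsEssential p R := hR.resolve_left hRS
      have hRS' : R ≤ S := hRe.1.1
      haveI := finite_of_le hRS'
      haveI := finite_autGroup (S := S) hRS'
      have hlt := lt_normalizerIn hS (lt_of_le_of_ne hRS' hRS)
      obtain ⟨a, haN, haR⟩ := SetLike.exists_of_lt hlt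
      obtain ⟨haS, han⟩ := mem_normalizerIn.mp haN
      have hcl := gSys_cls (F := F) (p := p) (Y := Y) hX
      set K := Subgroup.closure {β : MulAut R | β ∈ F.autGroup R ∧ ∃ k, orderOf β = p ^ k} with hK
      have hKD : K ≤ D.autGroup R := by
        rw [hK, Subgroup.closure_le]
        rintro β ⟨hβ, hk⟩
        have h1 := hcl.2.1 R (hXe R hRe) β hβ hk
        exact (mi_ac hRS').mp (hGD _ _ _ ((mi_ac hRS').mpr h1))
      refine aut_le_of_normal hS hF hRe.2.1 (hRe.1.2 R (isConj_refl hRS')) D hbig K ?_ ?_ hKD haS han haR ?_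
      · rw [hK, Subgroup.closure_le]
        rintro β ⟨hβ, -⟩; exact hβ
      · intro α hα κ hκ
        have h1 : K.map (MulAut.conj α).toMonoidHom ≤ K := by
          rw [hK, MonoidHom.map_closure, Subgroup.closure_le]
          rintro _ ⟨β, ⟨hβ, k, hk⟩, rfl⟩
          apply Subgroup.subset_closure
          refine ⟨(F.autGroup R).mul_mem ((F.autGroup R).mul_mem hα hβ) ((F.autGroup R).inv_mem hα), k, ?_⟩
          rw [← hk]
          exact MulEquiv.orderOf_eq (MulAut.conj α) β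
        exact h1 ⟨κ, hκ, rfl⟩
      · apply Subgroup.subset_closure
        have hτ : R.normalizerMonoidHom ⟨a, han⟩ ∈ autInducedBy S R := mem_autInducedBy.mpr ⟨a, haS, fun x => rfl⟩
        refine ⟨autInducedBy_le_autGroup F hRS' hτ, ?_⟩
        have hpg := isPGroup_autInducedBy (p := p) hS hRS'
        obtain ⟨k, hk⟩ := IsPGroup.iff_orderOf.mp hpg ⟨_, hτ⟩
        exact ⟨k, by rw [← hk, Subgroup.orderOf_mk]⟩
  have h1 : Mi D P Q f := hf.mono hFD
  exact (mi_ofRel.mp h1).2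

end

end Cfsg.Agent.L0.Fus
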