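import Cfsg.Agent.L0.Fus.Prime2
import Cfsg.Agent.L0.Fus.Subn
import Cfsg.Agent.L0.Fus.Norm3
set_option autoImplicit false
/-! Tools for values. -/

open Pointwise

namespace Cfsg.Agent.L0.Fus

open Cfsg.Agent.L0 Cfsg.FusionSystem

variable {Ω : Type*} [Group Ω] {S : Subgroup Ω}

section
variable {F G : FusionSystem S} {P Q R D D' X X' : Subgroup Ω} {f g μ : Ω → Ω} {a b : MulAut S} {p : ℕ} [Fact p.Prime] [Finite S]

omit [Fact p.Prime] [Finite S] in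
theorem kNormIn_induced (hRN : R ≤ normalizerIn S P) (hCR : centralizerIn S P ≤ R) [Finite P] : kNormIn S P (autInducedBy R P) = R := by
  ext g
  rw [mem_kNormIn']
  constructor
  · rintro ⟨hgS, κ, hκ, h⟩
    obtain ⟨r, hr, hrx⟩ := mem_autInducedBy.mp hκ
    have h1 : r⁻¹ * g ∈ R := by
      apply hCR
      rw [mem_centralizerIn]
      refine ⟨S.mul_mem (S.inv_mem (hRN hr).1) hgS, fun x hx => ?_⟩
      have h2 := (hrx ⟨x, hx⟩).symm.trans (h ⟨x, hx⟩)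
      change r * x * r⁻¹ = g * x * g⁻¹ at h2
      have h3 : x * (r⁻¹ * g) = r⁻¹ * (r * x * r⁻¹) * g := by group
      rw [h3, h2]; group
    have h2 := R.mul_mem hr h1
    rwa [mul_inv_cancel_left] at h2
  · intro hg
    have hgN := (mem_normalizerIn.mp (hRN hg))
    exact ⟨hgN.1, P.normalizerMonoidHom ⟨g, hgN.2⟩, mem_autInducedBy.mpr ⟨g, hg, fun x => rfl⟩, fun x => rfl⟩

omit [Fact p.Prime] in
theorem fullyK_of_le (hP : F.IsFullyCentralized P) {K : Subgroup (MulAut P)} (hK : K ≤ autInducedBy S P) : FullyK F P K := by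
  haveI := finite_of_le hP.1
  refine ⟨hP.1, fun R e he => ?_⟩
  haveI := finite_of_le he.le_right
  haveI := finite_autGroup (S := S) he.le_right
  haveI := finite_autGroup (S := S) hP.1
  rw [card_kNormIn, card_kNormIn]
  refine Nat.mul_le_mul ?_ (hP.2 R (isConj_iff.mpr ⟨e, he⟩))
  refine (Subgroup.card_le_of_le inf_le_right).trans ?_
  rw [inf_eq_right.mpr hK]
  exact (Nat.card_congr (K.equivMapOfInjective _ (autCongr e).injective).toEquiv).ge

/-- Frattini in the `K`-normalizer of `P`. -/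
theorem tool_aux (hS : IsPGroup p S) (hF : F.IsSaturated p) (hGp : ∀ P, F.IsCentric P → ∀ α ∈ F.autGroup P, (∃ k, orderOf α = p ^ k) → α ∈ G.autGroup P)
    (hP : F.IsFullyCentralized P) {K : Subgroup (MulAut P)} (hInn : Inn P ≤ K) (hK : K ≤ autInducedBy S P) (hR : R = kNormIn S P K)
    (hPD : P ≤ D) (hDR : D ≤ R) (hD'R : D' ≤ R) (hf : Mi F D D' f) {κ : MulAut P} (hκ : κ ∈ K) (hfκ : ∀ x : P, f x = κ x) :
    ∃ α ∈ F.autGroup R, (∃ κ ∈ K, ∀ x : P, ac α x = κ x) ∧ ∃ D₁, Mi G D D₁ (ac α⁻¹ ∘ f) := by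
  subst hR
  have hPS := hP.1
  haveI : Finite P := finite_of_le hPS
  have hPR := le_kNormIn_of_inn hPS hInn
  have hRS : kNormIn S P K ≤ S := kNormIn_le
  haveI : Finite ↥(kNormIn S P K) := finite_of_le hRS
  have hRp : IsPGroup p ↥(kNormIn S P K) := hS.to_le hRS
  obtain ⟨E, hE⟩ := exists_kSystem F hPS K rfl
  have hfk := fullyK_of_le hP hK
  have hEs := kSystem_saturated hS hF hE hfk
  have hn := kSystem_normal hPS hInn hE
  let XX : Subgroup Ω → Prop := fun X => F.IsCentric X ∧ P ≤ X ∧ X ≤ kNormIn S P K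
  have haut : ∀ X, P ≤ X → X ≤ kNormIn S P K → ∀ α ∈ E.autGroup X, α ∈ F.autGroup X ∧ ∃ κ ∈ K, ∀ x : P, ac α x = κ x := by
    intro X hPX hXR α hα
    have h1 := (mem_autGroup E hXR).mp hα
    obtain ⟨h2, h3, κ, hκ, h4⟩ := (mem_kSystem_of_ge hE hPX hXR).mp h1
    exact ⟨(mem_autGroup F (hXR.trans hRS)).mpr h2, κ, hκ, fun x => by rw [ac_apply α (hPX x.2)]; exact h4 x⟩
  have hmi : ∀ X Y k, P ≤ X → X ≤ kNormIn S P K → Y ≤ kNormIn S P K → Mi F X Y k → (∃ κ ∈ K, ∀ x : P, k x = κ x) → Mi E X Y k := by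
    rintro X Y k hPX hXR hYR ⟨φ, hφ, h1, rfl⟩ ⟨κ, hκ, h2⟩
    exact ⟨φ, (mem_kSystem_of_ge hE hPX hXR).mpr ⟨hφ, fun x => hYR ⟨x, rfl⟩, κ, hκ, fun x => by rw [h1]; exact h2 x⟩, h1, rfl⟩
  have hEF : ∀ X Y k, Mi E X Y k → Mi F X Y k := by
    rintro X Y k ⟨φ, hφ, h1, h2⟩
    rw [hE X] at hφ
    exact ⟨φ, hφ.1, h1, h2⟩
  obtain ⟨α, hα⟩ := frattini_gSys (F := E) (p := p) (X := XX) (Y := fun _ => False) hRp hEs (fun X hX => hX.2.2)
    (by
      rintro α hα X ⟨hX1, hX2, hX3⟩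
      obtain ⟨hαF, κ, hκ, hκx⟩ := haut _ hPR le_rfl α hα
      have h1 := mi_im (F := E) hα hX3
      refine ⟨?_, ?_, im_le⟩
      · obtain ⟨φ, hφ, h2, h3⟩ := hEF _ _ _ h1
        rw [← h3]; exact centric_range hX1 hφ
      · intro y hy
        refine (mem_im hX3).mpr ⟨κ⁻¹ ⟨y, hy⟩, hX2 (κ⁻¹ ⟨y, hy⟩).2, ?_⟩
        rw [hκx, MulAut.apply_inv_self])
    (fun _ h => h.elim) (fun _ _ _ h => h) (fun X hX => by
      have h1 := essential_centric_radical hRp hX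
      have hPX := normal_le_centric_radical hRp hn h1.1 h1.2
      exact ⟨centric_of_kcentric hS hF hfk hE hPX h1.1, hPX, h1.1.1⟩)
    (hmi D D' f hPD hDR hD'R hf ⟨κ, hκ, hfκ⟩)
  obtain ⟨hαF, hακ⟩ := haut _ hPR le_rfl α hα.1
  refine ⟨α, hαF, hακ, im α⁻¹ D', ?_⟩
  have h2 := hα.2
  -- the system `E ∩ G` is in the class
  let EG : FusionSystem (kNormIn S P K) := ofRel E (fun P Q f => Mi G P Q f)
    (fun P Q f g hfg h => h.congr hfg)
    (fun P s hP hs => mi_conj (hP.trans hRS) (hRS hs))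
    (fun P Q R f g hf hg h1 h2 => h1.comp h2)
    (fun P Q f g hf hg hgf h => h.symm_of hgf)
    (fun P Q f P' Q' hf hf' hP h => by
      obtain ⟨R', h1, h2, h3⟩ := h.restrict hP
      rw [(hEF _ _ _ hf').range_unique h2 (fun _ _ => rfl)]; exact h2)
  have hcls : PCls E p XX (fun _ => False) EG := by
    refine ⟨fun P φ h => h.1, fun X hX α hα hk => ?_, fun P h => h.elim⟩
    have h1 := haut X hX.2.1 hX.2.2 α hα
    rw [← mi_ac hX.2.2] at hα ⊢
    exact mi_ofRel.mpr ⟨hα, (mi_ac hX.1.1).mpr (hGp X hX.1 α h1.1 hk)⟩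
  exact (mi_ofRel.mp (h2.mono (gSys_le_of hcls))).2

end

end Cfsg.Agent.L0.Fus
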