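import Cfsg.Agent.L0.Fus.Prime4
set_option autoImplicit false
/-! Values at a fully normalized subgroup. -/

open Pointwise

namespace Cfsg.Agent.L0.Fus

open Cfsg.Agent.L0 Cfsg.FusionSystem

variable {Ω : Type*} [Group Ω] {S : Subgroup Ω}

section Th
variable {F G : FusionSystem S} {P Q R D D' X X' W W' P' : Subgroup Ω} {f g μ : Ω → Ω} {a b : MulAut S} {p : ℕ}
variable [Fact p.Prime] [Finite S]

theorem fc_of_fn (hS : IsPGroup p S) (hF : F.IsSaturated p) (hP : F.IsFullyNormalized P) : F.IsFullyCentralized P :=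
  fullyCentralized_of_receptive (receptive_of_fullyNormalized_sat hS hF hP)

/-- maps trivial on `P` have a value in `G0(P)` -/
theorem th_trivial (hS : IsPGroup p S) (hF : F.IsSaturated p) (hG : Std F G p) (hP : F.IsFullyCentralized P)
    (hPD : P ≤ D) (hDR : D ≤ normalizerIn S P) (hf : Mi F D D' f) (hf1 : ∀ x ∈ P, f x = x) :
    ∃ b, V F G D D' f b ∧ Th F G P id b := by
  have h1 : Mi F P P f := (Mi.refl hP.1).congr fun x hx => (hf1 x hx).symm
  have hD' : D' ≤ normalizerIn S P := by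
    intro y hy
    obtain ⟨x, hx, rfl⟩ := hf.surj hy
    exact hf.map_normalizer hPD h1 hx (mem_normalizerIn.mp (hDR hx)).2
  obtain ⟨k, b, hk, hkb, hk1, hfb⟩ := exists_of_trivial hS hF hG hP le_rfl (pc_le hP.1) hPD hDR hD' hf hf1
  refine ⟨b, hfb, ?_⟩
  have h2 : Mi F P P k := (Mi.refl hP.1).congr fun x hx => (hk1 x hx).symm
  exact (th_of_ext hG.toGD hk (pc_le hP.1) h2 hkb).congr hk1

/-- elements of `G0(P)` are realized on all overgroups in `N_S(P)` -/
theorem th_realize (hS : IsPGroup p S) (hF : F.IsSaturated p) (hG : Std F G p) (hP : F.IsFullyCentralized P)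
    (h : Th F G P id a) (hR : R ≤ normalizerIn S P) (hCR : pc S P ≤ R) :
    ∃ k, Mi F R R k ∧ V F G R R k a ∧ ∀ x ∈ P, k x = x := by
  obtain ⟨h1, χ, h2, h3, h4⟩ := h
  obtain ⟨k, b, hk, hkb, hk1, hfb⟩ := exists_of_trivial hS hF hG hP hR hCR le_pc hCR hCR h2 h3
  have h5 := hfb.uniq' hG (pc_centric hP) h2 h4
  have h6 := hkb.mul_right hG.toGD hk.le' (fun x hx => hk.le' (hk.mem hx)) h5
  rw [mul_inv_cancel_left] at h6
  exact ⟨k, hk, h6, hk1⟩

/-- maps normalizing `P` have a value in `Th` -/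
theorem th_exists (hS : IsPGroup p S) (hF : F.IsSaturated p) (hG : Std F G p) (hP : F.IsFullyNormalized P)
    (hPW : P ≤ W) (hW : W ≤ normalizerIn S P) (hf : Mi F W W' f) (h1 : Mi F P P f) :
    ∃ v, V F G W W' f v ∧ Th F G P f v := by
  obtain ⟨g, X', hg, hgf⟩ := exists_ext_pc (receptive_of_fullyNormalized_sat hS hF hP) hf hPW hW h1
  obtain ⟨m, hm⟩ := hG.fr _ _ _ hg
  have hg1 : Mi F P P g := h1.congr fun x hx => (hgf x hx).symm
  have hPc := fc_of_fn hS hF hP
  have hgpc := hg.pc (le_pc.trans (le_sup_right (α := Subgroup Ω))) (cent_le_pc.trans (le_sup_right (α := Subgroup Ω))) hg1 le_rfl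
  obtain ⟨ν, hν, hν1, hν2⟩ := hg.symm
  have hW' : W' ≤ X' := by
    intro y hy
    obtain ⟨w, hw, rfl⟩ := hf.surj hy
    have hwX : w ∈ W ⊔ pc S P := (le_sup_left (α := Subgroup Ω)) hw
    have h2 : (g w)⁻¹ * f w ∈ centralizerIn S P := by
      refine mem_centralizerIn.mpr ⟨S.mul_mem (S.inv_mem (hg.le' (hg.mem hwX))) (hf.le' (hf.mem hw)), fun z hz => ?_⟩
      have hwN := (mem_normalizerIn.mp (hW hw)).2
      have hwz : ∀ u ∈ P, g w * g u * (g w)⁻¹ = f w * f u * (f w)⁻¹ := by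
        intro u hu
        have hwu : w * u * w⁻¹ ∈ P := (Subgroup.mem_normalizer_iff.mp hwN u).mp hu
        have e1 : g (w * u * w⁻¹) = g w * g u * (g w)⁻¹ := by
          have huX : u ∈ W ⊔ pc S P := (le_sup_left (α := Subgroup Ω)) (hPW hu)
          rw [hg.map_mul (Subgroup.mul_mem _ hwX huX) (Subgroup.inv_mem _ hwX), hg.map_mul hwX huX, hg.map_inv hwX]
        have e2 : f (w * u * w⁻¹) = f w * f u * (f w)⁻¹ := by
          rw [hf.map_mul (Subgroup.mul_mem _ hw (hPW hu)) (Subgroup.inv_mem _ hw), hf.map_mul hw (hPW hu), hf.map_inv hw]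
        rw [← e1, ← e2, hgf _ hwu]
      obtain ⟨u, hu, rfl⟩ := h1.surj hz
      have h3 := hwz u hu
      rw [hgf u hu] at h3
      have h4 : f u * ((g w)⁻¹ * f w) = (g w)⁻¹ * (g w * f u * (g w)⁻¹) * f w := by group
      rw [h4, h3]; group
    have h3 : f w = g w * ((g w)⁻¹ * f w) := by group
    rw [h3]
    have h5 : centralizerIn S P ≤ X' := by
      intro c hc
      obtain ⟨u, hu, rfl⟩ := hgpc.surj (cent_le_pc hc)
      exact hg.mem ((le_sup_right (α := Subgroup Ω)) hu)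
    exact X'.mul_mem (hg.mem hwX) (h5 h2)
  obtain ⟨E', hE', hE1, hE2⟩ := hν.restrict hW'
  have hε := hf.comp hE1
  have hε1 : ∀ x ∈ P, (ν ∘ f) x = x := by
    intro x hx
    simp only [Function.comp_apply]
    rw [← hgf x hx]; exact hν1 x ((le_sup_left (α := Subgroup Ω)) (hPW hx))
  obtain ⟨e, he, heT⟩ := th_trivial hS hF hG hPc hPW hW hε hε1
  have hgT := th_of_ext hG.toGD hg (le_sup_right (α := Subgroup Ω)) hg1 hm
  have hgE : Mi F E' W' g := by
    refine hg.restrict_of hE' fun y => ?_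
    constructor
    · intro hy
      exact ⟨ν y, (hE2 _).mpr ⟨y, hy, rfl⟩, hν2 y (hW' hy)⟩
    · rintro ⟨x, hx, rfl⟩
      obtain ⟨y, hy, rfl⟩ := (hE2 x).mp hx
      rw [hν2 y (hW' hy)]; exact hy
  have hE'X : E' ≤ W ⊔ pc S P := hE'
  refine ⟨m * e, ?_, ?_⟩
  · refine (he.comp hG.toGD hε hgE (hm.restrict hG.toGD hE'X hgE)).congr fun x hx => ?_
    exact hν2 _ (hW' (hf.mem hx))
  · exact (heT.comp hG.toGD hgT).congr fun x hx => hgf x hx

def MC (F G : FusionSystem S) (P : Subgroup Ω) : Prop := ∀ a, V F G P P id a → Th F G P id a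

omit [Fact p.Prime] [Finite S] in
theorem mi_id_congr (hD : D ≤ S) (h : ∀ x ∈ D, f x = x) : Mi F D D f := (Mi.refl hD).congr fun x hx => (h x hx).symm

/-- L4 -/
theorem th_of_id (hS : IsPGroup p S) (hF : F.IsSaturated p) (hG : Std F G p) (hP : F.IsFullyNormalized P)
    (hMC : ∀ D, F.IsFullyNormalized D → Nat.card P < Nat.card D → MC F G D) (n : ℕ) :
    ∀ D a, P < D → D ≤ normalizerIn S P → Nat.card (normalizerIn S P) - Nat.card D = n → V F G D D id a → Th F G P id a := by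
  induction n using Nat.strong_induction_on with
  | _ n ih =>
  intro D γ hPD hDN hn hγ
  have hPc := fc_of_fn hS hF hP
  have hDS : D ≤ S := hDN.trans inf_le_left
  by_cases hDeq : D = normalizerIn S P
  · have hDc : F.IsCentric D := centric_of_ge (pc_centric hPc) (by rw [hDeq]; exact pc_le hP.1) hDS
    have h1 := (v_id hG.toGD hDS).uniq' hG hDc (Mi.refl hDS) hγ
    rw [inv_one, one_mul] at h1
    have h2 := (th_one (F := F) (G := G) hG.toGD hP.1).mul_right hG.toGD h1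
    rwa [one_mul] at h2
  · -- D' fully normalized
    obtain ⟨D', hDD', hD'⟩ := exists_fullyNormalized (F := F) hDS
    have hD'S := hD'.1
    obtain ⟨φ, hφ, hφN, hφD⟩ := exists_map_normalizerIn hS (fullyAutomized_of_fullyNormalized_sat hS hF hD')
      (receptive_of_fullyNormalized_sat hS hF hD') hDD'
    have hκ := mi_toF.mpr hφ
    set κ := toF φ with hκdef
    have hDN' : D ≤ normalizerIn S D := le_normalizerIn hDS
    have hκD : Mi F D D' κ := by
      refine hκ.restrict_of hDN' fun y => ?_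
      rw [← hφD]
      constructor
      · rintro ⟨x, hx, rfl⟩
        exact ⟨x, hx, toF_apply φ x.2⟩
      · rintro ⟨x, hx, rfl⟩
        exact ⟨⟨x, hDN' hx⟩, hx, (toF_apply φ (hDN' hx)).symm⟩
    obtain ⟨k, hk⟩ := hG.fr _ _ _ hκ
    have hkD := hk.restrict hG.toGD hDN' hκD
    -- P' and λ
    obtain ⟨P', hP'D', hκP, hP'⟩ := hκD.restrict hPD.le
    have hP'c : F.IsConj P' P := isConj_symm hκP.isConj
    obtain ⟨ψ, hψ, hψN, hψP⟩ := exists_map_normalizerIn hS (fullyAutomized_of_fullyNormalized_sat hS hF hP)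
      (receptive_of_fullyNormalized_sat hS hF hP) hP'c
    have hL := mi_toF.mpr hψ
    set L := toF ψ with hLdef
    have hP'S := hκP.le'
    have hP'N : P' ≤ normalizerIn S P' := le_normalizerIn hP'S
    have hLP : Mi F P' P L := by
      refine hL.restrict_of hP'N fun y => ?_
      rw [← hψP]
      constructor
      · rintro ⟨x, hx, rfl⟩
        exact ⟨x, hx, toF_apply ψ x.2⟩
      · rintro ⟨x, hx, rfl⟩
        exact ⟨⟨x, hP'N hx⟩, hx, (toF_apply ψ (hP'N hx)).symm⟩
    obtain ⟨l, hl⟩ := hG.fr _ _ _ hL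
    have hcard : Nat.card P < Nat.card D' := by
      rw [← hκD.card]
      haveI := finite_of_le hDS
      exact card_lt_of_lt hPD
    -- MC at D'
    obtain ⟨κi, hκi, hκi1, hκi2⟩ := hκD.symm
    have h1 : V F G D' D' id (k * γ * k⁻¹) := by
      have e1 := hkD.symm_of hG.toGD hκD hκi1
      have e2 := (e1.comp hG.toGD hκi (Mi.refl hDS) hγ).comp hG.toGD hκi hκD hkD
      rw [mul_assoc]
      exact e2.congr fun x hx => hκi2 x hx
    have h2 := hMC D' hD' hcard _ h1
    obtain ⟨χ, hχ, hχV, hχ1⟩ := th_realize hS hF hG (fc_of_fn hS hF hD') h2 le_rfl (pc_le hD'S)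
    -- W₁
    set W₁ := normalizerIn S D' ⊓ normalizerIn S P' with hW₁
    have hPnD : D ≤ Subgroup.normalizer (P : Set Ω) := hDN.trans inf_le_right
    have hD'W : D' ≤ W₁ := by
      refine le_inf (le_normalizerIn hD'S) fun y hy => ?_
      obtain ⟨x, hx, rfl⟩ := hκD.surj hy
      exact hκD.map_normalizer hPD.le hκP hx (hPnD hx)
    have hχP : Mi F P' P' χ := mi_id_congr hP'S fun x hx => hχ1 x (hP'D' hx)
    have hχW : Mi F W₁ W₁ χ := by
      refine mi_of_maps hχ inf_le_left fun x hx => Subgroup.mem_inf.mpr ⟨hχ.mem (Subgroup.mem_inf.mp hx).1, ?_⟩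
      exact hχ.map_normalizer (hP'D'.trans (le_normalizerIn hD'S)) hχP (Subgroup.mem_inf.mp hx).1 (mem_normalizerIn.mp (Subgroup.mem_inf.mp hx).2).2
    have hχWV := hχV.restrict hG.toGD inf_le_left hχW
    obtain ⟨W₂, hW₂, hLW, hLW'⟩ := hL.restrict (inf_le_right : W₁ ≤ normalizerIn S P')
    have hlW := hl.restrict hG.toGD (inf_le_right : W₁ ≤ normalizerIn S P') hLW
    have hW₁c : F.IsCentric W₁ := by
      refine centric_of_ge (pc_centric (fc_of_fn hS hF hD')) ?_ (inf_le_left.trans inf_le_left)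
      refine sup_le hD'W (le_inf centralizerIn_le_normalizerIn fun c hc => ?_)
      refine centralizerIn_le_normalizerIn (mem_centralizerIn.mpr ⟨(mem_centralizerIn.mp hc).1, fun x hx => (mem_centralizerIn.mp hc).2 x (hP'D' hx)⟩)
    have hW₂c : F.IsCentric W₂ := by
      obtain ⟨θ, hθ, e1, e2⟩ := hLW
      rw [← e2]; exact centric_range hW₁c hθ
    obtain ⟨Li, hLi, hLi1, hLi2⟩ := hLW.symm
    have hδ := (hLi.comp hχW).comp hLW
    have hδV : V F G W₂ W₂ (L ∘ (χ ∘ Li)) (l * (k * γ * k⁻¹) * l⁻¹) := by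
      have e1 := hlW.symm_of hG.toGD hLW hLi1
      have e2 := (e1.comp hG.toGD hLi hχW hχWV).comp hG.toGD (hLi.comp hχW) hLW hlW
      rwa [mul_assoc]
    have hPW₂ : P ≤ W₂ := by
      intro y hy
      obtain ⟨x, hx, rfl⟩ := hLP.surj hy
      exact hLW.mem (hD'W (hP'D' hx))
    have hδ1 : ∀ x ∈ P, (L ∘ (χ ∘ Li)) x = x := by
      intro y hy
      obtain ⟨x, hx, rfl⟩ := hLP.surj hy
      simp only [Function.comp_apply]
      rw [hLi1 x (hD'W (hP'D' hx)), hχ1 x (hP'D' hx)]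
    have hW₂N : W₂ ≤ normalizerIn S P := by
      intro y hy
      obtain ⟨x, hx, rfl⟩ := hLW.surj hy
      exact hL.map_normalizer hP'N hLP (Subgroup.mem_inf.mp hx).2 (mem_normalizerIn.mp (Subgroup.mem_inf.mp hx).2).2
    obtain ⟨e, he, heT⟩ := th_trivial hS hF hG hPc hPW₂ hW₂N hδ hδ1
    have h3 := he.uniq' hG hW₂c hδ hδV
    have h4 := heT.mul_right hG.toGD h3
    rw [mul_inv_cancel_left] at h4
    -- W₀
    set W₀ := normalizerIn S D ⊓ normalizerIn S P with hW₀
    have hDW₀ : D < W₀ := by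
      have e1 : D < normalizerIn S P := lt_of_le_of_ne hDN hDeq
      have hNp : IsPGroup p ↥(normalizerIn S P) := hS.to_le inf_le_left
      have e2 := lt_normalizerIn hNp e1
      refine lt_of_lt_of_le e2 ?_
      intro x hx
      have e3 := Subgroup.mem_inf.mp hx
      exact Subgroup.mem_inf.mpr ⟨mem_normalizerIn.mpr ⟨(mem_normalizerIn.mp e3.1).1, e3.2⟩, e3.1⟩
    have hκP' := hκP
    have hκN : ∀ x ∈ W₀, κ x ∈ normalizerIn S P' := fun x hx =>
      hκ.map_normalizer (hPD.le.trans hDN') hκP (Subgroup.mem_inf.mp hx).1 (mem_normalizerIn.mp (Subgroup.mem_inf.mp hx).2).2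
    obtain ⟨W₃, hW₃, hκW, hκW'⟩ := hκ.restrict (inf_le_left : W₀ ≤ normalizerIn S D)
    have hW₃N : W₃ ≤ normalizerIn S P' := by
      intro y hy
      obtain ⟨x, hx, rfl⟩ := hκW.surj hy
      exact hκN x hx
    obtain ⟨W₄, hW₄, hLW3, hLW3'⟩ := hL.restrict hW₃N
    have hμ := hκW.comp hLW3
    have hμP : Mi F P P (L ∘ κ) := hκP.comp hLP
    have hμV := (hk.restrict hG.toGD inf_le_left hκW).comp hG.toGD hκW hLW3 (hl.restrict hG.toGD hW₃N hLW3)
    obtain ⟨v, hv, hvT⟩ := th_exists hS hF hG hP (hPD.le.trans hDW₀.le) inf_le_right hμ hμP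
    obtain ⟨μi, hμi, hμi1, hμi2⟩ := hμ.symm
    have h5 : V F G W₀ W₀ id (v⁻¹ * (l * k)) :=
      (hμV.comp hG.toGD hμ hμi (hv.symm_of hG.toGD hμ hμi1)).congr fun x hx => hμi1 x hx
    have hcl : Nat.card D < Nat.card W₀ := by
      haveI : Finite W₀ := finite_of_le (inf_le_left.trans inf_le_left)
      exact card_lt_of_lt hDW₀
    have hcl' : Nat.card W₀ ≤ Nat.card (normalizerIn S P) := Subgroup.card_le_of_le inf_le_right
    have h6 := ih (Nat.card (normalizerIn S P) - Nat.card W₀) (by omega) W₀ _ (hPD.trans hDW₀) inf_le_right rfl h5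
    have h7 : Th F G P (L ∘ κ) (l * k) := by
      have e1 := h6.comp hG.toGD hvT
      rw [mul_inv_cancel_left] at e1
      exact e1.congr fun x hx => rfl
    obtain ⟨νi, hνi, hνi1, hνi2⟩ := hμP.symm
    have h8 := (h7.comp hG.toGD h4).comp hG.toGD (h7.symm_of hG.toGD hνi1)
    have h9 : (l * k)⁻¹ * (l * (k * γ * k⁻¹) * l⁻¹ * (l * k)) = γ := by group
    rw [h9] at h8
    exact h8.congr fun x hx => hνi1 x hx

/-- L2 -/
theorem th_of_value (hS : IsPGroup p S) (hF : F.IsSaturated p) (hG : Std F G p) (hP : F.IsFullyNormalized P)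
    (hMC : ∀ D, F.IsFullyNormalized D → Nat.card P < Nat.card D → MC F G D) (hPD : P < D) (hDN : D ≤ normalizerIn S P)
    (hf : Mi F D D' f) (h1 : Mi F P P f) (h : V F G D D' f b) : Th F G P f b := by
  obtain ⟨v, hv, hvT⟩ := th_exists hS hF hG hP hPD.le hDN hf h1
  obtain ⟨g, hg, hg1, hg2⟩ := hf.symm
  have h2 : V F G D D id (v⁻¹ * b) := (h.comp hG.toGD hf hg (hv.symm_of hG.toGD hf hg1)).congr fun x hx => hg1 x hx
  have h3 := (th_of_id hS hF hG hP hMC _ D _ hPD hDN rfl h2).comp hG.toGD hvT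
  rw [mul_inv_cancel_left] at h3
  exact h3.congr fun x hx => rfl

end Th

end Cfsg.Agent.L0.Fus
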