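import Cfsg.Agent.L0.Fus.Prime5
set_option autoImplicit false
/-! The main theorem on values. -/

open Pointwise

namespace Cfsg.Agent.L0.Fus

open Cfsg.Agent.L0 Cfsg.FusionSystem

variable {Ω : Type*} [Group Ω] {S : Subgroup Ω}

/-- the least system with the automizer condition on the centric subgroups. -/
abbrev gC (F : FusionSystem S) (p : ℕ) : FusionSystem S := gSys F p F.IsCentric F.IsCentric

def Dt (F G : FusionSystem S) (P Q : Subgroup Ω) (κ : Ω → Ω) (t : MulAut S) : Prop :=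
  ∃ N', Mi F (normalizerIn S Q) N' κ ∧ Mi F Q P κ ∧ V F G (normalizerIn S Q) N' κ t

def Rel (F G : FusionSystem S) (P Q Q' : Subgroup Ω) (f : Ω → Ω) : Prop :=
  F.IsConj Q P → ∀ κ t κ' t' μ, Dt F G P Q κ t → Dt F G P Q' κ' t' → (∀ x ∈ Q, μ (κ x) = κ' (f x)) → Th F G P μ (t' * t⁻¹)

section
variable {F G : FusionSystem S} {P Q R D D' X X' W W' P' : Subgroup Ω} {f g μ : Ω → Ω} {a b : MulAut S} {p : ℕ}
variable [Fact p.Prime] [Finite S]

omit [Fact p.Prime] [Finite S] in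
theorem centric_im (hα : a ∈ F.autGroup S) (hP : F.IsCentric P) : F.IsCentric (im a P) := by
  obtain ⟨φ, hφ, h2, h3⟩ := mi_im hα hP.1
  rw [← h3]
  exact ⟨range_le F hφ, fun Q hQ => hP.2 Q (isConj_trans ⟨φ, hφ, rfl⟩ hQ)⟩

omit [Fact p.Prime] in
theorem centric_S : F.IsCentric S := by
  refine ⟨le_rfl, fun Q hQ => ?_⟩
  have h1 := isConj_card hQ
  have h2 : Q = S := Subgroup.eq_of_le_of_card_ge (isConj_le_right hQ) h1.le
  rw [h2]; exact inf_le_left

theorem std_gC (hS : IsPGroup p S) (hF : F.IsSaturated p) : Std F (gC F p) p where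
  toGD := gSys_gd (fun P hP => hP.1) (fun α hα P hP => centric_im hα hP) (fun P hP => hP.1) (fun α hα P hP => centric_im hα hP)
  pel := (gSys_cls (fun P hP => hP.1)).2.1
  fr := fun P Q f hf => frattini_gSys hS hF (fun P hP => hP.1) (fun α hα P hP => centric_im hα hP) (fun P hP => hP.1)
    (fun α hα P hP => centric_im hα hP) (fun P hP => hP.1) hf
  uq := fun P hP a ha Q h => (gSys_cls (fun P hP => hP.1)).2.2 P hP a ha ⟨Q, h⟩

theorem exists_dt (hS : IsPGroup p S) (hF : F.IsSaturated p) (hG : Std F G p) (hP : F.IsFullyNormalized P) (hQ : F.IsConj Q P) :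
    ∃ κ t, Dt F G P Q κ t := by
  obtain ⟨φ, hφ, hφN, hφD⟩ := exists_map_normalizerIn hS (fullyAutomized_of_fullyNormalized_sat hS hF hP)
    (receptive_of_fullyNormalized_sat hS hF hP) hQ
  have hκ := mi_toF.mpr hφ
  have hQN : Q ≤ normalizerIn S Q := le_normalizerIn (isConj_le_left hQ)
  have hκD : Mi F Q P (toF φ) := by
    refine hκ.restrict_of hQN fun y => ?_
    rw [← hφD]
    constructor
    · rintro ⟨x, hx, rfl⟩
      exact ⟨x, hx, toF_apply φ x.2⟩
    · rintro ⟨x, hx, rfl⟩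
      exact ⟨⟨x, hQN hx⟩, hx, (toF_apply φ (hQN hx)).symm⟩
  obtain ⟨k, hk⟩ := hG.fr _ _ _ hκ
  exact ⟨toF φ, k, _, hκ, hκD, hk⟩

/-- L1 -/
theorem rel_of_lt (hS : IsPGroup p S) (hF : F.IsSaturated p) (hG : Std F G p) (hP : F.IsFullyNormalized P)
    (hMC : ∀ D, F.IsFullyNormalized D → Nat.card P < Nat.card D → MC F G D) (hf : Mi G X X' f) (hQX : Q < X) (hf' : Mi F Q D' f) :
    Rel F G P Q D' f := by
  rintro hQP κ t κ' t' μ ⟨N, hκ, hκQ, ht⟩ ⟨N', hκ', hκQ', ht'⟩ hμ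
  have hXS := hf.le
  have hXp : IsPGroup p X := hS.to_le hXS
  haveI := finite_of_le hXS
  have h1 := lt_normalizerIn hXp hQX
  have hle : normalizerIn X Q ≤ X := inf_le_left
  obtain ⟨Y', hY', hfY, hfY'⟩ := hf.restrict hle
  have hYN : normalizerIn X Q ≤ normalizerIn S Q := inf_le_inf_right _ hXS
  have hY'N : Y' ≤ normalizerIn S D' := by
    intro y hy
    obtain ⟨x, hx, rfl⟩ := hfY.surj hy
    exact (hf.mono hG.le).map_normalizer hQX.le hf' (hle hx) (mem_normalizerIn.mp hx).2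
  obtain ⟨D, hD, hκD, hκD'⟩ := hκ.restrict hYN
  obtain ⟨κi, hκi, hκi1, hκi2⟩ := hκD.symm
  obtain ⟨Z, hZ, hκ'Z, hκ'Z'⟩ := hκ'.restrict hY'N
  have hfYF := hfY.mono hG.le
  have hc := (hκi.comp hfYF).comp hκ'Z
  have hv := (((ht.restrict hG.toGD hYN hκD).symm_of hG.toGD hκD hκi1).comp hG.toGD hκi hfYF ((v_one hG.toGD).mp hfY).2.2).comp hG.toGD
    (hκi.comp hfYF) hκ'Z (ht'.restrict hG.toGD hY'N hκ'Z)
  rw [one_mul] at hv
  have hκiP : Mi F P Q κi := hκQ.symm_of fun x hx => hκi1 x (h1.le hx)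
  have hcP := (hκiP.comp hf').comp hκQ'
  have hPD : P < D := by
    have h3 : P ≤ D := by
      intro y hy
      obtain ⟨x, hx, rfl⟩ := hκQ.surj hy
      exact hκD.mem (h1.le hx)
    refine lt_of_le_of_ne h3 fun h4 => ?_
    subst h4
    have h5 := hκD.card
    rw [← hκQ.card] at h5
    haveI : Finite ↥(normalizerIn X Q) := finite_of_le inf_le_left
    exact absurd (card_lt_of_lt h1) (by omega)
  have hDN : D ≤ normalizerIn S P := by
    intro y hy
    obtain ⟨x, hx, rfl⟩ := hκD.surj hy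
    exact hκ.map_normalizer (le_normalizerIn (isConj_le_left hQP)) hκQ (hYN hx) (mem_normalizerIn.mp hx).2
  refine (th_of_value hS hF hG hP hMC hPD hDN hc hcP hv).congr fun y hy => ?_
  obtain ⟨x, hx, rfl⟩ := hκQ.surj hy
  simp only [Function.comp_apply]
  rw [hκi1 x (h1.le hx), hμ x hx]

theorem mc_gC (hS : IsPGroup p S) (hF : F.IsSaturated p) (n : ℕ) : ∀ P : Subgroup Ω, F.IsFullyNormalized P → Nat.card S - Nat.card P = n →
    MC F (gC F p) P := by
  induction n using Nat.strong_induction_on with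
  | _ n ih =>
  intro P hP hn a ha
  have hG := std_gC (F := F) hS hF
  set G := gC F p with hGdef
  have hPS := hP.1
  have hMC : ∀ D, F.IsFullyNormalized D → Nat.card P < Nat.card D → MC F G D := by
    intro D hD hc
    refine ih (Nat.card S - Nat.card D) ?_ D hD rfl
    have := Subgroup.card_le_of_le hD.1
    omega
  by_cases hPc : F.IsCentric P
  · have h1 := (v_id hG.toGD hPS).uniq' hG hPc (Mi.refl hPS) ha
    rw [inv_one, one_mul] at h1
    have h2 := (th_one (F := F) (G := G) hG.toGD hPS).mul_right hG.toGD h1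
    rwa [one_mul] at h2
  · have hncent : ∀ X, F.IsConj X P → ¬ F.IsCentric X := fun X hX hXc => hPc ⟨hPS, fun Q hQ => hXc.2 Q (isConj_trans hX hQ)⟩
    let E : FusionSystem S := ofRel G (Rel F G P)
      (by
        intro Q Q' f g hfg h hQP κ t κ' t' μ h1 h2 h3
        exact h hQP κ t κ' t' μ h1 h2 fun x hx => by rw [hfg x hx]; exact h3 x hx)
      (by
        intro Q s hQ hs hQP
        have hQS : Q < S := lt_of_le_of_ne hQ fun h => hncent Q hQP (by rw [h]; exact centric_S)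
        exact rel_of_lt hS hF hG hP hMC (mi_conj (F := G) le_rfl hs) hQS (mi_conj hQ hs) hQP)
      (by
        intro P₁ Q Q' f g hf hg h1 h2 hP₁ κ t κ'' t'' μ hd hd'' hμ
        have hQP : F.IsConj Q P := isConj_trans (isConj_symm (hf.mono hG.le).isConj) hP₁
        obtain ⟨κ', t', hd'⟩ := exists_dt hS hF hG hP hQP
        obtain ⟨N₁, hN₁, hκ1, hV1⟩ := hd
        obtain ⟨N₂, hN₂, hκ2, hV2⟩ := hd'
        obtain ⟨i1, hi1, hi1a, hi1b⟩ := hκ1.symm
        obtain ⟨i2, hi2, hi2a, hi2b⟩ := hκ2.symm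
        have e1 := h1 hP₁ κ t κ' t' (κ' ∘ f ∘ i1) ⟨N₁, hN₁, hκ1, hV1⟩ ⟨N₂, hN₂, hκ2, hV2⟩
          (fun x hx => by simp only [Function.comp_apply]; rw [hi1a x hx])
        have e2 := h2 hQP κ' t' κ'' t'' (κ'' ∘ g ∘ i2) ⟨N₂, hN₂, hκ2, hV2⟩ hd''
          (fun x hx => by simp only [Function.comp_apply]; rw [hi2a x hx])
        have e3 := e1.comp hG.toGD e2
        have e4 : t'' * t'⁻¹ * (t' * t⁻¹) = t'' * t⁻¹ := by group
        rw [e4] at e3
        refine e3.congr fun y hy => ?_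
        obtain ⟨x, hx, rfl⟩ := hκ1.surj hy
        simp only [Function.comp_apply]
        rw [hi1a x hx, hi2a _ (hf.mem hx), hμ x hx]; rfl)
      (by
        intro Q Q' f g hf hg hgf h1 hQ'P κ' t' κ t μ hd' hd hμ
        have hQP : F.IsConj Q P := isConj_trans (hf.mono hG.le).isConj hQ'P
        obtain ⟨N₁, hN₁, hκ1, hV1⟩ := hd
        obtain ⟨i1, hi1, hi1a, hi1b⟩ := hκ1.symm
        have e1 := h1 hQP κ t κ' t' (κ' ∘ f ∘ i1) ⟨N₁, hN₁, hκ1, hV1⟩ hd'
          (fun x hx => by simp only [Function.comp_apply]; rw [hi1a x hx])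
        have e2 := e1.symm_of hG.toGD (g := μ) fun y hy => by
          obtain ⟨x, hx, rfl⟩ := hκ1.surj hy
          simp only [Function.comp_apply]
          rw [hi1a x hx, hμ _ (hf.mem hx), hgf x hx]
        rwa [mul_inv_rev, inv_inv] at e2)
      (by
        intro Q Q' f Q₁ Q₁' hf hf₁ hle h
        rcases eq_or_lt_of_le hle with h1 | h1
        · subst h1
          rw [hf₁.range_unique hf (fun _ _ => rfl)]; exact h
        · exact rel_of_lt hS hF hG hP hMC hf h1 (hf₁.mono hG.le))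
    have hcls : PCls F p F.IsCentric F.IsCentric E := by
      refine ⟨fun X φ h => hG.le X h.1, fun X hX α hα hk => ?_, fun X hX c hc ⟨Q, hQ⟩ => ?_⟩
      · have h1 := hG.pel X hX α hα hk
        rw [← mi_ac hX.1] at h1 ⊢
        exact mi_ofRel.mpr ⟨h1, fun h => (hncent X h hX).elim⟩
      · have h1 := hG.uq X hX c hc Q (mi_ofRel.mp hQ).1
        rw [← mi_ac le_rfl] at h1 ⊢
        exact mi_ofRel.mpr ⟨h1, fun h => (hncent S h centric_S).elim⟩
    have hGE : G.IsSubsystemOf E := gSys_le_of hcls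
    have h1 := (mi_ofRel.mp (ha.2.mono hGE)).2 (isConj_refl hPS)
    have hN : Mi F (normalizerIn S P) (normalizerIn S P) id := Mi.refl inf_le_left
    have hd1 : Dt F G P P id 1 := ⟨_, hN, Mi.refl hPS, v_id hG.toGD inf_le_left⟩
    have ha' := (F.autGroup S).inv_mem ha.1
    have hQ' : F.IsConj (im a⁻¹ P) P := isConj_symm (mi_im ha' hPS).isConj
    obtain ⟨κ', t', hd'⟩ := exists_dt hS hF hG hP hQ'
    have h2 := h1 id 1 κ' t' (κ' ∘ ac a⁻¹) hd1 hd' (fun x hx => rfl)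
    rw [inv_one, mul_one] at h2
    obtain ⟨N', hN', hκP, hκV⟩ := hd'
    have h3 : Mi F (normalizerIn S P) (im a⁻¹ (normalizerIn S P)) (ac a⁻¹) := mi_im ha' inf_le_left
    have h3V : V F G (normalizerIn S P) (im a⁻¹ (normalizerIn S P)) (ac a⁻¹) a⁻¹ := v_ac ha' inf_le_left
    have h4 : im a⁻¹ (normalizerIn S P) ≤ normalizerIn S (im a⁻¹ P) := by
      intro y hy
      obtain ⟨x, hx, rfl⟩ := h3.surj hy
      exact h3.map_normalizer (le_normalizerIn hPS) (mi_im ha' hPS) hx (mem_normalizerIn.mp hx).2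
    obtain ⟨Z, hZ, h5, h6⟩ := hN'.restrict h4
    have h7 := h3V.comp hG.toGD h3 h5 (hκV.restrict hG.toGD h4 h5)
    have h8 := th_of_ext hG.toGD (h3.comp h5) (pc_le hPS) ((mi_im ha' hPS).comp hκP) h7
    obtain ⟨i, hi, hi1, hi2⟩ := ((mi_im ha' hPS).comp hκP).symm
    have h9 := h2.comp hG.toGD (h8.symm_of hG.toGD hi1)
    have h10 : (t' * a⁻¹)⁻¹ * t' = a := by group
    rw [h10] at h9
    exact h9.congr fun x hx => hi1 x hx

end

end Cfsg.Agent.L0.Fus
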