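import Cfsg.Agent.L0.Fus.Prime6
set_option autoImplicit false
/-! Subsystems of index prime to `p`. -/

open Pointwise

namespace Cfsg.Agent.L0.Fus

open Cfsg.Agent.L0 Cfsg.FusionSystem

variable {Ω : Type*} [Group Ω] {S : Subgroup Ω}

section
variable {F G : FusionSystem S} {P Q R D D' X X' W W' P' : Subgroup Ω} {f g h μ : Ω → Ω} {a b : MulAut S} {p : ℕ}

/-- `G` is invariant under `F` -/
theorem GD.conj_mem (hG : GD F G) (hf : Mi F P Q f) (hv : V F G P Q f a) (hg : ∀ x ∈ P, g (f x) = x) (hh : Mi G P P h) :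
    Mi G Q Q (f ∘ h ∘ g) := by
  have h1 := hf.symm_of hg
  have h2 := hv.symm_of hG hf hg
  have h3 := (h2.comp hG h1 (hh.mono hG.le) ((v_one hG).mp hh).2.2).comp hG (h1.comp (hh.mono hG.le)) hf hv
  have h4 : a * (1 * a⁻¹) = 1 := by group
  rw [h4] at h3
  exact (v_one hG).mpr ⟨hf.le', fun y hy => hf.le' (hf.mem (hh.mem (h1.mem hy))), h3⟩

theorem GD.mem_aut (hG : GD F G) (he : ∀ f, Mi F P Q f → ∃ a, V F G P Q f a) {e : P ≃* Q} (hf : Iso F P Q e) {β : MulAut P}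
    (hβ : β ∈ F.autGroup P) (hβ' : autCongr e β ∈ G.autGroup Q) : β ∈ G.autGroup P := by
  have h0 : Mi F P Q (toF (Q.subtype.comp e.toMonoidHom)) :=
    mi_iff_iso.mpr ⟨e, hf, fun x => (toF_coe (Q.subtype.comp e.toMonoidHom) x).symm⟩
  obtain ⟨a, ha⟩ := he _ h0
  set f := toF (Q.subtype.comp e.toMonoidHom) with hfd
  obtain ⟨g, hg, hg1, hg2⟩ := h0.symm
  have hPS := hf.le_left
  have hQS := hf.le_right
  have hfe : ∀ x : P, f x = (e x : Ω) := fun x => toF_coe _ x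
  have h1 := hG.conj_mem hg (ha.symm_of hG h0 hg1) hg2 ((mi_ac hQS).mpr hβ')
  rw [← mi_ac hPS]
  refine h1.congr fun x hx => ?_
  simp only [Function.comp_apply]
  have h2 : f x = (e ⟨x, hx⟩ : Ω) := hfe ⟨x, hx⟩
  rw [h2, ac_apply _ (e ⟨x, hx⟩).2, ac_apply β hx]
  change g (((autCongr e β) (e ⟨x, hx⟩) : Q) : Ω) = _
  rw [autCongr_apply, e.symm_apply_apply, ← hfe, hg1 _ (β ⟨x, hx⟩).2]

variable [Fact p.Prime] [Finite S]

theorem p_elt_mem (hS : IsPGroup p S) (hF : F.IsSaturated p) (hG : GD F G) (hfr : ∀ P Q f, Mi F P Q f → ∃ a, V F G P Q f a) (hPS : P ≤ S)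
    {β : MulAut P} (hβ : β ∈ F.autGroup P) (hk : ∃ k, orderOf β = p ^ k) : β ∈ G.autGroup P := by
  obtain ⟨Q, hPQ, hQ⟩ := exists_fullyNormalized (F := F) hPS
  obtain ⟨e, he⟩ := isConj_iff.mp hPQ
  refine hG.mem_aut (fun f => hfr P Q f) he hβ ?_
  have hQS := hQ.1
  haveI := finite_of_le hQS
  haveI := finite_autGroup (S := S) hQS
  have hSyl := (fullyAutomized_iff_isSylowIn hQS).mp (fullyAutomized_of_fullyNormalized_sat hS hF hQ)
  have hβ' := autCongr_mem he hβ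
  set γ := autCongr e β with hγ
  have hX : IsPGroup p (Subgroup.zpowers γ) := by
    obtain ⟨k, hk⟩ := hk
    have h1 : γ ^ p ^ k = 1 := by rw [hγ, ← map_pow, ← hk, pow_orderOf_eq_one, map_one]
    rintro ⟨_, m, rfl⟩
    refine ⟨k, Subtype.ext ?_⟩
    change (γ ^ m) ^ p ^ k = 1
    rw [← zpow_natCast, ← zpow_mul, mul_comm, zpow_mul, zpow_natCast, h1, one_zpow]
  obtain ⟨n, hn, h⟩ := IsSylowIn.exists_conj_le hSyl hX (Subgroup.zpowers_le.mpr hβ')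
  have h1 : n * γ * n⁻¹ ∈ G.autGroup Q := autInducedBy_le_autGroup G hQS (h ⟨γ, Subgroup.mem_zpowers γ, rfl⟩)
  refine hG.mem_aut (e := n) (fun f => hfr Q Q f) ((mem_autGroup F hQS).mp hn) hβ' ?_
  exact h1

theorem primeToP_of (hS : IsPGroup p S) (hF : F.IsSaturated p) (hG : GD F G) (hfr : ∀ P Q f, Mi F P Q f → ∃ a, V F G P Q f a)
    {E : FusionSystem S} (hEF : E.IsSubsystemOf F) (hGE : G.IsSubsystemOf E) : E.HasPrimeToPIndexIn F p := by
  refine ⟨hEF, fun P hPS => ?_⟩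
  rw [MonoidHom.map_closure, Subgroup.closure_le]
  rintro _ ⟨⟨β, hβ⟩, ⟨k, hk⟩, rfl⟩
  have h1 := p_elt_mem hS hF hG hfr hPS hβ ⟨k, by rw [← hk, Subgroup.orderOf_mk]⟩
  exact autGroup_mono hGE hPS h1

/-- the least system containing the `p`-automorphisms of the centric subgroups -/
abbrev gP (F : FusionSystem S) (p : ℕ) : FusionSystem S := gSys F p F.IsCentric (fun _ => False)

omit [Fact p.Prime] [Finite S] in
theorem gP_gd : GD F (gP F p) := gSys_gd (fun _ hP => hP.1) (fun _ hα _ hP => centric_im hα hP) (fun _ h => h.elim) (fun _ _ _ h => h)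

theorem gP_fr (hS : IsPGroup p S) (hF : F.IsSaturated p) (P Q : Subgroup Ω) (f : Ω → Ω) (hf : Mi F P Q f) : ∃ a, V F (gP F p) P Q f a :=
  frattini_gSys hS hF (fun _ hP => hP.1) (fun _ hα _ hP => centric_im hα hP) (fun _ h => h.elim) (fun _ _ _ h => h) (fun _ hP => hP.1) hf

/-- S5114 -/
theorem prime_to_p_of_centrics (hS : IsPGroup p S) (hF : F.IsSaturated p) (E : Cfsg.FusionSystem S) (hEF : E.IsSubsystemOf F) (h : ∀ P : Subgroup Ω, F.IsCentric P → (Subgroup.closure {α : ↥(F.autGroup P) | ∃ k : ℕ, orderOf α = p ^ k}).map (F.autGroup P).subtype ≤ E.autGroup P) : E.HasPrimeToPIndexIn F p ∧ (∀ (P : Subgroup Ω) (φ : P →* Ω), φ ∈ F.Hom P → ∃ α ∈ F.autGroup S, ∃ φ₀ ∈ E.Hom P, ∀ (x : P) (hx : φ₀ x ∈ S), φ x = ((α ⟨φ₀ x, hx⟩ : S) : Ω)) ∧ ∀ P : Subgroup Ω, E.IsCentric P ↔ F.IsCentric P := by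
  have hGE : (gP F p).IsSubsystemOf E := gSys_le_of ⟨hEF, fun P hP α hα ⟨k, hk⟩ => h P hP ⟨⟨α, hα⟩, Subgroup.subset_closure ⟨k, by rw [Subgroup.orderOf_mk, hk]⟩, rfl⟩, fun _ h => h.elim⟩
  have hG := gP_gd (F := F) (p := p)
  have hfr := gP_fr hS hF
  refine ⟨primeToP_of hS hF hG hfr hEF hGE, fun P φ hφ => ?_, fun P => ⟨fun hP => ?_, fun hP => centric_sub hEF hP⟩⟩
  · have h0 := mi_toF.mpr hφ
    obtain ⟨a, ha, ha2⟩ := hfr _ _ _ h0
    obtain ⟨φ₀, hφ₀, h1, h2⟩ := ha2.mono hGE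
    refine ⟨a, ha, φ₀, hφ₀, fun x hx => ?_⟩
    rw [← ac_apply a hx, h1]
    simp only [Function.comp_apply]
    rw [ac_ac_inv a (h0.le' (h0.mem x.2)), toF_coe]
  · refine ⟨hP.1, fun Q hQ => ?_⟩
    obtain ⟨f, hf⟩ := exists_mi_of_isConj hQ
    obtain ⟨a, ha, ha2⟩ := hfr _ _ _ hf
    have h1 := hP.2 _ (ha2.mono hGE).isConj
    have hi := mi_im ((F.autGroup S).inv_mem ha) hf.le'
    intro c hc
    have h2 := h1 (mem_centralizerIn.mpr ⟨ac_mem a⁻¹ (mem_centralizerIn.mp hc).1, fun x hx => by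
      obtain ⟨y, hy, rfl⟩ := hi.surj hx
      have hm := (mi_ac (F := F) (P := S) le_rfl).mpr ((F.autGroup S).inv_mem ha)
      have hcS := (mem_centralizerIn.mp hc).1
      rw [← hm.map_mul (hf.le' hy) hcS, ← hm.map_mul hcS (hf.le' hy), (mem_centralizerIn.mp hc).2 y hy]⟩)
    obtain ⟨y, hy, hyc⟩ := hi.surj h2
    have hm := (mi_ac (F := F) (P := S) le_rfl).mpr ((F.autGroup S).inv_mem ha)
    have : y = c := hm.inj (hf.le' hy) (mem_centralizerIn.mp hc).1 hyc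
    rwa [← this]

/-- the system of the maps with a value in `H` -/
def hSys (F G : FusionSystem S) (hG : GD F G) (H : Subgroup (MulAut S)) : FusionSystem S :=
  ofRel F (fun P Q f => ∃ a ∈ H, V F G P Q f a)
    (fun _ _ _ _ hfg ⟨a, ha, h⟩ => ⟨a, ha, h.congr hfg⟩)
    (fun _ _ hP hs => ⟨1, H.one_mem, v_conj hG hP hs⟩)
    (fun _ _ _ _ _ hf hg ⟨a, ha, h1⟩ ⟨b, hb, h2⟩ => ⟨b * a, H.mul_mem hb ha, h1.comp hG hf hg h2⟩)
    (fun _ _ _ _ hf _ hgf ⟨a, ha, h⟩ => ⟨a⁻¹, H.inv_mem ha, h.symm_of hG hf hgf⟩)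
    (fun _ _ _ _ _ _ hf' hP ⟨a, ha, h⟩ => ⟨a, ha, h.restrict hG hP hf'⟩)

omit [Fact p.Prime] [Finite S] in
theorem mi_hSys {hG : GD F G} {H : Subgroup (MulAut S)} : Mi (hSys F G hG H) P Q f ↔ Mi F P Q f ∧ ∃ a ∈ H, V F G P Q f a := mi_ofRel

omit [Fact p.Prime] [Finite S] in
theorem le_hSys {hG : GD F G} {H : Subgroup (MulAut S)} : G.IsSubsystemOf (hSys F G hG H) :=
  le_of_mi fun _ _ _ h => mi_hSys.mpr ⟨h.mono hG.le, 1, H.one_mem, ((v_one hG).mp h).2.2⟩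

omit [Fact p.Prime] [Finite S] in
theorem hSys_le {hG : GD F G} {H : Subgroup (MulAut S)} : (hSys F G hG H).IsSubsystemOf F := fun _ _ h => h.1

theorem hSys_saturated (hS : IsPGroup p S) (hF : F.IsSaturated p) (hG : Std F G p) (hMC : ∀ P, F.IsFullyNormalized P → MC F G P)
    {H : Subgroup (MulAut S)} : (hSys F G hG.toGD H).IsSaturated p := by
  intro P hPS
  set E := hSys F G hG.toGD H with hE
  obtain ⟨Q, hPQ, hQ⟩ := exists_fullyNormalized (F := F) hPS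
  obtain ⟨f, hf⟩ := exists_mi_of_isConj hPQ
  obtain ⟨a, ha, ha2⟩ := hG.fr _ _ _ hf
  set Q₁ := im a⁻¹ Q with hQ₁
  have ha' := (F.autGroup S).inv_mem ha
  have hQQ₁ : F.IsConj Q Q₁ := (mi_im ha' hQ.1).isConj
  have hQ₁n : F.IsFullyNormalized Q₁ := by
    refine isFullyNormalized_of_conj_card (isConj_symm hQQ₁) hQ ?_
    have h1 : Mi F (normalizerIn S Q) _ (ac a⁻¹) := mi_im ha' inf_le_left
    rw [h1.card]
    refine Subgroup.card_le_of_le ?_
    intro y hy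
    obtain ⟨x, hx, rfl⟩ := h1.surj hy
    exact h1.map_normalizer (le_normalizerIn hQ.1) (mi_im ha' hQ.1) hx (mem_normalizerIn.mp hx).2
  have hQ₁S := hQ₁n.1
  haveI := finite_of_le hQ₁S
  haveI := finite_autGroup (S := S) hQ₁S
  refine ⟨Q₁, (ha2.mono le_hSys).isConj, ?_, hQ₁S, fun P' φ hφ hφr => ?_⟩
  · rw [fullyAutomized_iff_isSylowIn hQ₁S]
    exact IsSylowIn.of_le ((fullyAutomized_iff_isSylowIn hQ₁S).mp (fullyAutomized_of_fullyNormalized_sat hS hF hQ₁n))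
      (autInducedBy_le_autGroup E hQ₁S) (autGroup_mono hSys_le hQ₁S)
  · have hφF : φ ∈ F.Hom P' := hSys_le _ hφ
    obtain ⟨ψ, hψ, hag⟩ := (receptive_of_fullyNormalized_sat hS hF hQ₁n).2 P' φ hφF hφr
    have hφM := mi_toF.mpr hφ
    obtain ⟨hφM', h, hh, hhV⟩ := mi_hSys.mp hφM
    rw [hφr] at hφM' hhV
    have hψM := mi_toF.mpr hψ
    obtain ⟨b, hb⟩ := hG.fr _ _ _ hψM
    have hP'S := hφM'.le
    have hP'N : P' ≤ extender S P' φ := le_extender hP'S (fun x => hom_mem F hφF x)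
    have hψP : Mi F P' Q₁ (toF ψ) := hφM'.congr fun x hx => by
      rw [toF_apply _ hx, toF_apply _ (hP'N hx), hag x hx (hP'N hx)]
    obtain ⟨g, hg, hg1, hg2⟩ := hφM'.symm
    have hbP := hb.restrict hG.toGD hP'N hψP
    have hid : V F G Q₁ Q₁ id (h * b⁻¹) := by
      have hg1' : ∀ x ∈ P', g (toF ψ x) = x := fun x hx => by
        rw [toF_apply ψ (hP'N hx), hag x hx (hP'N hx), ← toF_apply φ hx, hg1 x hx]
      have h1 := (hbP.symm_of hG.toGD hψP hg1').comp hG.toGD hg hφM' hhV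
      exact h1.congr fun x hx => hg2 x hx
    obtain ⟨k, hk, hkV, hk1⟩ := th_realize hS hF hG (fc_of_fn hS hF hQ₁n) (hMC Q₁ hQ₁n _ hid) le_rfl (pc_le hQ₁S)
    have hψN : ψ.range ≤ normalizerIn S Q₁ := by
      intro y hy
      obtain ⟨x, hx, rfl⟩ := hψM.surj hy
      exact hψM.map_normalizer hP'N hψP hx (extender_le_normalizer hx)
    obtain ⟨Z, hZ, hkZ, hkZ'⟩ := hk.restrict hψN
    have hc := hψM.comp hkZ
    have hcV := hb.comp hG.toGD hψM hkZ (hkV.restrict hG.toGD hψN hkZ)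
    rw [inv_mul_cancel_right] at hcV
    obtain ⟨θ, hθ, hθ1, hθ2⟩ := (mi_hSys (hG := hG.toGD) (H := H)).mpr ⟨hc, h, hh, hcV⟩
    refine ⟨θ, hθ, fun x hx hN => ?_⟩
    rw [hθ1]
    simp only [Function.comp_apply]
    rw [toF_apply ψ hN, hag x hx hN]
    have hφx : φ ⟨x, hx⟩ ∈ Q₁ := by rw [← hφr]; exact ⟨_, rfl⟩
    exact hk1 _ hφx

theorem gC_saturated (hS : IsPGroup p S) (hF : F.IsSaturated p) : (gC F p).IsSaturated p := by
  have hG := std_gC (F := F) hS hF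
  have h1 := hSys_saturated hS hF hG (fun P hP => mc_gC hS hF _ P hP rfl) (H := (gC F p).autGroup S)
  have h2 : gC F p = hSys F (gC F p) hG.toGD ((gC F p).autGroup S) := by
    refine fusionSystem_antisymm le_hSys (le_of_mi fun P Q f h => ?_)
    obtain ⟨hf, a, ha, haV⟩ := mi_hSys.mp h
    have h3 := haV.mul_right hG.toGD hf.le' (fun x hx => hf.le' (hf.mem hx)) (Subgroup.inv_mem _ ha)
    rw [mul_inv_cancel] at h3
    exact (v_one hG.toGD).mpr ⟨hf.le', fun x hx => hf.le' (hf.mem hx), h3⟩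
  rw [h2]; exact h1

/-- S5140 -/
theorem gC_residual (hS : IsPGroup p S) (hF : F.IsSaturated p) : F.IsPPrimeResidual p (gC F p) := by
  have hG := std_gC (F := F) hS hF
  refine ⟨gC_saturated hS hF, primeToP_of hS hF hG.toGD hG.fr hG.le (fun _ _ h => h), fun D hD hDF => ?_⟩
  refine gSys_le_of ⟨hDF.1, fun P hP α hα ⟨k, hk⟩ => hDF.2 P hP.1 ⟨⟨α, hα⟩, Subgroup.subset_closure ⟨k, by rw [Subgroup.orderOf_mk, hk]⟩, rfl⟩, fun P hP a ha ⟨Q, hQ⟩ => ?_⟩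
  rw [mem_autGroup D le_rfl]
  refine mem_of_restrict_centric hS hF hD hDF.1 ((mem_autGroup F le_rfl).mp ha) _ P hP ?_ rfl
  exact hQ.mem_hom fun x => (ac_apply a (hP.1 x.2)).symm

end

end Cfsg.Agent.L0.Fus
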