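import Cfsg.Agent.L0.Fus.Prime7
import Cfsg.Agent.L0.Fus.Hyp
set_option autoImplicit false
/-! Characters on a strongly closed subgroup. -/

open Pointwise

namespace Cfsg.Agent.L0.Fus

open Cfsg.Agent.L0 Cfsg.FusionSystem

variable {Ω : Type*} [Group Ω]

section Star
variable {T : Subgroup Ω} [Finite T] {F E : FusionSystem T} {p : ℕ} [Fact p.Prime]

omit [Finite T] [Fact p.Prime] in
theorem v_iter (hG : GD F E) {X : Subgroup Ω} {f : Ω → Ω} {b : MulAut T} (hf : Mi F X X f) (h : V F E X X f b) (n : ℕ) :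
    Mi F X X (f^[n]) ∧ V F E X X (f^[n]) (b ^ n) := by
  induction n with
  | zero => exact ⟨Mi.refl hf.le, by rw [pow_zero]; exact v_id hG hf.le⟩
  | succ n ih =>
    rw [Function.iterate_succ, pow_succ]
    exact ⟨hf.comp ih.1, h.comp hG hf ih.1 ih.2⟩

omit [Finite T] [Fact p.Prime] in
theorem iter_eq {X Y : Subgroup Ω} {f : Ω → Ω} (hf : Mi F X X f) {y z : Ω} (hy : y ∈ X) (hz : z ∈ X) (hfy : f y = y * z) (hfz : f z = z) (n : ℕ) :
    (f^[n]) y = y * z ^ n := by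
  have hfz' : ∀ m : ℕ, f (z ^ m) = z ^ m := by
    intro m
    induction m with
    | zero => rw [pow_zero, hf.map_one]
    | succ m ih => rw [pow_succ, hf.map_mul (X.pow_mem hz m) hz, ih, hfz]
  induction n with
  | zero => simp
  | succ n ih =>
    rw [Function.iterate_succ_apply', ih, hf.map_mul hy (X.pow_mem hz n), hfy, hfz' n, mul_assoc, ← pow_succ']

/-- (★) -/
theorem star (hT : IsPGroup p T) (hE : E.IsSaturated p) (hG : GD F E) {K : Subgroup (MulAut T)} (hEK : E.autGroup T ≤ K)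
    (hKp : ∀ a ∈ F.autGroup T, ∀ n, a ^ p ^ n ∈ K → a ∈ K) (m : ℕ) : ∀ X : Subgroup Ω, E.IsCentric X → Nat.card T - Nat.card X = m →
    ∀ b ∈ F.autGroup T, ∀ Q, Mi E X Q (ac b) → b ∈ K := by
  induction m using Nat.strong_induction_on with
  | _ m ih =>
  intro X hX hm b hb Q hQ
  have hbT := (mi_ac (F := F) (P := T) le_rfl).mpr hb
  have hb' := (F.autGroup T).inv_mem hb
  have hbT' := (mi_ac (F := F) (P := T) le_rfl).mpr hb'
  by_cases hXT : X = T
  · subst hXT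
    rw [(hQ.mono hG.le).range_unique hbT (fun _ _ => rfl)] at hQ
    exact hEK ((mi_ac le_rfl).mp hQ)
  · have hXS := hX.1
    haveI := finite_of_le hXS
    have hlt := lt_normalizerIn hT (lt_of_le_of_ne hXS hXT)
    set X₁ := normalizerIn T X with hX₁
    have hX₁T : X₁ ≤ T := inf_le_left
    haveI : Finite X₁ := finite_of_le hX₁T
    have hQc : E.IsCentric Q := by
      obtain ⟨φ, hφ, -, h2⟩ := hQ
      rw [← h2]; exact centric_range hX hφ
    have hrec := receptive_of_fullyCentralized_sat hT hE (fullyCentralized_of_centric hQc)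
    obtain ⟨g, W', hg, hgb⟩ := mi_extend (W := X₁) hrec hQ hlt.le le_rfl (by
      intro w hw
      have hwT := hX₁T hw
      refine ⟨ac b w, ac_mem b hwT, fun x hx => ?_⟩
      have hxT := hXS hx
      rw [hbT.map_mul (T.mul_mem hwT hxT) (T.inv_mem hwT), hbT.map_mul hwT hxT, hbT.map_inv hwT])
    have hbX := mi_im (F := F) hb hX₁T
    have hgQ : Mi E X Q g := hQ.congr fun x hx => (hgb x hx).symm
    have hQX : Mi F Q X (ac b⁻¹) := (hQ.mono hG.le).symm_of fun x hx => ac_inv_ac b (hXS hx)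
    have hW'N : W' ≤ im b X₁ := by
      intro y hy
      have h1 : y ∈ normalizerIn T Q := by
        obtain ⟨x, hx, rfl⟩ := hg.surj hy
        exact hg.map_normalizer hlt.le hgQ hx (mem_normalizerIn.mp hx).2
      have h2 := mem_normalizerIn.mp h1
      have h3 := hbT'.map_normalizer hQ.le' hQX h2.1 h2.2
      exact (mem_im hX₁T).mpr ⟨_, h3, ac_ac_inv b h2.1⟩
    have hW' : W' = im b X₁ := by
      haveI : Finite ↥(im b X₁) := finite_of_le im_le
      exact Subgroup.eq_of_le_of_card_ge hW'N (by rw [← hbX.card, hg.card])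
    rw [hW'] at hg
    obtain ⟨gi, hgi, hgi1, hgi2⟩ := hg.symm
    have hε := hbX.comp (hgi.mono hG.le)
    have hεV := (v_ac (G := E) hb hX₁T).comp hG hbX (hgi.mono hG.le) ((v_one hG).mp hgi).2.2
    rw [one_mul] at hεV
    have hε1 : ∀ x ∈ X, (gi ∘ ac b) x = x := by
      intro x hx
      simp only [Function.comp_apply]
      rw [← hgb x hx, hgi1 x (hlt.le hx)]
    obtain ⟨k, hk⟩ := IsPGroup.iff_card.mp (hT.to_le hXS)
    have hid : ∀ y ∈ X₁, ((gi ∘ ac b)^[p ^ k]) y = y := by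
      intro y hy
      have hyN := (mem_normalizerIn.mp hy).2
      have hεy := hε.mem hy
      have hz : y⁻¹ * (gi ∘ ac b) y ∈ centralizerIn T X := by
        refine mem_centralizerIn.mpr ⟨T.mul_mem (T.inv_mem (hX₁T hy)) (hX₁T hεy), fun x hx => ?_⟩
        have h1 : y * x * y⁻¹ ∈ X := (Subgroup.mem_normalizer_iff.mp hyN x).mp hx
        have h2 := hε1 _ h1
        have hx1 := hlt.le hx
        rw [hε.map_mul (X₁.mul_mem hy hx1) (X₁.inv_mem hy), hε.map_mul hy hx1, hε.map_inv hy, hε1 x hx] at h2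
        have h3 : x * (y⁻¹ * (gi ∘ ac b) y) = y⁻¹ * (y * x * y⁻¹) * (gi ∘ ac b) y := by group
        rw [h3, ← h2]; group
      have hzX := hX.2 X (isConj_refl hXS) hz
      rw [iter_eq (Y := X) hε hy (hlt.le hzX) (z := y⁻¹ * (gi ∘ ac b) y) (by group) (hε1 _ hzX)]
      have h4 : (y⁻¹ * (gi ∘ ac b) y) ^ p ^ k = 1 := by
        have h5 : (⟨_, hzX⟩ : X) ^ p ^ k = 1 := by rw [← hk]; exact pow_card_eq_one'
        have h6 := congrArg Subtype.val h5
        simpa using h6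
      rw [h4, mul_one]
    have h1 := (v_iter hG hε hεV (p ^ k)).2
    have h2 : V F E X₁ X₁ id (b ^ p ^ k) := h1.congr fun x hx => hid x hx
    have hcard : Nat.card X < Nat.card X₁ := card_lt_of_lt hlt
    have hcard' : Nat.card X₁ ≤ Nat.card T := Subgroup.card_le_of_le hX₁T
    have h3 := ih (Nat.card T - Nat.card X₁) (by omega) X₁ (centric_of_ge hX hlt.le hX₁T) rfl _ ((F.autGroup T).inv_mem h2.1) _ h2.2
    have h4 := K.inv_mem h3
    rw [inv_inv] at h4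
    exact hKp b hb k h4

end Star

section Res
variable {S T : Subgroup Ω} {F : FusionSystem S} {E : FusionSystem T} {P Q : Subgroup Ω} {f : Ω → Ω} {p : ℕ}

theorem mi_restrictSystem (hTS : T ≤ S) : Mi (restrictSystem F T hTS) P Q f ↔ Mi F P Q f ∧ P ≤ T ∧ Q ≤ T := by
  constructor
  · rintro ⟨φ, ⟨hφ, h1, h2⟩, h3, rfl⟩
    exact ⟨⟨φ, hφ, h3, rfl⟩, h1, by rintro _ ⟨x, rfl⟩; exact h2 x⟩
  · rintro ⟨⟨φ, hφ, h3, rfl⟩, h1, h2⟩
    exact ⟨φ, ⟨hφ, h1, fun x => h2 ⟨x, rfl⟩⟩, h3, rfl⟩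

theorem gd_of_invariant (hTS : T ≤ S) (hE : E.IsInvariantIn F) : GD (restrictSystem F T hTS) E := by
  refine ⟨fun P φ hφ => ⟨hE.1 P hφ, (E.le_of_mem hφ).1, (E.le_of_mem hφ).2⟩, fun α hα P Q f hf => ?_⟩
  rw [restrict_autGroup hTS le_rfl] at hα
  have hf0 := hf
  obtain ⟨φ, hφ, hφf, rfl⟩ := hf
  have hPT := hom_le E hφ
  obtain ⟨χ, hχ, h⟩ := hE.2.2.1 P hPT φ hφ α hα
  refine ⟨χ, hχ, fun y => ?_, ?_⟩
  · obtain ⟨y, hy⟩ := y
    obtain ⟨x, hx, rfl⟩ := (mem_im hPT).mp hy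
    have h1 := h ⟨x, hx⟩ (hom_mem E hφ _) (by rw [← ac_apply α (hPT hx)]; exact hy)
    simp only [Function.comp_apply]
    rw [ac_inv_ac α (hPT hx), ← hφf ⟨x, hx⟩, ac_apply α (hom_mem E hφ _), ← h1]
    congr 1
    exact Subtype.ext (ac_apply α (hPT hx))
  · ext y
    constructor
    · rintro ⟨⟨y, hy⟩, rfl⟩
      obtain ⟨x, hx, rfl⟩ := (mem_im hPT).mp hy
      have h1 := h ⟨x, hx⟩ (hom_mem E hφ _) (by rw [← ac_apply α (hPT hx)]; exact hy)
      have h2 : χ ⟨ac α x, hy⟩ = ac α (φ ⟨x, hx⟩) := by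
        rw [ac_apply α (hom_mem E hφ _), ← h1]
        congr 1
        exact Subtype.ext (ac_apply α (hPT hx))
      exact (congrArg (fun z => z ∈ im α φ.range) h2).mpr ((mem_im (range_le E hφ)).mpr ⟨_, ⟨_, rfl⟩, rfl⟩)
    · intro hy
      obtain ⟨_, ⟨x, rfl⟩, rfl⟩ := (mem_im (range_le E hφ)).mp hy
      have hy' : ac α x ∈ im α P := (mem_im hPT).mpr ⟨x, x.2, rfl⟩
      have h1 := h x (hom_mem E hφ _) (by rw [← ac_apply α (hPT x.2)]; exact hy')
      refine ⟨⟨ac α x, hy'⟩, ?_⟩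
      rw [ac_apply α (hom_mem E hφ _), ← h1]
      congr 1
      exact Subtype.ext (ac_apply α (hPT x.2))

theorem fr_of_invariant (hTS : T ≤ S) (hE : E.IsInvariantIn F) (hf : Mi (restrictSystem F T hTS) P Q f) :
    ∃ a, V (restrictSystem F T hTS) E P Q f a := by
  obtain ⟨hf1, hPT, hQT⟩ := (mi_restrictSystem hTS).mp hf
  obtain ⟨φ, hφ, hφf, hφr⟩ := hf1
  obtain ⟨α, hα, φ₀, hφ₀, h⟩ := hE.2.2.2 P hPT φ hφ
  have hα' : α ∈ (restrictSystem F T hTS).autGroup T := by rw [restrict_autGroup hTS le_rfl]; exact hα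
  refine ⟨α, hα', ?_⟩
  have h1 : ∀ x ∈ P, (ac α⁻¹ ∘ f) x = toF φ₀ x := by
    intro x hx
    have hx0 := hom_mem E hφ₀ ⟨x, hx⟩
    simp only [Function.comp_apply]
    rw [← hφf ⟨x, hx⟩, h ⟨x, hx⟩ hx0, ← ac_apply α hx0, ac_inv_ac α hx0, toF_apply φ₀ hx]
  have h2 := (mi_toF.mpr hφ₀).congr fun x hx => (h1 x hx).symm
  have h3 := hf.comp (mi_im ((Subgroup.inv_mem _ hα')) hQT)
  have h4 := h3.range_unique h2 (fun _ _ => rfl)
  rw [h4]; exact h2

/-- intersections with a strongly closed subgroup -/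
theorem Mi.inf (hTS : T ≤ S) (hT : F.StronglyClosed T) (hf : Mi F P Q f) : Mi (restrictSystem F T hTS) (P ⊓ T) (Q ⊓ T) f := by
  refine (mi_restrictSystem hTS).mpr ⟨?_, inf_le_right, inf_le_right⟩
  refine hf.restrict_of inf_le_left fun y => ?_
  obtain ⟨φ, hφ, h1, rfl⟩ := hf
  constructor
  · intro hy
    obtain ⟨⟨x, rfl⟩, hyT⟩ := Subgroup.mem_inf.mp hy
    obtain ⟨ψ, hψ, h2⟩ := F.inv_mem hφ
    have h3 := StronglyClosed.mem hT hψ (x := ⟨φ x, ⟨x, rfl⟩⟩) hyT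
    rw [h2] at h3
    exact ⟨x, Subgroup.mem_inf.mpr ⟨x.2, h3⟩, (h1 x).symm⟩
  · rintro ⟨x, hx, rfl⟩
    have hx' := Subgroup.mem_inf.mp hx
    rw [← h1 ⟨x, hx'.1⟩]
    exact Subgroup.mem_inf.mpr ⟨⟨_, rfl⟩, StronglyClosed.mem hT hφ (x := ⟨x, hx'.1⟩) hx'.2⟩

end Res

end Cfsg.Agent.L0.Fus
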