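import Cfsg.Agent.L0.Fus.Prime8
set_option autoImplicit false
/-! The leastness trick. -/

open Pointwise

namespace Cfsg.Agent.L0.Fus

open Cfsg.Agent.L0 Cfsg.FusionSystem

variable {Ω : Type*} [Group Ω] {S : Subgroup Ω}

def RelG (F G : FusionSystem S) (TH : (Ω → Ω) → MulAut S → Prop) (P Q Q' : Subgroup Ω) (f : Ω → Ω) : Prop :=
  F.IsConj Q P → ∀ κ t κ' t' μ, Dt F G P Q κ t → Dt F G P Q' κ' t' → (∀ x ∈ Q, μ (κ x) = κ' (f x)) → TH μ (t' * t⁻¹)

section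
variable {F : FusionSystem S} {P Q R D D' X X' W W' P' : Subgroup Ω} {f g μ : Ω → Ω} {a b : MulAut S} {p : ℕ}
variable [Fact p.Prime] [Finite S]

theorem exists_dt' {G : FusionSystem S} (hS : IsPGroup p S) (hF : F.IsSaturated p) (hfr : ∀ P Q f, Mi F P Q f → ∃ a, V F G P Q f a)
    (hP : F.IsFullyNormalized P) (hQ : F.IsConj Q P) :
    ∃ κ t, Dt F G P Q κ t := by
  obtain ⟨φ, hφ, hφN, hφD⟩ := exists_map_normalizerIn hS (fullyAutomized_of_fullyNormalized_sat hS hF hP)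
    (receptive_of_fullyNormalized_sat hS hF hP) hQ
  have hκ := mi_toF.mpr hφ
  have hQN : Q ≤ normalizerIn S Q := le_normalizerIn (isConj_le_left hQ)
  have hκD : Mi F Q P (toF φ) := by
    refine hκ.restrict_of hQN fun y => ?_
    rw [← hφD]
    constructor
    · rintro ⟨x, hx, rfl⟩
      exact ⟨x, hx, toF_apply φ x.2⟩
    · rintro ⟨x, hx, rfl⟩
      exact ⟨⟨x, hQN hx⟩, hx, (toF_apply φ (hQN hx)).symm⟩
  obtain ⟨k, hk⟩ := hfr _ _ _ hκ
  exact ⟨toF φ, k, _, hκ, hκD, hk⟩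

theorem relG_of_lt {G : FusionSystem S} (hS : IsPGroup p S) (hG : GD F G) {TH : (Ω → Ω) → MulAut S → Prop}
    (hcongr : ∀ f g a, (∀ x ∈ P, f x = g x) → TH f a → TH g a)
    (hval : ∀ D D' f b, P < D → D ≤ normalizerIn S P → Mi F D D' f → Mi F P P f → V F G D D' f b → TH f b)
    (hf : Mi G X X' f) (hQX : Q < X) (hf' : Mi F Q D' f) : RelG F G TH P Q D' f := by
  rintro hQP κ t κ' t' μ ⟨N, hκ, hκQ, ht⟩ ⟨N', hκ', hκQ', ht'⟩ hμ
  have hXS := hf.le
  have hXp : IsPGroup p X := hS.to_le hXS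
  haveI := finite_of_le hXS
  have h1 := lt_normalizerIn hXp hQX
  have hle : normalizerIn X Q ≤ X := inf_le_left
  obtain ⟨Y', hY', hfY, hfY'⟩ := hf.restrict hle
  have hYN : normalizerIn X Q ≤ normalizerIn S Q := inf_le_inf_right _ hXS
  have hY'N : Y' ≤ normalizerIn S D' := by
    intro y hy
    obtain ⟨x, hx, rfl⟩ := hfY.surj hy
    exact (hf.mono hG.le).map_normalizer hQX.le hf' (hle hx) (mem_normalizerIn.mp hx).2
  obtain ⟨D, hD, hκD, hκD'⟩ := hκ.restrict hYN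
  obtain ⟨κi, hκi, hκi1, hκi2⟩ := hκD.symm
  obtain ⟨Z, hZ, hκ'Z, hκ'Z'⟩ := hκ'.restrict hY'N
  have hfYF := hfY.mono hG.le
  have hc := (hκi.comp hfYF).comp hκ'Z
  have hv := (((ht.restrict hG hYN hκD).symm_of hG hκD hκi1).comp hG hκi hfYF ((v_one hG).mp hfY).2.2).comp hG
    (hκi.comp hfYF) hκ'Z (ht'.restrict hG hY'N hκ'Z)
  rw [one_mul] at hv
  have hκiP : Mi F P Q κi := hκQ.symm_of fun x hx => hκi1 x (h1.le hx)
  have hcP := (hκiP.comp hf').comp hκQ'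
  have hPD : P < D := by
    have h3 : P ≤ D := by
      intro y hy
      obtain ⟨x, hx, rfl⟩ := hκQ.surj hy
      exact hκD.mem (h1.le hx)
    refine lt_of_le_of_ne h3 fun h4 => ?_
    subst h4
    have h5 := hκD.card
    rw [← hκQ.card] at h5
    haveI : Finite ↥(normalizerIn X Q) := finite_of_le inf_le_left
    exact absurd (card_lt_of_lt h1) (by omega)
  have hDN : D ≤ normalizerIn S P := by
    intro y hy
    obtain ⟨x, hx, rfl⟩ := hκD.surj hy
    exact hκ.map_normalizer (le_normalizerIn (isConj_le_left hQP)) hκQ (hYN hx) (mem_normalizerIn.mp hx).2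
  refine hcongr _ _ _ (fun y hy => ?_) (hval _ _ _ _ hPD hDN hc hcP hv)
  obtain ⟨x, hx, rfl⟩ := hκQ.surj hy
  simp only [Function.comp_apply]
  rw [hκi1 x (h1.le hx), hμ x hx]

theorem trick (hS : IsPGroup p S) (hF : F.IsSaturated p) {XX YY : Subgroup Ω → Prop} (hXS : ∀ P, XX P → P ≤ S)
    (hG : GD F (gSys F p XX YY)) (hfr : ∀ P Q f, Mi F P Q f → ∃ a, V F (gSys F p XX YY) P Q f a)
    (hP : F.IsFullyNormalized P) (hPS : P < S) (hX : ∀ Q, F.IsConj Q P → ¬ XX Q)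
    (TH : (Ω → Ω) → MulAut S → Prop)
    (hcongr : ∀ f g a, (∀ x ∈ P, f x = g x) → TH f a → TH g a)
    (hcomp : ∀ f g a b, TH f a → TH g b → TH (g ∘ f) (b * a))
    (hsymm : ∀ f g a, TH f a → (∀ x ∈ P, g (f x) = x) → TH g a⁻¹)
    (hval : ∀ D D' f b, P < D → D ≤ normalizerIn S P → Mi F D D' f → Mi F P P f → V F (gSys F p XX YY) D D' f b → TH f b) :
    ∀ a, V F (gSys F p XX YY) P P id a → TH id a := by
  intro a ha
  have hcls := gSys_cls (F := F) (p := p) (Y := YY) hXS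
  set G := gSys F p XX YY with hGdef
  have hPle := hP.1
  have hncS : ¬ F.IsConj S P := fun h => absurd (card_lt_of_lt hPS) (by rw [isConj_card h]; omega)
  let E : FusionSystem S := ofRel G (RelG F G TH P)
    (by
      intro Q Q' f g hfg h hQP κ t κ' t' μ h1 h2 h3
      exact h hQP κ t κ' t' μ h1 h2 fun x hx => by rw [hfg x hx]; exact h3 x hx)
    (by
      intro Q s hQ hs hQP
      have hQS : Q < S := lt_of_le_of_ne hQ fun h => by
        have h1 := isConj_card hQP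
        have h2 := card_lt_of_lt hPS
        rw [h] at h1; omega
      exact relG_of_lt hS hG hcongr hval (mi_conj (F := G) le_rfl hs) hQS (mi_conj hQ hs) hQP)
    (by
      intro P₁ Q Q' f g hf hg h1 h2 hP₁ κ t κ'' t'' μ hd hd'' hμ
      have hQP : F.IsConj Q P := isConj_trans (isConj_symm (hf.mono hG.le).isConj) hP₁
      obtain ⟨κ', t', hd'⟩ := exists_dt' hS hF hfr hP hQP
      obtain ⟨N₁, hN₁, hκ1, hV1⟩ := hd
      obtain ⟨N₂, hN₂, hκ2, hV2⟩ := hd'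
      obtain ⟨i1, hi1, hi1a, hi1b⟩ := hκ1.symm
      obtain ⟨i2, hi2, hi2a, hi2b⟩ := hκ2.symm
      have e1 := h1 hP₁ κ t κ' t' (κ' ∘ f ∘ i1) ⟨N₁, hN₁, hκ1, hV1⟩ ⟨N₂, hN₂, hκ2, hV2⟩
        (fun x hx => by simp only [Function.comp_apply]; rw [hi1a x hx])
      have e2 := h2 hQP κ' t' κ'' t'' (κ'' ∘ g ∘ i2) ⟨N₂, hN₂, hκ2, hV2⟩ hd''
        (fun x hx => by simp only [Function.comp_apply]; rw [hi2a x hx])
      have e3 := hcomp _ _ _ _ e1 e2
      have e4 : t'' * t'⁻¹ * (t' * t⁻¹) = t'' * t⁻¹ := by group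
      rw [e4] at e3
      refine hcongr _ _ _ (fun y hy => ?_) e3
      obtain ⟨x, hx, rfl⟩ := hκ1.surj hy
      simp only [Function.comp_apply]
      rw [hi1a x hx, hi2a _ (hf.mem hx), hμ x hx]; rfl)
    (by
      intro Q Q' f g hf hg hgf h1 hQ'P κ' t' κ t μ hd' hd hμ
      have hQP : F.IsConj Q P := isConj_trans (hf.mono hG.le).isConj hQ'P
      obtain ⟨N₁, hN₁, hκ1, hV1⟩ := hd
      obtain ⟨i1, hi1, hi1a, hi1b⟩ := hκ1.symm
      have e1 := h1 hQP κ t κ' t' (κ' ∘ f ∘ i1) ⟨N₁, hN₁, hκ1, hV1⟩ hd'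
        (fun x hx => by simp only [Function.comp_apply]; rw [hi1a x hx])
      have e2 := hsymm _ μ _ e1 fun y hy => by
        obtain ⟨x, hx, rfl⟩ := hκ1.surj hy
        simp only [Function.comp_apply]
        rw [hi1a x hx, hμ _ (hf.mem hx), hgf x hx]
      rwa [mul_inv_rev, inv_inv] at e2)
    (by
      intro Q Q' f Q₁ Q₁' hf hf₁ hle h
      rcases eq_or_lt_of_le hle with h1 | h1
      · subst h1
        rw [hf₁.range_unique hf (fun _ _ => rfl)]; exact h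
      · exact relG_of_lt hS hG hcongr hval hf h1 (hf₁.mono hG.le))
  have hcls' : PCls F p XX YY E := by
    refine ⟨fun X φ h => hG.le X h.1, fun X hXX α hα hk => ?_, fun X hYX c hc ⟨Q, hQ⟩ => ?_⟩
    · have h1 := hcls.2.1 X hXX α hα hk
      rw [← mi_ac (hXS X hXX)] at h1 ⊢
      exact mi_ofRel.mpr ⟨h1, fun h => (hX X h hXX).elim⟩
    · have h1 := hcls.2.2 X hYX c hc ⟨Q, (mi_ofRel.mp hQ).1⟩
      rw [← mi_ac le_rfl] at h1 ⊢
      exact mi_ofRel.mpr ⟨h1, fun h => (hncS h).elim⟩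
  have hGE : G.IsSubsystemOf E := gSys_le_of hcls'
  have h1 := (mi_ofRel.mp (ha.2.mono hGE)).2 (isConj_refl hPle)
  have hN : Mi F (normalizerIn S P) (normalizerIn S P) id := Mi.refl inf_le_left
  have hd1 : Dt F G P P id 1 := ⟨_, hN, Mi.refl hPle, v_id hG inf_le_left⟩
  have ha' := (F.autGroup S).inv_mem ha.1
  have hQ' : F.IsConj (im a⁻¹ P) P := isConj_symm (mi_im ha' hPle).isConj
  obtain ⟨κ', t', hd'⟩ := exists_dt' hS hF hfr hP hQ'
  have h2 := h1 id 1 κ' t' (κ' ∘ ac a⁻¹) hd1 hd' (fun x hx => rfl)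
  rw [inv_one, mul_one] at h2
  obtain ⟨N', hN', hκP, hκV⟩ := hd'
  have h3 : Mi F (normalizerIn S P) (im a⁻¹ (normalizerIn S P)) (ac a⁻¹) := mi_im ha' inf_le_left
  have h3V : V F G (normalizerIn S P) (im a⁻¹ (normalizerIn S P)) (ac a⁻¹) a⁻¹ := v_ac ha' inf_le_left
  have h4 : im a⁻¹ (normalizerIn S P) ≤ normalizerIn S (im a⁻¹ P) := by
    intro y hy
    obtain ⟨x, hx, rfl⟩ := h3.surj hy
    exact h3.map_normalizer (le_normalizerIn hPle) (mi_im ha' hPle) hx (mem_normalizerIn.mp hx).2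
  obtain ⟨Z, hZ, h5, h6⟩ := hN'.restrict h4
  have h7 := h3V.comp hG h3 h5 (hκV.restrict hG h4 h5)
  have h8 := hval _ _ _ _ (lt_normalizerIn hS hPS) le_rfl (h3.comp h5) ((mi_im ha' hPle).comp hκP) h7
  obtain ⟨i, hi, hi1, hi2⟩ := ((mi_im ha' hPle).comp hκP).symm
  have h9 := hcomp _ _ _ _ h2 (hsymm _ _ _ h8 hi1)
  have h10 : (t' * a⁻¹)⁻¹ * t' = a := by group
  rw [h10] at h9
  exact hcongr _ _ _ (fun x hx => hi1 x hx) h9

end

end Cfsg.Agent.L0.Fus
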