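import Cfsg.Agent.L0.Core
import Cfsg.Agent.H6.Omega
import Cfsg.Agent.S0093
import Cfsg.Agent.S0121
import Cfsg.Agent.H1.Basic
set_option autoImplicit false
/-! Coprime automorphisms of a `p`-group and normal abelian subgroups of small exponent. -/

open Pointwise Subgroup
open scoped commutatorElement

namespace Cfsg.Agent.L0.Fus

open Cfsg.Agent.L0 Cfsg.Agent.H6

theorem exists_resAut {P : Type*} [Group P] [Finite P] (α : MulAut P) (Y : Subgroup P) (hY : ∀ x ∈ Y, α x ∈ Y) :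
    ∃ β : MulAut Y, (∀ x : Y, ((β x : Y) : P) = α x) ∧ orderOf β ∣ orderOf α := by
  let f : Y →* Y := (α.toMonoidHom.comp Y.subtype).codRestrict Y (fun x => hY x x.2)
  have hf : Function.Injective f := by
    intro x y h
    have h1 := congrArg Subtype.val h
    exact Subtype.ext (α.injective h1)
  let β : MulAut Y := MulEquiv.ofBijective f (Finite.injective_iff_bijective.mp hf)
  have hβ : ∀ x : Y, ((β x : Y) : P) = α x := fun x => rfl
  refine ⟨β, hβ, orderOf_dvd_of_pow_eq_one ?_⟩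
  have h1 : ∀ (n : ℕ) (x : Y), (((β ^ n) x : Y) : P) = (α ^ n) x := by
    intro n x
    induction n with
    | zero => simp
    | succ n ih => rw [pow_succ', pow_succ', MulAut.mul_apply, MulAut.mul_apply, hβ, ih]
  ext x
  rw [h1, pow_orderOf_eq_one]; rfl

section
variable {P : Type*} [Group P] [Finite P] {p : ℕ} [hp : Fact p.Prime]

theorem Sm.inv {x : P} (h : Sm p x) : Sm p x⁻¹ := by
  rcases h with h | ⟨h1, h2⟩
  · left; rw [inv_pow, h, inv_one]
  · right; exact ⟨h1, by rw [inv_pow, h2, inv_one]⟩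

theorem frattini_pow {H : Type*} [Group H] [Finite H] (hH : IsPGroup p H) (x : H) : x ^ p ∈ frattini H := by
  unfold frattini Order.radical
  simp only [Subgroup.mem_iInf]
  intro K hK
  have hnil : Group.IsNilpotent H := hH.isNilpotent
  haveI hKn : K.Normal := Subgroup.NormalizerCondition.normal_of_coatom K (Group.normalizerCondition_of_isNilpotent) hK
  have hKi : K.index = p := by
    obtain ⟨⟨n, hn⟩⟩ : Nonempty {n : ℕ // K.index = p ^ n} := by
      obtain ⟨n, hn⟩ := IsPGroup.iff_card.1 (hH.to_quotient K)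
      exact ⟨⟨n, hn⟩⟩
    have hn1 : n ≠ 0 := by
      rintro rfl
      rw [pow_zero, Subgroup.index_eq_one] at hn
      exact hK.1 hn
    have hcard : p ∣ Nat.card (H ⧸ K) := by
      have : Nat.card (H ⧸ K) = p ^ n := hn
      rw [this]; exact dvd_pow_self p hn1
    obtain ⟨y, hy⟩ := exists_prime_orderOf_dvd_card' p hcard
    have hyc : (zpowers y).comap (QuotientGroup.mk' K) = ⊤ := by
      refine hK.2 _ (lt_of_le_of_ne ?_ ?_)
      · intro k hk
        have : QuotientGroup.mk' K k = 1 := (QuotientGroup.eq_one_iff _).2 hk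
        rw [mem_comap, this]; exact one_mem _
      · intro he
        obtain ⟨w, hw⟩ := QuotientGroup.mk'_surjective K y
        have h5 : w ∈ K := by
          rw [he, mem_comap, hw]; exact mem_zpowers y
        have h6 : y = 1 := by rw [← hw]; exact (QuotientGroup.eq_one_iff _).2 h5
        rw [h6, orderOf_one] at hy
        exact hp.out.ne_one hy.symm
    have hyt : zpowers y = ⊤ := by
      rw [eq_top_iff]
      intro w _
      obtain ⟨v, rfl⟩ := QuotientGroup.mk'_surjective K w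
      have : v ∈ (zpowers y).comap (QuotientGroup.mk' K) := by rw [hyc]; trivial
      exact this
    have : Nat.card (H ⧸ K) = p := by
      rw [← Subgroup.card_top (G := H ⧸ K), ← hyt, Nat.card_zpowers, hy]
    exact this
  have h5 : (QuotientGroup.mk' K x) ^ p = 1 := by
    have : Nat.card (H ⧸ K) = p := hKi
    rw [← this]; exact pow_card_eq_one'
  rw [← map_pow] at h5
  exact (QuotientGroup.eq_one_iff _).1 h5

/-- a coprime automorphism trivial modulo `Y`, all small abelian normal subgroups of `P` inside `Y` being fixed and central -/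
theorem aut_eq_one_of_small (hP : IsPGroup p P) (Y : Subgroup P) [hYn : Y.Normal] (α : MulAut P) (hα : (orderOf α).Coprime p)
    (hY : ∀ x ∈ Y, α x ∈ Y) (hq : ∀ x, x⁻¹ * α x ∈ Y) (Z : Subgroup P) (hZc : ∀ z ∈ Z, ∀ x, z * x = x * z) (hZf : ∀ z ∈ Z, α z = z)
    (hA : ∀ A : Subgroup P, A ≤ Y → A.Normal → (∀ x ∈ A, ∀ y ∈ A, x * y = y * x) → (∀ x ∈ A, Sm p x) → A ≤ Z) : α = 1 := by
  have hYp : IsPGroup p Y := hP.to_subgroup Y
  obtain ⟨H, hHc, h1, h2, h3⟩ := Agent.S0093.result hYp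
  haveI := hHc
  have hHn : (H.map Y.subtype).Normal := normal_map_subtype_of_characteristic _
  have hpow : ∀ x ∈ H, ∀ z ∈ H, x ^ p * z = z * x ^ p := by
    intro x hx z hz
    have h4 : (⟨x, hx⟩ : ↥H) ^ p ∈ frattini ↥H := frattini_pow (hYp.to_subgroup H) _
    have h5 : x ^ p ∈ (frattini H).map H.subtype := ⟨_, h4, rfl⟩
    exact (mem_centralizer_iff.1 (h1 h5) z hz).symm
  have hcomm : ∀ x ∈ H, ∀ y : Y, ⁅x, y⁆ ∈ H ∧ ∀ z ∈ H, ⁅x, y⁆ * z = z * ⁅x, y⁆ := by
    intro x hx y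
    have h4 : ⁅x, y⁆ ∈ H ⊓ centralizer (H : Set Y) := h2 (commutator_mem_commutator hx (mem_top y))
    exact ⟨(mem_inf.1 h4).1, fun z hz => (mem_centralizer_iff.1 (mem_inf.1 h4).2 z hz).symm⟩
  have hcp : ∀ x ∈ H, ∀ y ∈ H, ⁅y, x⁆ ^ p = 1 := by
    intro x hx y hy
    have e := comm_pow_left (x := x) (y := y) ((hcomm y hy x).2 x hx) ((hcomm y hy x).2 y hy) p
    rw [← e, commutatorElement_def, hpow y hy x hx]
    group
  set H' := H.map Y.subtype with hH'
  have hH'Y : H' ≤ Y := map_subtype_le _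
  let V : Subgroup P :=
    { carrier := {x | x ∈ H' ∧ (∀ y ∈ H', x * y = y * x) ∧ Sm p x}
      one_mem' := ⟨one_mem _, fun y _ => by simp, Sm.one p⟩
      mul_mem' := by
        rintro x y ⟨a1, a2, a3⟩ ⟨b1, b2, b3⟩
        have e : ⁅y, x⁆ = 1 := commutatorElement_eq_one_iff_mul_comm.mpr (a2 y b1).symm
        refine ⟨mul_mem a1 b1, fun z hz => by rw [mul_assoc, b2 z hz, ← mul_assoc, a2 z hz, mul_assoc], ?_⟩
        exact Sm.mul (by rw [e]; simp) (by rw [e]; simp) (by rw [e, one_pow]) a3 b3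
      inv_mem' := by
        rintro x ⟨a1, a2, a3⟩
        refine ⟨inv_mem a1, fun z hz => ?_, Sm.inv a3⟩
        have := a2 z hz
        rw [inv_mul_eq_iff_eq_mul, ← mul_assoc, this, mul_inv_cancel_right] }
  let D : Subgroup P :=
    { carrier := {x | x ∈ H' ∧ Sm p x}
      one_mem' := ⟨one_mem _, Sm.one p⟩
      mul_mem' := by
        rintro x y ⟨⟨x, hx, rfl⟩, a3⟩ ⟨⟨y, hy, rfl⟩, b3⟩
        refine ⟨⟨x * y, H.mul_mem hx hy, rfl⟩, ?_⟩
        have e := hcomm y hy x
        have e0 : ⁅(Y.subtype y : P), (Y.subtype x : P)⁆ = Y.subtype ⁅y, x⁆ := (map_commutatorElement Y.subtype y x).symm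
        refine Sm.mul ?_ ?_ ?_ a3 b3
        · rw [e0, ← map_mul, ← map_mul, e.2 x hx]
        · rw [e0, ← map_mul, ← map_mul, e.2 y hy]
        · rw [e0, ← map_pow, hcp x hx y hy, map_one]
      inv_mem' := by
        rintro x ⟨a1, a3⟩
        exact ⟨inv_mem a1, Sm.inv a3⟩ }
  have hVmem : ∀ x, x ∈ V ↔ x ∈ H' ∧ (∀ y ∈ H', x * y = y * x) ∧ Sm p x := fun x => Iff.rfl
  have hDmem : ∀ x, x ∈ D ↔ x ∈ H' ∧ Sm p x := fun x => Iff.rfl
  have hVn : V.Normal := ⟨fun x hx g => by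
    obtain ⟨a1, a2, a3⟩ := (hVmem x).mp hx
    refine (hVmem _).mpr ⟨hHn.conj_mem x a1 g, fun y hy => ?_, ?_⟩
    · have h4 := a2 _ (hHn.conj_mem y hy g⁻¹)
      have h5 : g * x * g⁻¹ * y = g * (x * (g⁻¹ * y * g⁻¹⁻¹)) * g⁻¹ := by group
      rw [h5, h4]; group
    · exact a3.map (MulAut.conj g).toMonoidHom⟩
  have hDn : D.Normal := ⟨fun x hx g => by
    obtain ⟨a1, a3⟩ := (hDmem x).mp hx
    exact (hDmem _).mpr ⟨hHn.conj_mem x a1 g, a3.map (MulAut.conj g).toMonoidHom⟩⟩
  have hVZ : V ≤ Z := hA V (fun x hx => hH'Y ((hVmem x).mp hx).1) hVn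
    (fun x hx y hy => ((hVmem x).mp hx).2.1 y ((hVmem y).mp hy).1) (fun x hx => ((hVmem x).mp hx).2.2)
  have hDV : D ≤ V := by
    by_contra hcon
    have hne : D.map (QuotientGroup.mk' V) ≠ ⊥ := by
      intro h
      rw [Subgroup.map_eq_bot_iff, QuotientGroup.ker_mk'] at h
      exact hcon h
    haveI : Group.IsNilpotent (P ⧸ V) := (hP.to_quotient V).isNilpotent
    haveI hDmn : (D.map (QuotientGroup.mk' V)).Normal := hDn.map _ (QuotientGroup.mk'_surjective V)
    have h4 := H1.inf_center_ne_bot _ hne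
    obtain ⟨w, hw1⟩ := Subgroup.ne_bot_iff_exists_ne_one.mp h4
    obtain ⟨⟨x, hx, hxw⟩, hwc⟩ := Subgroup.mem_inf.mp w.2
    have hxV : x ∉ V := fun h => hw1 (Subtype.ext (by
      rw [← hxw]
      exact (QuotientGroup.eq_one_iff _).mpr h))
    obtain ⟨hx1, hx3⟩ := (hDmem x).mp hx
    have hxc : ∀ g : P, g * x * g⁻¹ * x⁻¹ ∈ V := by
      intro g
      rw [← QuotientGroup.eq_one_iff]
      have h5 := Subgroup.mem_center_iff.mp hwc (QuotientGroup.mk' V g)
      rw [← hxw, ← map_mul, ← map_mul] at h5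
      have h6 : (QuotientGroup.mk' V (g * x * g⁻¹ * x⁻¹)) = QuotientGroup.mk' V (g * x) * (QuotientGroup.mk' V (x * g))⁻¹ := by
        rw [← map_inv, ← map_mul]; congr 1; group
      change QuotientGroup.mk' V (g * x * g⁻¹ * x⁻¹) = 1
      rw [h6, h5, mul_inv_cancel]
    set A : Subgroup P := V ⊔ zpowers x with hAdef
    have hAmem : ∀ y ∈ A, ∃ v ∈ V, ∃ k : ℤ, y = v * x ^ k := by
      intro y hy
      have h5 : y ∈ ((V ⊔ zpowers x : Subgroup P) : Set P) := hy
      rw [Subgroup.normal_mul] at h5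
      obtain ⟨v, hv, z, ⟨k, rfl⟩, rfl⟩ := Set.mem_mul.mp h5
      exact ⟨v, hv, k, rfl⟩
    have hxA : x ∈ A := (le_sup_right (α := Subgroup P)) (mem_zpowers x)
    have hVA : V ≤ A := le_sup_left
    have hgx : ∀ g : P, g * x * g⁻¹ ∈ A := by
      intro g
      have h5 := A.mul_mem (hVA (hxc g)) hxA
      rwa [inv_mul_cancel_right] at h5
    have hAn : A.Normal := ⟨fun y hy g => by
      obtain ⟨v, hv, k, rfl⟩ := hAmem y hy
      have h5 : g * (v * x ^ k) * g⁻¹ = (g * v * g⁻¹) * (g * x * g⁻¹) ^ k := by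
        rw [conj_zpow]; group
      rw [h5]
      exact A.mul_mem (hVA (hVn.conj_mem v hv g)) (A.zpow_mem (hgx g) k)⟩
    have hvc : ∀ v ∈ V, ∀ y : P, v * y = y * v := fun v hv y => hZc v (hVZ hv) y
    have hAle := hA A (sup_le (fun v hv => hH'Y ((hVmem v).mp hv).1) (by rw [zpowers_le]; exact hH'Y hx1)) hAn (by
      intro y hy z hz
      obtain ⟨v, hv, k, rfl⟩ := hAmem y hy
      obtain ⟨v', hv', l, rfl⟩ := hAmem z hz
      calc v * x ^ k * (v' * x ^ l) = v * (v' * x ^ k) * x ^ l := by rw [hvc v' hv' (x ^ k)]; group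
        _ = v' * (v * (x ^ k * x ^ l)) := by rw [← mul_assoc v v', hvc v hv v']; group
        _ = v' * (v * (x ^ l * x ^ k)) := by rw [← zpow_add, ← zpow_add, add_comm]
        _ = v' * x ^ l * (v * x ^ k) := by
          rw [← mul_assoc v, hvc v hv (x ^ l)]; group) (by
      intro y hy
      obtain ⟨v, hv, k, rfl⟩ := hAmem y hy
      have hxk : Sm p (x ^ k) := by
        rcases hx3 with h | ⟨h, h'⟩
        · left; rw [← zpow_natCast, ← zpow_mul, mul_comm, zpow_mul, zpow_natCast, h, one_zpow]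
        · right
          refine ⟨h, ?_⟩
          rw [← zpow_natCast, ← zpow_mul, mul_comm, zpow_mul, zpow_natCast, h', one_zpow]
      have e : ⁅x ^ k, v⁆ = 1 := commutatorElement_eq_one_iff_mul_comm.mpr (hvc v hv _).symm
      exact Sm.mul (by rw [e]; simp) (by rw [e]; simp) (by rw [e, one_pow]) ((hVmem v).mp hv).2.2 hxk)
    exact hxV ((hVmem x).mpr ⟨hx1, fun y _ => hZc x (hAle hxA) y, hx3⟩)
  -- the automorphism is trivial on `Y`
  obtain ⟨β, hβ, hβo⟩ := exists_resAut α Y hY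
  have hβc : (orderOf β).Coprime p := Nat.Coprime.coprime_dvd_left hβo hα
  have hHβ : ∀ x ∈ H, β x ∈ H := by
    intro x hx
    have h4 := hHc.fixed β
    rw [← h4] at hx
    exact hx
  obtain ⟨γ, hγ, hγo⟩ := exists_resAut β H hHβ
  have hγ1 : γ = 1 := by
    refine omega_faithful (hYp.to_subgroup H) γ (Nat.Coprime.coprime_dvd_left hγo hβc) fun x hx => ?_
    apply Subtype.ext; apply Subtype.ext
    rw [hγ, hβ]
    have h5 : ((x : Y) : P) ∈ D := (hDmem _).mpr ⟨⟨x, x.2, rfl⟩, (hx.map H.subtype).map Y.subtype⟩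
    exact hZf _ (hVZ (hDV h5))
  have hβ1 : β = 1 := Agent.S0121.result hYp H hHc h1 h2 h3 β hβc.symm.symm fun x hx => by
    have h5 := hγ ⟨x, hx⟩
    rw [hγ1] at h5
    exact h5.symm
  ext x
  have h5 := fix_trick (h := x) hP hα (by
    have h6 := hβ ⟨_, hq x⟩
    rw [hβ1] at h6
    exact h6.symm)
  rw [h5]; rfl

end

end Cfsg.Agent.L0.Fus
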