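import Cfsg.Agent.L0.Fus.Small2
import Cfsg.Agent.L0.Fus.Small1
set_option autoImplicit false
/-! Small abelian subgroups control fusion. -/

open Pointwise

namespace Cfsg.Agent.L0.Fus

open Cfsg.Agent.L0 Cfsg.FusionSystem

variable {Ω : Type*} [Group Ω] {S : Subgroup Ω}

section
variable {F E : FusionSystem S} {P Q R R' A W : Subgroup Ω} {f g : Ω → Ω} {p : ℕ}
variable [Fact p.Prime] [Finite S]

theorem radical_S (hS : IsPGroup p S) (hF : F.IsSaturated p) : F.IsRadical p S := by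
  rw [radical_iff hS le_rfl]
  intro O hO hOp hOn
  have hsyl := isSylowIn_autInducedBy (fullyAutomized_of_fullyNormalized_sat hS hF fullyNormalized_self)
  haveI := finite_autGroup (S := S) (le_refl S)
  have h1 := IsSylowIn.normal_le hsyl hOp hO fun α hα => by
    rw [Subgroup.mem_normalizer_iff]
    intro o
    refine ⟨hOn α hα o, fun h => ?_⟩
    have h1 := hOn α⁻¹ (Subgroup.inv_mem _ hα) _ h
    have h2 : α⁻¹ * (α * o * α⁻¹) * α⁻¹⁻¹ = o := by group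
    rwa [h2] at h1
  intro o ho
  obtain ⟨s, hs, hsx⟩ := mem_autInducedBy.mp (h1 ho)
  rw [mem_Inn]
  exact ⟨⟨s, hs⟩, fun y => Subtype.ext (hsx y)⟩

omit [Fact p.Prime] [Finite S] in
theorem kHom_mono (hEF : E.IsSubsystemOf F) {K : Subgroup (MulAut A)} : kHom E A K P ⊆ kHom F A K P := by
  rintro φ ⟨h1, h2, h3, ψ, hψ, h4, κ, hκ, h5⟩
  exact ⟨hEF _ h1, h2, h3, ψ, hEF _ hψ, h4, κ, hκ, h5⟩

theorem k_le (hS : IsPGroup p S) (hF : F.IsSaturated p) (hE : E.IsSaturated p) (hEF : E.IsSubsystemOf F) {K : Subgroup (MulAut A)}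
    (hAF : F.IsFullyCentralized A) (hAE : E.IsFullyCentralized A) (hAc : ∀ x ∈ A, ∀ y ∈ A, x * y = y * x) (hK : K ≤ autInducedBy S A)
    (hC : ∀ R R' f, A ≤ R → R ≤ centralizerIn S A → Mi F R R' f → (∀ x ∈ A, f x = x) → Mi E R R' f)
    (hAR : A ≤ R) (hR : R ≤ kNormIn S A K) (hR' : R' ≤ kNormIn S A K) (hf : Mi F R R' f) (hκ : ∃ κ ∈ K, ∀ x : A, f x = κ x) :
    Mi E R R' f := by
  have hAS := hAF.1
  haveI : Finite A := finite_of_le hAS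
  have hInn : Inn A ≤ K := by
    intro α hα
    rw [mem_Inn] at hα
    obtain ⟨x, hx⟩ := hα
    have : α = 1 := by
      apply MulEquiv.ext
      intro y
      rw [hx]
      apply Subtype.ext
      change (x : Ω) * y * (x : Ω)⁻¹ = y
      rw [hAc x x.2 y y.2, mul_inv_cancel_right]
    rw [this]; exact K.one_mem
  have hAU := le_kNormIn_of_inn hAS hInn
  have hUS : kNormIn S A K ≤ S := kNormIn_le
  haveI : Finite ↥(kNormIn S A K) := finite_of_le hUS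
  have hUp : IsPGroup p ↥(kNormIn S A K) := hS.to_le hUS
  obtain ⟨D, hD⟩ := exists_kSystem F hAS K rfl
  obtain ⟨D', hD'⟩ := exists_kSystem E hAS K rfl
  have hDs := kSystem_saturated hS hF hD (fullyK_of_le hAF hK)
  have hD's := kSystem_saturated hS hE hD' (fullyK_of_le hAE hK)
  have hDD : D'.IsSubsystemOf D := by
    intro P φ hφ
    rw [hD' P] at hφ
    rw [hD P]
    exact kHom_mono hEF hφ
  have hn := kSystem_normal hAS hInn hD
  have hmi : ∀ (F₁ : FusionSystem S) (D₁ : FusionSystem (kNormIn S A K)), (∀ P, D₁.Hom P = kHom F₁ A K P) → ∀ X Y k, A ≤ X → X ≤ kNormIn S A K → Y ≤ kNormIn S A K → Mi F₁ X Y k → (∃ κ ∈ K, ∀ x : A, k x = κ x) → Mi D₁ X Y k := by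
    rintro F₁ D₁ hD₁ X Y k hPX hXR hYR ⟨φ, hφ, h1, rfl⟩ ⟨κ, hκ, h2⟩
    exact ⟨φ, (mem_kSystem_of_ge hD₁ hPX hXR).mpr ⟨hφ, fun x => hYR ⟨x, rfl⟩, κ, hκ, fun x => by rw [h1]; exact h2 x⟩, h1, rfl⟩
  have hmi' : ∀ (F₁ : FusionSystem S) (D₁ : FusionSystem (kNormIn S A K)), (∀ P, D₁.Hom P = kHom F₁ A K P) → ∀ X Y k, Mi D₁ X Y k → Mi F₁ X Y k := by
    rintro F₁ D₁ hD₁ X Y k ⟨φ, hφ, h1, h2⟩
    rw [hD₁ X] at hφ
    exact ⟨φ, hφ.1, h1, h2⟩
  have hmain : D ≤ D' := by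
    refine alperin_goldschmidt hUp hDs D' fun P hP => ?_
    have hcr : D.IsCentric P ∧ D.IsRadical p P := by
      rcases hP with rfl | hP
      · exact ⟨centric_S, radical_S hUp hDs⟩
      · exact essential_centric_radical hUp hP
    have hAP := normal_le_centric_radical hUp hn hcr.1 hcr.2
    have hPU := hcr.1.1
    have haut : ∀ β ∈ D.autGroup P, ∃ κ ∈ K, ∀ x : A, ac β x = κ x := by
      intro β hβ
      have h1 := (mem_autGroup D hPU).mp hβ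
      obtain ⟨h2, h3, κ, hκ, h4⟩ := (mem_kSystem_of_ge hD hAP hPU).mp h1
      exact ⟨κ, hκ, fun x => by rw [ac_apply β (hAP x.2)]; exact h4 x⟩
    set Q := P ⊓ Subgroup.centralizer (A : Set Ω) with hQ
    have hAQ : A ≤ Q := le_inf hAP fun x hx y hy => hAc y hy x hx
    have hQmem : ∀ x, x ∈ Q ↔ x ∈ P ∧ ∀ y ∈ A, y * x = x * y := fun x => Subgroup.mem_inf
    have hQi : ∀ β ∈ D.autGroup P, ∀ x ∈ Q, ac β x ∈ Q := by
      intro β hβ x hx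
      obtain ⟨hxP, hxc⟩ := (hQmem x).mp hx
      obtain ⟨κ, hκ, hκx⟩ := haut β hβ
      have hβM := (mi_ac hPU).mpr hβ
      refine (hQmem _).mpr ⟨ac_mem β hxP, fun y hy => ?_⟩
      have h1 : y = ac β (κ⁻¹ ⟨y, hy⟩) := by rw [hκx, MulAut.apply_inv_self]
      rw [h1, ← hβM.map_mul (hAP (κ⁻¹ ⟨y, hy⟩).2) hxP, ← hβM.map_mul hxP (hAP (κ⁻¹ ⟨y, hy⟩).2), hxc _ (κ⁻¹ ⟨y, hy⟩).2]
    refine aut_le_of_radical (Q := Q) hUp hD's hDD hcr.1 hcr.2 inf_le_left hQi (fun x hx h => (hQmem x).mpr ⟨hx, fun y hy => (h y (hAQ hy)).symm⟩) fun β hβ => ?_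
    obtain ⟨κ, hκ, hκx⟩ := haut β hβ
    obtain ⟨u, hu, hux⟩ := mem_autInducedBy.mp (hK hκ)
    have hβP := (mi_ac hPU).mpr hβ
    have hβQ : Mi D Q Q (ac β) := by
      haveI := finite_of_le hPU
      exact mi_of_maps hβP inf_le_left (hQi β hβ)
    have hβF := hmi' F D hD _ _ _ hβQ
    have hQS := hβF.le
    have h1 := hβF.comp (mi_conj (F := F) hQS (S.inv_mem hu))
    have h2 : ∀ x ∈ A, ((fun x => u⁻¹ * x * u⁻¹⁻¹) ∘ ac β) x = x := by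
      intro x hx
      simp only [Function.comp_apply]
      have h3 := hκx ⟨x, hx⟩
      rw [hux] at h3
      rw [h3]; group
    have h3 := hC Q _ _ hAQ (fun x hx => mem_centralizerIn.mpr ⟨hQS hx, ((hQmem x).mp hx).2⟩) h1 h2
    have h4 := h3.comp (mi_conj (F := E) h3.le' hu)
    have h5 : ∀ x ∈ Q, ((fun x => u * x * u⁻¹) ∘ (fun x => u⁻¹ * x * u⁻¹⁻¹) ∘ ac β) x = ac β x := by
      intro x hx
      simp only [Function.comp_apply]
      group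
    have h6 := h4.congr h5
    rw [(h6.mono hEF).range_unique hβF (fun _ _ => rfl)] at h6
    exact hmi E D' hD' _ _ _ hAQ (inf_le_left.trans hPU) (inf_le_left.trans hPU) h6 ⟨κ, hκ, hκx⟩
  exact hmi' E D' hD' _ _ _ ((hmi F D hD _ _ _ hAR hR hR' hf hκ).mono hmain)

omit [Fact p.Prime] [Finite S] in
theorem mi_extend_sup (hP : F.IsReceptive P) (hf : Mi F Q P f) (hQW : Q ≤ W) (hW : W ≤ normalizerIn S Q)
    (hWe : ∀ w ∈ W, ∃ h ∈ S, ∀ x ∈ Q, f (w * x * w⁻¹) = h * f x * h⁻¹) :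
    ∃ g X', Mi F (W ⊔ centralizerIn S Q) X' g ∧ ∀ x ∈ Q, g x = f x := by
  obtain ⟨φ, hφ, h1, h2⟩ := hf
  obtain ⟨ψ, hψ, h3⟩ := hP.2 Q φ hφ h2
  have hle : W ⊔ centralizerIn S Q ≤ extender S Q φ := by
    refine sup_le (fun w hw => ?_) centralizerIn_le_extender
    obtain ⟨h, hhS, hh⟩ := hWe w hw
    have hwN := mem_normalizerIn.mp (hW hw)
    exact mem_extender.mpr ⟨hwN.1, hwN.2, h, hhS, fun x hx => by rw [h1, h1]; exact hh x x.2⟩
  obtain ⟨W', hW', h4, h5⟩ := (mi_toF.mpr hψ).restrict hle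
  refine ⟨_, _, h4, fun x hx => ?_⟩
  have hx' := hle ((le_sup_left (α := Subgroup Ω)) (hQW hx))
  rw [toF_apply ψ hx', h3 x hx hx', h1]

/-- Lemma X -/
theorem lem_X (hS : IsPGroup p S) (hF : F.IsSaturated p) (hE : E.IsSaturated p) (hEF : E.IsSubsystemOf F)
    (hAS : A ≤ S) (hAc : ∀ x ∈ A, ∀ y ∈ A, x * y = y * x) (hAE : ∀ B f, Mi F A B f → Mi E A B f)
    (hCA : ∀ A₁, F.IsConj A A₁ → F.IsFullyNormalized A₁ → ∀ R R' f, A₁ ≤ R → R ≤ centralizerIn S A₁ → Mi F R R' f →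
      (∀ x ∈ A₁, f x = x) → Mi E R R' f)
    (hAR : A ≤ R) (hR : R ≤ normalizerIn S A) (hf : Mi F R R' f) : Mi E R R' f := by
  obtain ⟨A₁, hAA₁, hA₁⟩ := exists_fullyNormalized (F := F) hAS
  have hA₁E : E.IsFullyNormalized A₁ := ⟨hA₁.1, fun Q ⟨φ, hφ, h⟩ => hA₁.2 Q ⟨φ, hEF _ hφ, h⟩⟩
  have hA₁S := hA₁.1
  haveI := finite_of_le hA₁S
  obtain ⟨A', hA'R', hfA, -⟩ := hf.restrict hAR
  have hconj : ∀ B, F.IsConj A B → E.IsConj B A₁ := by
    intro B hB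
    obtain ⟨k, hk⟩ := exists_mi_of_isConj hB
    obtain ⟨l, hl⟩ := exists_mi_of_isConj hAA₁
    exact isConj_trans (isConj_symm (hAE _ _ hk).isConj) (hAE _ _ hl).isConj
  obtain ⟨κ, N₁, hκ, hN₁, hκA⟩ := exists_mi_norm hS hE hA₁E (hconj A (isConj_refl hAS))
  obtain ⟨κ', N₂, hκ', hN₂, hκA'⟩ := exists_mi_norm hS hE hA₁E (hconj A' hfA.isConj)
  obtain ⟨R₁, hR₁, hκR, -⟩ := hκ.restrict hR
  have hR'N : R' ≤ normalizerIn S A' := by
    intro y hy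
    obtain ⟨x, hx, rfl⟩ := hf.surj hy
    exact hf.map_normalizer hAR hfA hx (mem_normalizerIn.mp (hR hx)).2
  obtain ⟨R₂, hR₂, hκR', -⟩ := hκ'.restrict hR'N
  obtain ⟨κi, hκi, hκi1, hκi2⟩ := hκR.symm
  obtain ⟨κi', hκi', hκi1', hκi2'⟩ := hκR'.symm
  have hκiA : Mi E A₁ A κi := hκA.symm_of fun x hx => hκi1 x (hAR hx)
  have hθ : Mi F R₁ R₂ (κ' ∘ f ∘ κi) := ((hκi.mono hEF).comp hf).comp (hκR'.mono hEF)
  set θ := κ' ∘ f ∘ κi with hθdef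
  have hθA : Mi E A₁ A₁ θ := (hκiA.comp (hAE _ _ hfA)).comp hκA'
  have hA₁R₁ : A₁ ≤ R₁ := by
    intro y hy
    obtain ⟨x, hx, rfl⟩ := hκA.surj hy
    exact hκR.mem (hAR hx)
  have hR₁N : R₁ ≤ normalizerIn S A₁ := hR₁.trans hN₁
  obtain ⟨g, X', hg, hgθ⟩ := mi_extend_sup (W := R₁) (receptive_of_fullyNormalized_sat hS hE hA₁E) hθA hA₁R₁ hR₁N (by
    intro w hw
    refine ⟨θ w, hθ.le' (hθ.mem hw), fun x hx => ?_⟩
    have hx' := hA₁R₁ hx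
    exact (hθ.map_mul (R₁.mul_mem hw hx') (R₁.inv_mem hw)).trans (by rw [hθ.map_mul hw hx', hθ.map_inv hw]))
  have hgA : Mi E A₁ A₁ g := hθA.congr fun x hx => (hgθ x hx).symm
  have hgC := hg.cent (hA₁R₁.trans le_sup_left) le_sup_right hgA le_rfl
  have hR₂X : R₂ ≤ X' := by
    intro y hy
    obtain ⟨w, hw, rfl⟩ := hθ.surj hy
    have hwX : w ∈ R₁ ⊔ centralizerIn S A₁ := (le_sup_left (α := Subgroup Ω)) hw
    have h1 : (g w)⁻¹ * θ w ∈ centralizerIn S A₁ := by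
      refine mem_centralizerIn.mpr ⟨S.mul_mem (S.inv_mem (hg.le' (hg.mem hwX))) (hθ.le' (hθ.mem hw)), fun z hz => ?_⟩
      obtain ⟨u, hu, rfl⟩ := hgA.surj hz
      have hwN := (mem_normalizerIn.mp (hR₁N hw)).2
      have hwu : w * u * w⁻¹ ∈ A₁ := (Subgroup.mem_normalizer_iff.mp hwN u).mp hu
      have hu' := hA₁R₁ hu
      have hu'' : u ∈ R₁ ⊔ centralizerIn S A₁ := (le_sup_left (α := Subgroup Ω)) hu'
      have e1 : g (w * u * w⁻¹) = g w * g u * (g w)⁻¹ := by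
        rw [hg.map_mul (Subgroup.mul_mem _ hwX hu'') (Subgroup.inv_mem _ hwX), hg.map_mul hwX hu'', hg.map_inv hwX]
      have e2 : θ (w * u * w⁻¹) = θ w * θ u * (θ w)⁻¹ :=
        (hθ.map_mul (R₁.mul_mem hw hu') (R₁.inv_mem hw)).trans (by rw [hθ.map_mul hw hu', hθ.map_inv hw])
      rw [hgθ _ hwu, e2, ← hgθ u hu] at e1
      have h4 : g u * ((g w)⁻¹ * θ w) = (g w)⁻¹ * (g w * g u * (g w)⁻¹) * θ w := by group
      rw [h4, ← e1]; group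
    have h3 : θ w = g w * ((g w)⁻¹ * θ w) := by group
    rw [h3]
    obtain ⟨c, hc, hc'⟩ := hgC.surj h1
    rw [← hc']
    exact X'.mul_mem (hg.mem hwX) (hg.mem ((le_sup_right (α := Subgroup Ω)) hc))
  obtain ⟨gi, hgi, hgi1, hgi2⟩ := hg.symm
  obtain ⟨R₃, hR₃, hgiR, -⟩ := hgi.restrict hR₂X
  have hε := hθ.comp (hgiR.mono hEF)
  have hε1 : ∀ x ∈ A₁, (gi ∘ θ) x = x := by
    intro x hx
    change gi (θ x) = x
    rw [← hgθ x hx, hgi1 x ((le_sup_left (α := Subgroup Ω)) (hA₁R₁ hx))]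
  set K := autInducedBy R₁ A₁ with hK
  have hR₁S := hθ.le
  have hmemU : ∀ w ∈ R₁, ∀ v ∈ S, (∀ x ∈ A₁, v * x * v⁻¹ = w * x * w⁻¹) → v ∈ kNormIn S A₁ K := by
    intro w hw v hv h
    have hwN := (mem_normalizerIn.mp (hR₁N hw)).2
    exact mem_kNormIn'.mpr ⟨hv, A₁.normalizerMonoidHom ⟨w, hwN⟩, mem_autInducedBy.mpr ⟨w, hw, fun x => rfl⟩, fun x => (h x x.2).symm⟩
  have hεE : Mi E R₁ R₃ (gi ∘ θ) := by
    refine k_le (K := K) hS hF hE hEF (fc_of_fn hS hF hA₁) (fc_of_fn hS hE hA₁E) ?_ ?_ (hCA A₁ hAA₁ hA₁) hA₁R₁ ?_ ?_ hε ?_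
    · intro x hx y hy
      obtain ⟨u, hu, rfl⟩ := hκA.surj hx
      obtain ⟨v, hv, rfl⟩ := hκA.surj hy
      rw [← hκA.map_mul hu hv, ← hκA.map_mul hv hu, hAc u hu v hv]
    · intro o ho
      obtain ⟨r, hr, h⟩ := mem_autInducedBy.mp ho
      exact mem_autInducedBy.mpr ⟨r, hR₁S hr, h⟩
    · intro w hw
      exact hmemU w hw w (hR₁S hw) fun x _ => rfl
    · intro y hy
      obtain ⟨w, hw, rfl⟩ := hε.surj hy
      refine hmemU w hw _ (hε.le' (hε.mem hw)) fun x hx => ?_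
      have hwN := (mem_normalizerIn.mp (hR₁N hw)).2
      have hwx : w * x * w⁻¹ ∈ A₁ := (Subgroup.mem_normalizer_iff.mp hwN x).mp hx
      have hx' := hA₁R₁ hx
      have h1 := hε1 _ hwx
      rw [hε.map_mul (R₁.mul_mem hw hx') (R₁.inv_mem hw), hε.map_mul hw hx', hε.map_inv hw, hε1 x hx] at h1
      exact h1
    · exact ⟨1, Subgroup.one_mem _, fun x => hε1 x x.2⟩
  have hθE : Mi E R₁ R₂ θ := by
    have hgR : Mi E R₃ R₂ g := hgiR.symm_of fun x hx => hgi2 x (hR₂X hx)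
    exact (hεE.comp hgR).congr fun x hx => hgi2 _ (hR₂X (hθ.mem hx))
  refine ((hκR.comp hθE).comp hκi').congr fun x hx => ?_
  change κi' (κ' (f (κi (κ x)))) = f x
  rw [hκi1 x hx, hκi1' _ (hf.mem hx)]

end

end Cfsg.Agent.L0.Fus
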