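import Cfsg.Agent.L0.Fus.Small3
set_option autoImplicit false
/-! Small abelian subgroups control fusion: the induction. -/

open Pointwise

namespace Cfsg.Agent.L0.Fus

open Cfsg.Agent.L0 Cfsg.FusionSystem Cfsg.Agent.H6

variable {Ω : Type*} [Group Ω] {p : ℕ} [Fact p.Prime]

omit [Fact p.Prime] in
theorem center_fix {S : Subgroup Ω} [Finite S] {F : FusionSystem S} {P : Subgroup Ω} {φ : P →* Ω} (hφ : φ ∈ F.Hom P) {x : P} (hx : (x : Ω) ∈ F.center) :
    φ x = x := by
  obtain ⟨-, h⟩ := center_central F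
  obtain ⟨ψ, hψ, h1, h2⟩ := h P φ hφ
  rw [← h1 x]
  exact h2 ⟨x, hx⟩

theorem hyperfocal_mono' {S T : Subgroup Ω} [Finite S] {F : FusionSystem S} {E : FusionSystem T} (h : E.IsSubsystemOf F) :
    E.hyperfocalSubgroup p ≤ F.hyperfocalSubgroup p := by
  conv_lhs => unfold FusionSystem.hyperfocalSubgroup
  rw [Subgroup.closure_le]
  rintro _ ⟨P, α, x, hP, hα, rfl⟩
  have hPS : P ≤ S := hom_le F (h P (subtype_mem E hP))
  haveI := finite_of_le hPS
  haveI := finite_autGroup (S := S) hPS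
  have hle := autGroup_mono h hP
  exact mem_hyperfocal F hPS (α := Subgroup.inclusion hle α) (pResidual_map_le (Subgroup.inclusion hle) ⟨α, hα, rfl⟩) x

section
variable {S : Subgroup Ω} [Finite S] {F : FusionSystem S} {A : Subgroup Ω} {D : FusionSystem (centralizerIn S A)}

omit [Fact p.Prime] [Finite S] in
theorem centSys_le (hD : F.IsCentralizerSystem A D) : D.IsSubsystemOf F := by
  intro P φ hφ
  rw [hD P] at hφ
  exact hφ.1

omit [Fact p.Prime] [Finite S] in
theorem centSys_central (hAS : A ≤ S) (hAc : ∀ x ∈ A, ∀ y ∈ A, x * y = y * x) (hD : F.IsCentralizerSystem A D) : D.IsCentral A := by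
  have hAC : A ≤ centralizerIn S A := fun x hx => mem_centralizerIn.mpr ⟨hAS hx, fun y hy => hAc y hy x hx⟩
  refine ⟨hAC, fun P φ hφ => ?_⟩
  rw [hD P] at hφ
  obtain ⟨h1, h2, h3, ψ, hψ, h4, h5⟩ := hφ
  refine ⟨ψ, ?_, h4, h5⟩
  rw [hD]
  have hle : (P ⊔ A) ⊔ A ≤ P ⊔ A := sup_le le_rfl le_sup_right
  exact ⟨hψ, sup_le h2 hAC, map_sup_range (fun x => by rw [h4]; exact h3 x) (fun x => by rw [h5]; exact hAC x.2),
    ψ.comp (Subgroup.inclusion hle), restrict_mem F hψ hle, fun x => rfl, fun x => h5 x⟩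

omit [Fact p.Prime] in
theorem centSys_center (hAS : A ≤ S) (hAc : ∀ x ∈ A, ∀ y ∈ A, x * y = y * x) (hD : F.IsCentralizerSystem A D) : D.IsCentral F.center := by
  obtain ⟨hZS, hZ⟩ := center_central F
  have hZc := center_le_centralizer F
  have hZC : F.center ≤ centralizerIn S A := fun x hx => mem_centralizerIn.mpr ⟨hZS hx, fun y hy => hZc hx y (hAS hy)⟩
  have hAC : A ≤ centralizerIn S A := fun x hx => mem_centralizerIn.mpr ⟨hAS hx, fun y hy => hAc y hy x hx⟩
  refine ⟨hZC, fun P φ hφ => ?_⟩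
  rw [hD P] at hφ
  obtain ⟨h1, h2, h3, ψ, hψ, h4, h5⟩ := hφ
  obtain ⟨χ, hχ, h6, h7⟩ := hZ (P ⊔ A) ψ hψ
  have hle : P ⊔ F.center ≤ (P ⊔ A) ⊔ F.center := sup_le_sup_right le_sup_left _
  have h8 : ∀ x : P, (χ.comp (Subgroup.inclusion hle)) (Subgroup.inclusion le_sup_left x) = φ x := by
    intro x
    rw [← h4 x, ← h6 (Subgroup.inclusion le_sup_left x)]
    rfl
  have h9 : ∀ x : F.center, (χ.comp (Subgroup.inclusion hle)) (Subgroup.inclusion le_sup_right x) = x := by
    intro x
    rw [← h7 x]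
    rfl
  refine ⟨χ.comp (Subgroup.inclusion hle), ?_, h8, h9⟩
  rw [hD]
  have hle2 : (P ⊔ F.center) ⊔ A ≤ (P ⊔ A) ⊔ F.center :=
    sup_le hle ((le_sup_right (a := P)).trans le_sup_left)
  refine ⟨restrict_mem F hχ hle, sup_le h2 hZC, map_sup_range (fun x => by rw [h8]; exact h3 x) (fun x => by rw [h9]; exact hZC x.2),
    χ.comp (Subgroup.inclusion hle2), restrict_mem F hχ hle2, fun x => rfl, fun x => ?_⟩
  rw [← h5 x, ← h6 (Subgroup.inclusion le_sup_right x)]
  rfl

end

/-- agreement on the small abelian subgroups of `Y` -/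
def Ag {S : Subgroup Ω} (F E : FusionSystem S) (p : ℕ) (Y : Subgroup Ω) : Prop :=
  ∀ A B f, A ≤ Y → (∀ x ∈ A, ∀ y ∈ A, x * y = y * x) → (∀ x ∈ A, Sm p x) → Mi F A B f → Mi E A B f

omit [Fact p.Prime] in
theorem sm_pow {x : Ω} (h : Sm p x) (k : ℤ) : Sm p (x ^ k) := by
  rcases h with h | ⟨h, h'⟩
  · left; rw [← zpow_natCast, ← zpow_mul, mul_comm, zpow_mul, zpow_natCast, h, one_zpow]
  · right
    refine ⟨h, ?_⟩
    rw [← zpow_natCast, ← zpow_mul, mul_comm, zpow_mul, zpow_natCast, h', one_zpow]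

omit [Fact p.Prime] in
theorem sm_mul {x y : Ω} (hx : Sm p x) (hy : Sm p y) (h : x * y = y * x) : Sm p (x * y) := by
  have hc : Commute x y := h
  rcases hx with hx | ⟨h1, hx⟩
  · rcases hy with hy | ⟨h2, hy⟩
    · left; rw [hc.mul_pow, hx, hy, one_mul]
    · right; refine ⟨h2, ?_⟩
      subst h2
      rw [hc.mul_pow, hy, mul_one]
      rw [show (4 : ℕ) = 2 * 2 from rfl, pow_mul, hx, one_pow]
  · rcases hy with hy | ⟨h2, hy⟩
    · right; refine ⟨h1, ?_⟩
      subst h1
      rw [hc.mul_pow, hx, one_mul]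
      rw [show (4 : ℕ) = 2 * 2 from rfl, pow_mul, hy, one_pow]
    · right; exact ⟨h1, by rw [hc.mul_pow, hx, hy, one_mul]⟩

/-- products of commuting small abelian subgroups -/
theorem sup_small {A B : Subgroup Ω} (hA : ∀ x ∈ A, ∀ y ∈ A, x * y = y * x) (hB : ∀ x ∈ B, ∀ y ∈ B, x * y = y * x)
    (hAB : ∀ x ∈ B, ∀ y ∈ A, x * y = y * x) : 
    (∀ x ∈ B ⊔ A, ∃ b ∈ B, ∃ a ∈ A, x = b * a) ∧ (∀ x ∈ B ⊔ A, ∀ y ∈ B ⊔ A, x * y = y * x) := by
  have hn : B ≤ Subgroup.normalizer (A : Set Ω) := by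
    intro b hb
    rw [Subgroup.mem_normalizer_iff]
    intro a
    constructor
    · intro ha
      have h1 : b * a * b⁻¹ = a := by rw [hAB b hb a ha, mul_inv_cancel_right]
      rw [h1]; exact ha
    · intro ha
      have h1 : b⁻¹ * (b * a * b⁻¹) * b⁻¹⁻¹ = b * a * b⁻¹ := by rw [hAB b⁻¹ (B.inv_mem hb) _ ha, mul_inv_cancel_right]
      have h2 : b⁻¹ * (b * a * b⁻¹) * b⁻¹⁻¹ = a := by group
      rw [← h2, h1]; exact ha
  have h1 : ∀ x ∈ B ⊔ A, ∃ b ∈ B, ∃ a ∈ A, x = b * a := by
    intro x hx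
    have h2 : x ∈ ((B ⊔ A : Subgroup Ω) : Set Ω) := hx
    rw [Subgroup.coe_mul_of_left_le_normalizer_right B A hn] at h2
    obtain ⟨b, hb, a, ha, rfl⟩ := Set.mem_mul.mp h2
    exact ⟨b, hb, a, ha, rfl⟩
  refine ⟨h1, fun x hx y hy => ?_⟩
  obtain ⟨b, hb, a, ha, rfl⟩ := h1 x hx
  obtain ⟨b', hb', a', ha', rfl⟩ := h1 y hy
  calc b * a * (b' * a') = b * (a * b') * a' := by group
    _ = b * (b' * a) * a' := by rw [hAB b' hb' a ha]
    _ = (b * b') * (a * a') := by group
    _ = (b' * b) * (a' * a) := by rw [hB b hb b' hb', hA a ha a' ha']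
    _ = b' * (b * a') * a := by group
    _ = b' * (a' * b) * a := by rw [hAB b hb a' ha']
    _ = b' * a' * (b * a) := by group

theorem main_small (n : ℕ) : ∀ (S : Subgroup Ω) [Finite S] (F E : FusionSystem S), IsPGroup p S → F.IsSaturated p → E.IsSaturated p →
    E.IsSubsystemOf F → Ag F E p (F.hyperfocalSubgroup p) → 2 * Nat.card S - Nat.card F.center = n → F ≤ E := by
  induction n using Nat.strong_induction_on with
  | _ n ih =>
  intro S hfin F E hS hF hE hEF hag hn
  have hYsc := hyperfocal_stronglyClosed hS hF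
  have hYS : F.hyperfocalSubgroup p ≤ S := hyperfocal_le F
  have hZS := (center_central F).1
  have hZc := center_le_centralizer F
  haveI : Finite F.center := finite_of_le hZS
  have hcZ : Nat.card F.center ≤ Nat.card S := Subgroup.card_le_of_le hZS
  refine alperin_goldschmidt hS hF E fun P hP => ?_
  have hcr : F.IsCentric P ∧ F.IsRadical p P := by
    rcases hP with rfl | hP
    · exact ⟨centric_S, radical_S hS hF⟩
    · exact essential_centric_radical hS hP
  have hPS := hcr.1.1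
  haveI := finite_of_le hPS
  haveI := finite_autGroup (S := S) hPS
  by_cases hex : ∃ A ≤ P, A ≤ F.hyperfocalSubgroup p ∧ P ≤ Subgroup.normalizer (A : Set Ω) ∧ (∀ x ∈ A, ∀ y ∈ A, x * y = y * x) ∧
      (∀ x ∈ A, Sm p x) ∧ ¬ A ≤ F.center
  · obtain ⟨A, hAP, hAY, hPA, hAc, hAs, hAZ⟩ := hex
    have hAS := hAP.trans hPS
    have key : ∀ R R' f, A ≤ R → R ≤ normalizerIn S A → Mi F R R' f → Mi E R R' f := by
      intro R R' f hAR hR hf
      refine lem_X hS hF hE hEF hAS hAc (fun B g hg => hag A B g hAY hAc hAs hg) ?_ hAR hR hf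
      intro A₁ hAA₁ hA₁ R R' f hA₁R hR hf hf1
      obtain ⟨k, hk⟩ := exists_mi_of_isConj hAA₁
      have hA₁S := hA₁.1
      have hA₁Y : A₁ ≤ F.hyperfocalSubgroup p := by
        intro y hy
        obtain ⟨x, hx, rfl⟩ := hk.surj hy
        obtain ⟨φ, hφ, h1, h2⟩ := hk
        rw [← h1 ⟨x, hx⟩]
        exact StronglyClosed.mem hYsc hφ (hAY hx)
      have hA₁c : ∀ x ∈ A₁, ∀ y ∈ A₁, x * y = y * x := by
        intro x hx y hy
        obtain ⟨u, hu, rfl⟩ := hk.surj hx
        obtain ⟨v, hv, rfl⟩ := hk.surj hy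
        rw [← hk.map_mul hu hv, ← hk.map_mul hv hu, hAc u hu v hv]
      have hA₁s : ∀ x ∈ A₁, Sm p x := by
        intro x hx
        obtain ⟨u, hu, rfl⟩ := hk.surj hx
        obtain ⟨φ, hφ, h1, h2⟩ := hk
        rw [← h1 ⟨u, hu⟩]
        have h3 : Sm p (⟨u, hu⟩ : A) := by
          rcases hAs u hu with h | ⟨h, h'⟩
          · left; exact Subtype.ext (by simpa using h)
          · right; exact ⟨h, Subtype.ext (by simpa using h')⟩
        exact h3.map φ
      obtain ⟨D, hD⟩ := exists_centralizerSystem F hA₁S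
      obtain ⟨D', hD'⟩ := exists_centralizerSystem E hA₁S
      have hA₁E : E.IsFullyNormalized A₁ := ⟨hA₁.1, fun Q ⟨φ, hφ, h⟩ => hA₁.2 Q ⟨φ, hEF _ hφ, h⟩⟩
      have hDs := centralizerSystem_saturated hS hF (fc_of_fn hS hF hA₁) hD
      have hD's := centralizerSystem_saturated hS hE (fc_of_fn hS hE hA₁E) hD'
      have hDF := centSys_le hD
      have hCS : centralizerIn S A₁ ≤ S := inf_le_left
      have hDD : D'.IsSubsystemOf D := by
        intro X φ hφ
        rw [hD' X] at hφ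
        rw [hD X]
        obtain ⟨h1, h2, h3, ψ, hψ, h4, h5⟩ := hφ
        exact ⟨hEF _ h1, h2, h3, ψ, hEF _ hψ, h4, h5⟩
      have hAgD : Ag D D' p (D.hyperfocalSubgroup p) := by
        intro B B' g hBY hBc hBs hg
        obtain ⟨φ, hφ, h1, h2⟩ := hg
        refine ⟨φ, ?_, h1, h2⟩
        rw [hD B] at hφ
        rw [hD' B]
        obtain ⟨h3, h4, h5, ψ, hψ, h6, h7⟩ := hφ
        have hsup := sup_small hA₁c hBc (fun x hx y hy => ((mem_centralizerIn.mp (h4 hx)).2 y hy).symm)
        have hψE : ψ ∈ E.Hom (B ⊔ A₁) := by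
          refine mi_toF.mp (hag _ _ _ (sup_le (hBY.trans (hyperfocal_mono' hDF)) hA₁Y) hsup.2 ?_ (mi_toF.mpr hψ))
          intro x hx
          obtain ⟨b, hb, a, ha, rfl⟩ := hsup.1 x hx
          exact sm_mul (hBs b hb) (hA₁s a ha) ((mem_centralizerIn.mp (h4 hb)).2 a ha).symm
        exact ⟨mem_of_agree E hψE le_sup_left fun x => (h6 x).symm, h4, h5, ψ, hψE, h6, h7⟩
      have hZD : F.center ≤ D.center := le_center (centSys_center hA₁S hA₁c hD)
      have hAD : A₁ ≤ D.center := le_center (centSys_central hA₁S hA₁c hD)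
      have hDZ := (center_central D).1
      haveI : Finite D.center := finite_of_le (hDZ.trans hCS)
      have hmeas : 2 * Nat.card (centralizerIn S A₁) - Nat.card D.center < n := by
        have hpos : 0 < Nat.card D.center := Nat.card_pos
        have hposS : 0 < Nat.card S := Nat.card_pos
        by_cases hCe : centralizerIn S A₁ = S
        · have hlt : F.center < D.center := by
            refine lt_of_le_of_ne hZD fun h => hAZ ?_
            intro x hx
            have h1 : k x ∈ F.center := by rw [h]; exact hAD (hk.mem hx)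
            obtain ⟨ki, hki, hki1, hki2⟩ := hk.symm
            obtain ⟨θ, hθ, h2, h3⟩ := hki
            have h4 := center_fix hθ (x := ⟨k x, hk.mem hx⟩) h1
            rw [h2] at h4
            change ki (k x) = k x at h4
            rw [hki1 x hx] at h4
            rw [h4]; exact h1
          have h1 := card_lt_of_lt hlt
          have h2 : Nat.card (centralizerIn S A₁) = Nat.card S := by rw [hCe]
          have h3 : Nat.card D.center ≤ Nat.card (centralizerIn S A₁) := Subgroup.card_le_of_le hDZ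
          omega
        · have h1 : 2 * Nat.card (centralizerIn S A₁) ≤ Nat.card S := by
            have h2 : Nat.card (centralizerIn S A₁) ∣ Nat.card S := Subgroup.card_dvd_of_le hCS
            obtain ⟨m, hm⟩ := h2
            have h3 : Nat.card (centralizerIn S A₁) < Nat.card S := card_lt_of_lt (lt_of_le_of_ne hCS hCe)
            have h4 : 2 ≤ m := by
              by_contra hcon
              have : m = 0 ∨ m = 1 := by omega
              rcases this with rfl | rfl
              · rw [mul_zero] at hm; omega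
              · rw [mul_one] at hm; omega
            rw [hm, mul_comm]
            exact Nat.mul_le_mul_left _ h4
          omega
      have hle := ih _ hmeas (centralizerIn S A₁) D D' (hS.to_le hCS) hDs hD's hDD hAgD rfl
      -- conclude
      obtain ⟨φ, hφ, h1, h2⟩ := hf
      have hR1 : R ⊔ A₁ ≤ R := sup_le le_rfl hA₁R
      have hfM : Mi F R R' f := ⟨φ, hφ, h1, h2⟩
      have hA₁M : Mi F A₁ A₁ f := mi_id_congr hA₁S hf1
      have hφD : φ ∈ D.Hom R := by
        rw [hD R]
        refine ⟨hφ, hR, fun x => ?_, φ.comp (Subgroup.inclusion hR1), restrict_mem F hφ hR1, fun x => rfl, fun x => ?_⟩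
        · rw [h1]
          exact hfM.map_centralizer hA₁R hA₁M x.2 (hR x.2)
        · change φ ⟨x, hA₁R x.2⟩ = x
          rw [h1]; exact hf1 x x.2
      exact ⟨φ, centSys_le hD' R (hle R hφD), h1, h2⟩
    intro β hβ
    rw [← mi_ac hPS] at hβ ⊢
    exact key P P _ hAP (le_inf hPS hPA) hβ
  · push Not at hex
    -- p'-elements are trivial
    have htriv : ∀ α ∈ F.autGroup P, (orderOf α).Coprime p → α = 1 := by
      intro α hα hαc
      have hYn : ((F.hyperfocalSubgroup p).subgroupOf P).Normal := by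
        refine ⟨fun y hy g => ?_⟩
        have h1 := (Subgroup.mem_normalizer_iff.mp (hyperfocal_normal (p := p) F (hPS g.2)) (y : Ω)).mp hy
        exact h1
      refine aut_eq_one_of_small (hS.to_le hPS) ((F.hyperfocalSubgroup p).subgroupOf P) α hαc ?_ ?_ (F.center.subgroupOf P) ?_ ?_ ?_
      · intro x hx
        exact StronglyClosed.aut_mem hYsc hPS hα hx
      · intro x
        have h1 : (⟨α, hα⟩ : F.autGroup P) ∈ pResidual p (F.autGroup P) :=
          Subgroup.subset_closure (by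
            change Nat.Coprime (orderOf (⟨α, hα⟩ : F.autGroup P)) p
            rw [Subgroup.orderOf_mk]; exact hαc)
        exact mem_hyperfocal F hPS h1 x
      · intro z hz x
        exact Subtype.ext (hZc hz x (hPS x.2)).symm
      · intro z hz
        apply Subtype.ext
        have h1 := center_fix (F := F) (φ := P.subtype.comp α.toMonoidHom) ((mem_autGroup F hPS).mp hα) (x := z) hz
        exact h1
      · intro A hAY hAn hAc hAs
        have h1 := hex (A.map P.subtype) (Subgroup.map_subtype_le A) (by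
          rintro _ ⟨x, hx, rfl⟩; exact hAY hx) (by
          intro u hu
          rw [Subgroup.mem_normalizer_iff]
          intro x
          constructor
          · rintro ⟨y, hy, rfl⟩
            exact ⟨_, hAn.conj_mem y hy ⟨u, hu⟩, rfl⟩
          · rintro ⟨y, hy, hyx⟩
            refine ⟨⟨u, hu⟩⁻¹ * y * ⟨u, hu⟩⁻¹⁻¹, hAn.conj_mem y hy _, ?_⟩
            change u⁻¹ * (y : Ω) * u⁻¹⁻¹ = x
            change (y : Ω) = u * x * u⁻¹ at hyx
            rw [hyx]; group) (by
          rintro _ ⟨x, hx, rfl⟩ _ ⟨y, hy, rfl⟩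
          exact congrArg Subtype.val (hAc x hx y hy)) (by
          rintro _ ⟨x, hx, rfl⟩
          exact (hAs x hx).map P.subtype)
        intro x hx
        exact h1 ⟨x, hx, rfl⟩
    have hpg : IsPGroup p (F.autGroup P) := by
      rintro ⟨α, hα⟩
      have hpos : orderOf α ≠ 0 := (orderOf_pos α).ne'
      obtain ⟨k, m, hm, hkm⟩ := Nat.exists_eq_pow_mul_and_not_dvd hpos p (Nat.Prime.ne_one Fact.out)
      refine ⟨k, Subtype.ext ?_⟩
      refine htriv (α ^ p ^ k) (Subgroup.pow_mem _ hα _) ?_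
      have h1 : orderOf (α ^ p ^ k) ∣ m := by
        apply orderOf_dvd_of_pow_eq_one
        rw [← pow_mul, ← hkm, pow_orderOf_eq_one]
      exact Nat.Coprime.coprime_dvd_left h1 (((Fact.out : p.Prime).coprime_iff_not_dvd.mpr hm).symm)
    have h1 := (radical_iff hS hPS).mp hcr.2 (F.autGroup P) le_rfl hpg
      (fun α hα o ho => Subgroup.mul_mem _ (Subgroup.mul_mem _ hα ho) (Subgroup.inv_mem _ hα))
    exact h1.trans (inn_le_autGroup hPS)

/-- S5296 -/
theorem small_control {S : Subgroup Ω} [Finite S] (hS : IsPGroup p S)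
    (E F : Cfsg.FusionSystem S) (hE : E.IsSaturated p) (hF : F.IsSaturated p) (hEF : E.IsSubsystemOf F)
    (hodd : p ≠ 2 → ∀ A B : Subgroup Ω, A ≤ (F.hyperfocalSubgroup p) → B ≤ (F.hyperfocalSubgroup p) →
      Cfsg.IsElementaryAbelian p A → Cfsg.IsElementaryAbelian p B → E.homSet A B = F.homSet A B)
    (htwo : p = 2 → ∀ A B : Subgroup Ω, A ≤ (F.hyperfocalSubgroup p) → B ≤ (F.hyperfocalSubgroup p) →
      IsMulCommutative ↥A → IsMulCommutative ↥B → (∀ a ∈ A, a ^ 4 = 1) → (∀ b ∈ B, b ^ 4 = 1) → E.homSet A B = F.homSet A B) :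
    ∀ P : Subgroup Ω, E.Hom P = F.Hom P := by
  have hYsc := hyperfocal_stronglyClosed hS hF
  have hag : Ag F E p (F.hyperfocalSubgroup p) := by
    intro A B f hAY hAc hAs hf
    have hBY : B ≤ F.hyperfocalSubgroup p := by
      intro y hy
      obtain ⟨x, hx, rfl⟩ := hf.surj hy
      obtain ⟨φ, hφ, h1, h2⟩ := hf
      rw [← h1 ⟨x, hx⟩]
      exact StronglyClosed.mem hYsc hφ (hAY hx)
    have hBc : ∀ x ∈ B, ∀ y ∈ B, x * y = y * x := by
      intro x hx y hy
      obtain ⟨u, hu, rfl⟩ := hf.surj hx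
      obtain ⟨v, hv, rfl⟩ := hf.surj hy
      rw [← hf.map_mul hu hv, ← hf.map_mul hv hu, hAc u hu v hv]
    obtain ⟨φ, hφ, h1, h2⟩ := hf
    have hpowB : ∀ m : ℕ, (∀ a ∈ A, a ^ m = 1) → ∀ b ∈ B, b ^ m = 1 := by
      intro m hm b hb
      rw [← h2] at hb
      obtain ⟨a, rfl⟩ := hb
      rw [← map_pow]
      have h3 : a ^ m = 1 := Subtype.ext (by simpa using hm a a.2)
      rw [h3, map_one]
    have hA' : IsMulCommutative A := ⟨⟨fun x y => Subtype.ext (hAc x x.2 y y.2)⟩⟩
    have hB' : IsMulCommutative B := ⟨⟨fun x y => Subtype.ext (hBc x x.2 y y.2)⟩⟩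
    have hset : φ ∈ F.homSet A B := ⟨hφ, fun x => by rw [← h2]; exact ⟨x, rfl⟩⟩
    by_cases hp2 : p = 2
    · have hA4 : ∀ a ∈ A, a ^ 4 = 1 := by
        intro a ha
        rcases hAs a ha with h | ⟨h, h'⟩
        · rw [hp2] at h
          rw [show (4 : ℕ) = 2 * 2 from rfl, pow_mul, h, one_pow]
        · exact h'
      rw [← htwo hp2 A B hAY hBY hA' hB' hA4 (hpowB 4 hA4)] at hset
      exact ⟨φ, hset.1, h1, h2⟩
    · have hAp : ∀ a ∈ A, a ^ p = 1 := by
        intro a ha
        rcases hAs a ha with h | ⟨h, h'⟩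
        · exact h
        · exact absurd h hp2
      rw [← hodd hp2 A B hAY hBY ⟨hA', hAp⟩ ⟨hB', hpowB p hAp⟩] at hset
      exact ⟨φ, hset.1, h1, h2⟩
  have h1 := main_small _ S F E hS hF hE hEF hag rfl
  exact fun P => Set.Subset.antisymm (hEF P) (h1 P)

end Cfsg.Agent.L0.Fus
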