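import Cfsg.Agent.L0.Fus.Bis6
import Cfsg.Agent.H1.Basic
set_option autoImplicit false
/-! Mackey decomposition of a cocycle product. -/

open Pointwise

namespace Cfsg.Agent.L0.Fus

universe u v w

theorem coset_reps {S : Type*} [Group S] [Finite S] {p : ℕ} [Fact p.Prime] (R : Subgroup S) [hR : R.Normal] (hidx : R.index = p)
    {s₀ : S} (hs₀ : s₀ ∉ R) : (∀ s : S, ∃ i < p, (s₀ ^ i)⁻¹ * s ∈ R) ∧
      ∀ i < p, ∀ j < p, (s₀ ^ i)⁻¹ * s₀ ^ j ∈ R → i = j := by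
  classical
  have hc : Nat.card (S ⧸ R) = p := hidx
  have h1 : (s₀ : S ⧸ R) ≠ 1 := fun h => hs₀ ((QuotientGroup.eq_one_iff s₀).mp h)
  have hfin : Finite (S ⧸ R) := inferInstance
  have ho : orderOf (s₀ : S ⧸ R) = p := by
    have h2 : orderOf (s₀ : S ⧸ R) ∣ p := by rw [← hc]; exact orderOf_dvd_natCard _
    rcases (Nat.dvd_prime Fact.out).mp h2 with h3 | h3
    · exact absurd (orderOf_eq_one_iff.mp h3) h1
    · exact h3
  constructor
  · intro s
    have h2 : (s : S ⧸ R) ∈ Subgroup.zpowers (s₀ : S ⧸ R) := mem_zpowers_of_prime_card hc h1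
    obtain ⟨k, hk⟩ := Subgroup.mem_zpowers_iff.mp h2
    have h3 : (s₀ : S ⧸ R) ^ ((k % p).toNat) = s := by
      have hp0 : (p : ℤ) ≠ 0 := by exact_mod_cast (Fact.out : p.Prime).ne_zero
      have h4 : ((k % p).toNat : ℤ) = k % p := Int.toNat_of_nonneg (Int.emod_nonneg _ hp0)
      rw [← hk, ← zpow_natCast, h4]
      have h5 := zpow_mod_orderOf (s₀ : S ⧸ R) k
      rw [ho] at h5
      exact h5
    refine ⟨(k % p).toNat, ?_, ?_⟩
    · have h4 : (0 : ℤ) < p := by exact_mod_cast (Fact.out : p.Prime).pos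
      have h5 := Int.emod_lt_of_pos k h4
      have h6 := Int.emod_nonneg k h4.ne'
      omega
    · rw [← QuotientGroup.eq]
      rw [QuotientGroup.mk_pow]
      exact h3
  · intro i hi j hj h
    have h2 := QuotientGroup.eq.mpr h
    rw [QuotientGroup.mk_pow, QuotientGroup.mk_pow] at h2
    exact pow_injOn_Iio_orderOf (by rw [ho]; exact hi) (by rw [ho]; exact hj) h2

theorem exists_nu {S : Type u} [Group S] [Finite S] {p : ℕ} [Fact p.Prime] (hS : IsPGroup p S) {Y : Type v} [Fintype Y] [DecidableEq Y] [MulAction S Y]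
    {A : Type w} [CommGroup A] (f : S → Y → A) (hf : ∀ s t y, f (s * t) y = f s (t • y) * f t y) (x : S)
    (hcyc : ∀ y, x • y ≠ y → ∀ k > 0, x ^ k • y = y → f (x ^ k) y = 1) (y₀ : Y) (hy₀ : ∃ s : S, s • y₀ ≠ y₀)
    (Z : Finset Y) (hZ : ∀ y, y ∈ Z ↔ ∃ s : S, y = s • y₀) (hne : ∏ y ∈ Z, f x y ≠ 1) :
    ∃ (R : Subgroup S) (_ : R.Normal), R.index = p ∧ ∃ (ν : R →* A) (s₀ : S) (hx : x ∈ R),
      ∏ i ∈ Finset.range p, ν ((MulAut.conjNormal s₀⁻¹ : MulAut R)^[i] ⟨x, hx⟩) ≠ 1 := by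
  classical
  have hf1 : ∀ y, f 1 y = 1 := by
    intro y
    have := hf 1 1 y
    rw [mul_one, one_smul] at this
    exact mul_eq_right.mp this.symm
  have hfinv : ∀ t y, f t⁻¹ y = (f t (t⁻¹ • y))⁻¹ := by
    intro t y
    have h1 := hf t t⁻¹ y
    rw [mul_inv_cancel, hf1] at h1
    rw [eq_inv_iff_mul_eq_one, mul_comm]; exact h1.symm
  have hfpow : ∀ (k : ℕ) y, f (x ^ k) y = ∏ i ∈ Finset.range k, f x (x ^ i • y) := by
    intro k y
    induction k with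
    | zero => simp [hf1]
    | succ k ih => rw [pow_succ', hf, ih, Finset.prod_range_succ, mul_comm]
  -- the maximal subgroup
  have hQ : MulAction.stabilizer S y₀ ≠ ⊤ := by
    intro h
    obtain ⟨s, hs⟩ := hy₀
    exact hs (MulAction.mem_stabilizer_iff.mp (h ▸ Subgroup.mem_top s))
  obtain ⟨R, hR, hQR⟩ := (eq_top_or_exists_le_coatom (MulAction.stabilizer S y₀)).resolve_left hQ
  have hnil : Group.IsNilpotent S := hS.isNilpotent
  have hRn : R.Normal := Subgroup.NormalizerCondition.normal_of_coatom R Group.normalizerCondition_of_isNilpotent hR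
  have hidx : R.index = p := H1.index_of_isCoatom_pgroup hS hR
  obtain ⟨s₀, hs₀⟩ : ∃ s₀, s₀ ∉ R := by
    by_contra h
    push Not at h
    exact hR.1 (eq_top_iff.mpr fun s _ => h s)
  obtain ⟨hrep1, hrep2⟩ := coset_reps R hidx hs₀
  -- x fixes a point of Z
  have hfix : ∃ y ∈ Z, x • y = y := by
    by_contra hno
    push Not at hno
    apply hne
    have h1 : ∏ y : Y, (if y ∈ Z then f x y else 1) = 1 := by
      apply prod_eq_one_of_orbits (MulAction.toPerm x)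
      intro y k hk hy
      have hpow : ∀ i, ((MulAction.toPerm x : Equiv.Perm Y) ^ i) y = x ^ i • y := by
        intro i
        induction i with
        | zero => simp
        | succ i ih =>
          rw [pow_succ', Equiv.Perm.mul_apply, ih, pow_succ', mul_smul]
          rfl
      rw [hpow] at hy
      rw [Finset.prod_congr rfl (fun i _ => by rw [hpow i])]
      have hmem : ∀ i : ℕ, x ^ i • y ∈ Z ↔ y ∈ Z := by
        intro i
        rw [hZ, hZ]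
        constructor
        · rintro ⟨s, hs⟩
          exact ⟨(x ^ i)⁻¹ * s, by rw [mul_smul, ← hs, inv_smul_smul]⟩
        · rintro ⟨s, hs⟩
          exact ⟨x ^ i * s, by rw [mul_smul, ← hs]⟩
      by_cases hyZ : y ∈ Z
      · rw [Finset.prod_congr rfl (fun i _ => if_pos ((hmem i).mpr hyZ)), ← hfpow]
        exact hcyc y (hno y hyZ) k hk hy
      · exact Finset.prod_eq_one fun i _ => if_neg (fun h => hyZ ((hmem i).mp h))
    rw [Finset.prod_ite_mem, Finset.univ_inter] at h1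
    exact h1
  obtain ⟨y₁, hy₁Z, hy₁⟩ := hfix
  have hxR : x ∈ R := by
    obtain ⟨s, rfl⟩ := (hZ _).mp hy₁Z
    have h1 : s⁻¹ * x * s ∈ R := hQR (MulAction.mem_stabilizer_iff.mpr (by
      rw [mul_smul, mul_smul, hy₁, inv_smul_smul]))
    have := hRn.conj_mem _ h1 s
    have e : s * (s⁻¹ * x * s) * s⁻¹ = x := by group
    rwa [e] at this
  let Z₀ : Finset Y := Finset.univ.filter fun y => ∃ r ∈ R, y = r • y₀
  have hZ₀ : ∀ y, y ∈ Z₀ ↔ ∃ r ∈ R, y = r • y₀ := fun y => by simp [Z₀]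
  have hZ₀R : ∀ r ∈ R, ∀ y, r • y ∈ Z₀ ↔ y ∈ Z₀ := by
    intro r hr y
    rw [hZ₀, hZ₀]
    constructor
    · rintro ⟨s, hs, h⟩
      exact ⟨r⁻¹ * s, R.mul_mem (R.inv_mem hr) hs, by rw [mul_smul, ← h, inv_smul_smul]⟩
    · rintro ⟨s, hs, h⟩
      exact ⟨r * s, R.mul_mem hr hs, by rw [mul_smul, ← h]⟩
  have hperm : ∀ r ∈ R, ∀ g : Y → A, ∏ y ∈ Z₀, g (r • y) = ∏ y ∈ Z₀, g y := by
    intro r hr g
    refine Finset.prod_bij (fun y _ => r • y) (fun y hy => (hZ₀R r hr y).mpr hy) (fun a _ b _ h => MulAction.injective r h) ?_ (fun _ _ => rfl)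
    intro y hy
    exact ⟨r⁻¹ • y, (hZ₀R r⁻¹ (R.inv_mem hr) y).mpr hy, smul_inv_smul r y⟩
  let ν : R →* A :=
    { toFun := fun r => ∏ y ∈ Z₀, f r y
      map_one' := Finset.prod_eq_one fun y _ => hf1 y
      map_mul' := fun r s => by
        change ∏ y ∈ Z₀, f ((r : S) * s) y = _
        rw [Finset.prod_congr rfl (fun y _ => hf (r : S) s y), Finset.prod_mul_distrib, hperm s s.2 (fun y => f r y)] }
  refine ⟨R, hRn, hidx, ν, s₀, hxR, ?_⟩
  have hci : ∀ (i : ℕ), (((MulAut.conjNormal s₀⁻¹ : MulAut R)^[i] ⟨x, hxR⟩ : R) : S) = (s₀ ^ i)⁻¹ * x * s₀ ^ i := by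
    intro i
    induction i with
    | zero => simp
    | succ i ih =>
      rw [Function.iterate_succ_apply', pow_succ, MulAut.conjNormal_apply, ih]
      group
  have hν : ∀ i : ℕ, ν ((MulAut.conjNormal s₀⁻¹ : MulAut R)^[i] ⟨x, hxR⟩) = ∏ y ∈ Z₀, f x (s₀ ^ i • y) := by
    intro i
    change ∏ y ∈ Z₀, f (((MulAut.conjNormal s₀⁻¹ : MulAut R)^[i] ⟨x, hxR⟩ : R) : S) y = _
    have hmemR : (s₀ ^ i)⁻¹ * x * s₀ ^ i ∈ R := by rw [← hci i]; exact SetLike.coe_mem _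
    rw [hci i]
    have h1 : ∀ y, f ((s₀ ^ i)⁻¹ * x * s₀ ^ i) y = (f (s₀ ^ i) (((s₀ ^ i)⁻¹ * x * s₀ ^ i) • y))⁻¹ * f x (s₀ ^ i • y) * f (s₀ ^ i) y := by
      intro y
      rw [hf, hf, hfinv]
      congr 3
      rw [mul_smul, mul_smul]
    rw [Finset.prod_congr rfl (fun y _ => h1 y), Finset.prod_mul_distrib, Finset.prod_mul_distrib, Finset.prod_inv_distrib,
      hperm _ hmemR (fun y => f (s₀ ^ i) y), mul_comm (∏ x ∈ Z₀, f (s₀ ^ i) x)⁻¹, inv_mul_cancel_right]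
  rw [Finset.prod_congr rfl (fun i _ => hν i), ← Finset.prod_product']
  intro h
  apply hne
  rw [← h]
  symm
  refine Finset.prod_bij (fun z _ => s₀ ^ z.1 • z.2) ?_ ?_ ?_ (fun _ _ => rfl)
  · rintro ⟨i, y⟩ hz
    obtain ⟨hi, hy⟩ := Finset.mem_product.mp hz
    obtain ⟨r, hr, hry⟩ := (hZ₀ _).mp hy
    refine (hZ _).mpr ⟨s₀ ^ i * r, ?_⟩
    change s₀ ^ i • y = _
    have hry' : y = r • y₀ := hry
    rw [mul_smul, ← hry']
  · rintro ⟨i, y⟩ hz ⟨j, y'⟩ hz' heq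
    obtain ⟨hi, hy⟩ := Finset.mem_product.mp hz
    obtain ⟨hj, hy'⟩ := Finset.mem_product.mp hz'
    obtain ⟨r, hr, hry⟩ := (hZ₀ _).mp hy
    obtain ⟨r', hr', hry'⟩ := (hZ₀ _).mp hy'
    have hry1 : y = r • y₀ := hry
    have hry1' : y' = r' • y₀ := hry'
    have heq1 : s₀ ^ i • y = s₀ ^ j • y' := heq
    have h1 : r'⁻¹ * ((s₀ ^ j)⁻¹ * s₀ ^ i) * r ∈ R := hQR (MulAction.mem_stabilizer_iff.mpr (by
      rw [mul_smul, ← hry1, mul_smul, mul_smul, heq1, inv_smul_smul, hry1', inv_smul_smul]))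
    have h2 : (s₀ ^ j)⁻¹ * s₀ ^ i ∈ R := by
      have h3 := R.mul_mem (R.mul_mem hr' h1) (R.inv_mem hr)
      have e : r' * (r'⁻¹ * ((s₀ ^ j)⁻¹ * s₀ ^ i) * r) * r⁻¹ = (s₀ ^ j)⁻¹ * s₀ ^ i := by group
      rwa [e] at h3
    have h3 : j = i := hrep2 j (Finset.mem_range.mp hj) i (Finset.mem_range.mp hi) h2
    subst h3
    have h4 : y = y' := MulAction.injective (s₀ ^ j) heq1
    rw [h4]
  · intro y hy
    obtain ⟨s, hs⟩ := (hZ _).mp hy
    obtain ⟨i, hi, his⟩ := hrep1 s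
    refine ⟨(i, ((s₀ ^ i)⁻¹ * s) • y₀), Finset.mem_product.mpr ⟨Finset.mem_range.mpr hi, (hZ₀ _).mpr ⟨_, his, rfl⟩⟩, ?_⟩
    change s₀ ^ i • ((s₀ ^ i)⁻¹ * s) • y₀ = y
    rw [smul_smul, mul_inv_cancel_left, hs]

end Cfsg.Agent.L0.Fus
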