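import Cfsg.Agent.L0.Fus.Bis7
import Cfsg.Agent.L0.Fus.Bis9
import Cfsg.Agent.L0.Fus.Yosh1
import Cfsg.Agent.L0.Fus.Tate0
import Cfsg.Agent.L0.Fus.Bis12
import Cfsg.Agent.L0.Wreath
set_option autoImplicit false
/-! Yoshida's theorem for fusion systems. -/

open Pointwise

namespace Cfsg.Agent.L0.Fus

open Cfsg.Agent.L0 Cfsg.FusionSystem

universe u v w

variable {Ω : Type u} [Group Ω] {S : Subgroup Ω} {F : FusionSystem S}
variable [Finite S] {p : ℕ} [Fact p.Prime]

/-- Transfer with explicit formula. -/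
theorem transfer_explicit (hS : IsPGroup p S) (hF : F.IsSaturated p) :
    ∃ (X : Type u) (_ : MulAction (S × S) X) (_ : Finite X) (r : RQ S X → X) (hr : ∀ y, Quotient.mk (rset S X) (r y) = y),
      FSet F X ∧ (Nat.card (RQ S X)).Coprime p ∧
      ∀ [Fintype (RQ S X)] {A : Type w} [CommGroup A] (L : Ω → A), (∀ x ∈ S, ∀ y ∈ S, L (x * y) = L x * L y) →
        (∀ x y : S, ∏ z : RQ S X, L (coc hr (x * y) z) = (∏ z : RQ S X, L (coc hr x z)) * ∏ z : RQ S X, L (coc hr y z)) ∧
        (∀ (P : Subgroup Ω) (φ : P →* Ω) (hφ : φ ∈ F.Hom P) (x : P), ∏ z : RQ S X, L (coc hr (⟨φ x, hom_mem F hφ x⟩ : S) z) =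
          ∏ z : RQ S X, L (coc hr (⟨x, hom_le F hφ x.2⟩ : S) z)) := by
  classical
  have hM : F.StronglyClosed S := ⟨le_rfl, fun R _ φ hφ x => hom_mem F hφ x⟩
  have hB : ∀ (P : Subgroup Ω) (φ : P →* Ω), φ ∈ F.Hom P → ∃ s ∈ S, ∀ x : P, (φ x)⁻¹ * (s * x * s⁻¹) ∈ S := fun P φ hφ => ⟨1, S.one_mem, fun x => by
    have hP := hom_le F hφ
    simpa using S.mul_mem (S.inv_mem (hom_mem F hφ x)) (hP x.2)⟩
  have hMn := StronglyClosed.le_normalizer hM
  have hconj : ∀ s ∈ S, ∀ m ∈ S, s * m * s⁻¹ ∈ S := fun s hs m hm => (Subgroup.mem_normalizer_iff.mp (hMn hs) m).mp hm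
  have hconj' : ∀ s ∈ S, ∀ m ∈ S, s⁻¹ * m * s ∈ S := fun s hs m hm => by
    have := hconj s⁻¹ (S.inv_mem hs) m hm
    simpa using this
  obtain ⟨X, _, _, hX, hst, n, hcard, hn⟩ := exists_biset hS hF
  have hcardR : Nat.card (RQ S X) = n := by
    have h1 := card_RQ hX
    rw [hcard] at h1
    exact (Nat.eq_of_mul_eq_mul_right Nat.card_pos h1).symm
  obtain ⟨r, hr, hgr⟩ := exists_graded hX hMn hB
  have hcM : ∀ (s : S) (y : RQ S X), (s : Ω) ∈ S → (coc hr s y : Ω) ∈ S := by
    intro s y hs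
    exact (coc hr s y).2
  refine ⟨X, inferInstance, inferInstance, r, hr, hX, hcardR ▸ hn, fun {_} {A} _ L hL => ?_⟩
  have hL1 : L 1 = 1 := by
    have := hL 1 S.one_mem 1 S.one_mem
    rw [mul_one] at this
    exact mul_eq_left.mp this.symm
  have hLinv : ∀ x ∈ S, L x⁻¹ = (L x)⁻¹ := fun x hx => by
    rw [eq_inv_iff_mul_eq_one, ← hL _ (S.inv_mem hx) _ hx, inv_mul_cancel, hL1]
  have hLS : ∀ s ∈ S, ∀ m ∈ S, L (s * m * s⁻¹) = L m := fun s hs m hm => by
    rw [hL _ (S.mul_mem hs hm) _ (S.inv_mem hs), hL _ hs _ hm, hLinv s hs, mul_comm (L s), mul_inv_cancel_right]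
  have hLS' : ∀ s ∈ S, ∀ m ∈ S, L (s⁻¹ * m * s) = L m := fun s hs m hm => by
    have := hLS s⁻¹ (S.inv_mem hs) m hm
    simpa using this
  constructor
  · intro x y
    have h4 : ∀ z : RQ S X, L (coc hr (x * y) z : S) = L (coc hr x (lact y z)) * L (coc hr y z) := by
      intro z
      rw [coc_mul hX hr]
      exact hL _ (coc hr x (lact y z)).2 _ (coc hr y z).2
    rw [Finset.prod_congr rfl (fun z _ => h4 z), Finset.prod_mul_distrib]
    congr 1
    exact Equiv.prod_comp (lperm y) (fun z => L (coc hr x z))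
  · intro P φ hφ x
    have hx : (x : Ω) ∈ S := hom_le F hφ x.2
    have hPS := hom_le F hφ
    obtain ⟨f, hf⟩ := exists_twist hX hst hφ
    have hφx : φ x ∈ S := StronglyClosed.mem hM hφ hx
    -- induced map on right orbits
    have hf1 : ∀ (t : S) (z : X), f (((1, t) : S × S) • z) = ((1, t) : S × S) • f z := by
      intro t z
      have h1 := hf 1 t z
      have e1 : ((⟨((1 : P) : Ω), hPS (1 : P).2⟩, t) : S × S) = (1, t) := rfl
      have e2 : ((⟨φ 1, hom_mem F hφ 1⟩, t) : S × S) = (1, t) := by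
        apply Prod.ext
        · exact Subtype.ext (map_one φ)
        · rfl
      rw [e1, e2] at h1
      exact h1
    let fb : RQ S X → RQ S X := Quotient.map' f (by
      rintro z _ ⟨t, rfl⟩
      exact ⟨t, hf1 t z⟩)
    have hfb : ∀ z : X, fb (Quotient.mk (rset S X) z) = Quotient.mk (rset S X) (f z) := fun z => rfl
    have hfbinj : Function.Injective fb := by
      intro y y' h
      induction y using Quotient.inductionOn with
      | _ z =>
        induction y' using Quotient.inductionOn with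
        | _ z' =>
          rw [hfb, hfb] at h
          obtain ⟨t, ht⟩ := Quotient.exact h
          apply Quotient.sound
          refine ⟨t, f.injective ?_⟩
          rw [hf1]; exact ht
    have hfbbij : Function.Bijective fb := Finite.injective_iff_bijective.mp hfbinj
    let sx : S := ⟨x, hPS x.2⟩
    let sy : S := ⟨φ x, hom_mem F hφ x⟩
    have hfblact : ∀ y, fb (lact sx y) = lact sy (fb y) := by
      intro y
      induction y using Quotient.inductionOn with
      | _ z =>
        rw [lact_mk, hfb, hfb, lact_mk]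
        congr 1
        exact hf x 1 z
    -- comparison of sections
    have hu : ∀ y : RQ S X, ∃ u : S, f (r y) = ((1, u) : S × S) • r (fb y) := by
      intro y
      have h1 : Quotient.mk (rset S X) (r (fb y)) = Quotient.mk (rset S X) (f (r y)) := by
        rw [hr, ← hfb, hr]
      exact Quotient.exact h1
    choose u hu using hu
    have hkey : ∀ y : RQ S X, u (lact sx y) * coc hr sy (fb y) = coc hr sx y * u y := by
      intro y
      apply smul_right_inj hX (s := sy) (x := r (fb y))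
      have h1 : ((sy, u (lact sx y) * coc hr sy (fb y)) : S × S) = (1, u (lact sx y)) * (sy, coc hr sy (fb y)) := by ext <;> simp
      have h2 : ((sy, coc hr sx y * u y) : S × S) = (sy, coc hr sx y) * (1, u y) := by ext <;> simp
      rw [h1, mul_smul, coc_spec, ← hfblact, ← hu, h2, mul_smul, ← hu]
      rw [← coc_spec hr sx y]
      exact hf x (coc hr sx y) (r y)
    have hxM : ∀ y, (coc hr sx y : Ω) ∈ S := fun y => hcM sx y hx
    have hyM : ∀ y, (coc hr sy y : Ω) ∈ S := fun y => hcM sy y hφx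
    have hkey2 : ∀ y : RQ S X, (coc hr sy (fb y) : Ω) = (((u (lact sx y) : S) : Ω)⁻¹ * u y) * ((u y : Ω)⁻¹ * coc hr sx y * u y) := by
      intro y
      have h1 := congrArg (Subtype.val) (hkey y)
      rw [Subgroup.coe_mul, Subgroup.coe_mul] at h1
      have h2 : (coc hr sy (fb y) : Ω) = ((u (lact sx y) : S) : Ω)⁻¹ * (coc hr sx y * u y) := by
        rw [← h1]; group
      rw [h2]; group
    have huM : ∀ y : RQ S X, ((u (lact sx y) : S) : Ω)⁻¹ * u y ∈ S := by
      intro y
      have h1 : ((u (lact sx y) : S) : Ω)⁻¹ * u y = (coc hr sy (fb y) : Ω) * ((u y : Ω)⁻¹ * coc hr sx y * u y)⁻¹ := by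
        rw [hkey2 y]; group
      rw [h1]
      exact S.mul_mem (hyM _) (S.inv_mem (hconj' _ (u y).2 _ (hxM y)))
    change ∏ y : RQ S X, L (coc hr sy y) = ∏ y : RQ S X, L (coc hr sx y)
    have h1 : ∏ y : RQ S X, L (coc hr sy y) = ∏ y : RQ S X, L (coc hr sy (fb y)) :=
      (Equiv.prod_comp (Equiv.ofBijective fb hfbbij) (fun y => L (coc hr sy y))).symm
    have h2 : ∀ y : RQ S X, L (coc hr sy (fb y)) = L (((u (lact sx y) : S) : Ω)⁻¹ * u y) * L (coc hr sx y) := by
      intro y
      rw [hkey2 y, hL _ (huM y) _ (hconj' _ (u y).2 _ (hxM y)), hLS' _ (u y).2 _ (hxM y)]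
    rw [h1, Finset.prod_congr rfl (fun y _ => h2 y), Finset.prod_mul_distrib]
    -- the coboundary
    have h3 : ∏ y : RQ S X, L (((u (lact sx y) : S) : Ω)⁻¹ * u y) = 1 := by
      let w : RQ S X → Ω := fun y => ((Quotient.out (QuotientGroup.mk (s := S) (u y : Ω)) : Ω))
      have hw : ∀ y, w (lact sx y) = w y := by
        intro y
        change Quotient.out _ = Quotient.out _
        congr 1
        exact QuotientGroup.eq.mpr (huM y)
      have hwm : ∀ y, (w y)⁻¹ * u y ∈ S := by
        intro y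
        have : (QuotientGroup.mk (s := S) (w y)) = QuotientGroup.mk (s := S) (u y : Ω) := Quotient.out_eq _
        exact QuotientGroup.eq.mp this
      have h4 : ∀ y : RQ S X, L (((u (lact sx y) : S) : Ω)⁻¹ * u y) = (L ((w (lact sx y))⁻¹ * u (lact sx y)))⁻¹ * L ((w y)⁻¹ * u y) := by
        intro y
        rw [← hLinv _ (hwm _), ← hL _ (S.inv_mem (hwm _)) _ (hwm y)]
        congr 1
        rw [hw y]; group
      rw [Finset.prod_congr rfl (fun y _ => h4 y), Finset.prod_mul_distrib, Finset.prod_inv_distrib]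
      have h5 : ∏ y : RQ S X, L ((w (lact sx y))⁻¹ * u (lact sx y)) = ∏ y : RQ S X, L ((w y)⁻¹ * u y) :=
        Equiv.prod_comp (lperm sx) (fun y => L ((w y)⁻¹ * u y))
      rw [h5, inv_mul_cancel]
    rw [h3, one_mul]

end Cfsg.Agent.L0.Fus
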