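import Cfsg.Agent.L0.Fus.Yosh2
import Cfsg.Agent.H6.Critical4
set_option autoImplicit false
/-! Yoshida's theorem for fusion systems. -/

open Pointwise

namespace Cfsg.Agent.L0.Fus

open Cfsg.Agent.L0 Cfsg.FusionSystem

universe u v w

variable {Ω : Type u} [Group Ω] {S : Subgroup Ω} {F : FusionSystem S}
variable [Finite S] {p : ℕ} [Fact p.Prime]

instance rqAct (X : Type u) [MulAction (S × S) X] : MulAction S (RQ S X) where
  smul := lact
  one_smul := lact_one
  mul_smul := lact_mul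

theorem focal_le_frattini (hS : IsPGroup p S) (hF : F.IsSaturated p)
    (h : F.focalSubgroup ≤ (frattini ↥S).map S.subtype ⊔ locfoc F S) : F.focalSubgroup ≤ locfoc F S := by
  have hSS : normalizerIn S S = S := inf_eq_left.mpr Subgroup.le_normalizer
  obtain ⟨N, hN⟩ := exists_normalizerSystem F (le_refl S)
  have hNs := normalizerSystem_saturated hS hF (fullyNormalized_self (F := F)) hN
  have key : ∀ T : Subgroup Ω, T = S → ∀ N : FusionSystem T, N.IsSaturated p →
      ∃ D : FusionSystem S, D.IsSaturated p ∧ (∀ P, D.Hom P = N.Hom P) := by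
    rintro T rfl N h1
    exact ⟨N, h1, fun _ => rfl⟩
  obtain ⟨D, hDs, hD⟩ := key _ hSS N hNs
  have hDF : D.IsSubsystemOf F := fun P φ hφ => by
    rw [hD, hN P] at hφ; exact hφ.1
  have hDf : D.focalSubgroup = locfoc F S := by
    rw [← focal_normalizer hN]
    unfold focalSubgroup
    congr 1
    ext y
    simp only [Set.mem_ofPred_eq, hD]
  rw [← hDf] at h ⊢
  exact ((tate_iff hS hF hDs hDF).2.mpr (tate hS hF hDs hDF h)).le

/-- the homomorphism detecting the difference. -/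
theorem exists_L (hS : IsPGroup p S) (h : ¬ F.focalSubgroup ≤ (frattini ↥S).map S.subtype ⊔ locfoc F S) :
    ∃ L : Ω → Multiplicative (ZMod p), (∀ x ∈ S, ∀ y ∈ S, L (x * y) = L x * L y) ∧ (∀ x ∈ locfoc F S, L x = 1) ∧
      ∃ z ∈ F.focalSubgroup, L z ≠ 1 := by
  classical
  have hle : (frattini ↥S).map S.subtype ⊔ locfoc F S ≤ S :=
    sup_le (Subgroup.map_subtype_le _) (locfoc_le_focal.trans focal_le_self)
  obtain ⟨z, hz, hzn⟩ := Set.not_subset.mp h
  have hzS := focal_le_self hz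
  have hcomm : ⁅S, S⁆ ≤ locfoc F S := comm_le_locfoc le_rfl Subgroup.le_normalizer
  have hn : (((frattini ↥S).map S.subtype ⊔ locfoc F S).subgroupOf S).Normal := by
    refine ⟨fun x hx g => ?_⟩
    have h1 := hcomm (Subgroup.commutator_mem_commutator g.2 x.2)
    have h2 := Subgroup.mul_mem _ ((le_sup_right : locfoc F S ≤ (frattini ↥S).map S.subtype ⊔ locfoc F S) h1) hx
    rw [Subgroup.mem_subgroupOf]
    rw [commutatorElement_def] at h2
    simpa [mul_assoc] using h2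
  have hmk : ∀ x : S, (QuotientGroup.mk x : S ⧸ ((frattini ↥S).map S.subtype ⊔ locfoc F S).subgroupOf S) = 1 ↔
      (x : Ω) ∈ (frattini ↥S).map S.subtype ⊔ locfoc F S := fun x => by
    rw [QuotientGroup.eq_one_iff, Subgroup.mem_subgroupOf]
  obtain ⟨ν, hν⟩ := Wreath.exists_functional (p := p) (A := S ⧸ ((frattini ↥S).map S.subtype ⊔ locfoc F S).subgroupOf S) (by
      intro a b
      obtain ⟨x, rfl⟩ := QuotientGroup.mk_surjective a
      obtain ⟨y, rfl⟩ := QuotientGroup.mk_surjective b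
      rw [← QuotientGroup.mk_mul, ← QuotientGroup.mk_mul, QuotientGroup.eq, Subgroup.mem_subgroupOf]
      have h1 := hcomm (Subgroup.commutator_mem_commutator (S.inv_mem y.2) (S.inv_mem x.2))
      rw [commutatorElement_def] at h1
      have e : (((x * y)⁻¹ * (y * x) : S) : Ω) = (y : Ω)⁻¹ * (x : Ω)⁻¹ * ((y : Ω)⁻¹)⁻¹ * ((x : Ω)⁻¹)⁻¹ := by
        simp [mul_assoc]
      rw [e]; exact le_sup_right (α := Subgroup Ω) h1) (by
      intro a
      obtain ⟨x, rfl⟩ := QuotientGroup.mk_surjective a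
      rw [← QuotientGroup.mk_pow, hmk]
      exact le_sup_left (α := Subgroup Ω) ⟨x ^ p, H6.pow_mem_frattini hS x, rfl⟩)
    (z := QuotientGroup.mk ⟨z, hzS⟩) (fun h1 => hzn ((hmk _).mp h1))
  refine ⟨fun x => if h : x ∈ S then ν (QuotientGroup.mk ⟨x, h⟩) else 1, ?_, ?_, z, hz, ?_⟩
  · intro x hx y hy
    beta_reduce
    rw [dif_pos hx, dif_pos hy, dif_pos (S.mul_mem hx hy), ← map_mul]
    rfl
  · intro x hx
    beta_reduce
    have hxS : x ∈ S := hle (le_sup_right (α := Subgroup Ω) hx)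
    rw [dif_pos hxS, (hmk ⟨x, hxS⟩).mpr (le_sup_right (α := Subgroup Ω) hx), map_one]
  · beta_reduce
    rw [dif_pos hzS]
    exact hν

/-- Yoshida's theorem. -/
theorem yoshida (hS : IsPGroup p S) (hF : F.IsSaturated p) (hne : ¬ F.focalSubgroup ≤ locfoc F S) :
    ∃ (W : Sylow p (Equiv.Perm (Fin (p ^ 2)))) (f : ↥S →* ↥(W : Subgroup (Equiv.Perm (Fin (p ^ 2))))), Function.Surjective f := by
  classical
  obtain ⟨L, hL, hLN, z₀, hz₀, hLz₀⟩ := exists_L (F := F) hS (fun h => hne (focal_le_frattini hS hF h))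
  -- minimal order
  obtain ⟨x, hxF, hLx, hmin⟩ : ∃ x ∈ F.focalSubgroup, L x ≠ 1 ∧ ∀ y ∈ F.focalSubgroup, orderOf y < orderOf x → L y = 1 := by
    have hex : ∃ n, ∃ x ∈ F.focalSubgroup, L x ≠ 1 ∧ orderOf x = n := ⟨_, z₀, hz₀, hLz₀, rfl⟩
    obtain ⟨x, h1, h2, h3⟩ := Nat.find_spec hex
    refine ⟨x, h1, h2, fun y hy hlt => ?_⟩
    by_contra h4
    exact Nat.find_min hex (h3 ▸ hlt) ⟨y, hy, h4, rfl⟩
  have hxS : x ∈ S := focal_le_self hxF
  obtain ⟨X, _, _, r, hr, hX, hcard, hT⟩ := transfer_explicit.{u, 0} hS hF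
  haveI : Fintype (RQ S X) := Fintype.ofFinite _
  obtain ⟨hT1, hT2⟩ := hT L hL
  have hL1 : L 1 = 1 := by
    have := hL 1 S.one_mem 1 S.one_mem
    rw [mul_one] at this
    exact mul_eq_left.mp this.symm
  set f : S → RQ S X → Multiplicative (ZMod p) := fun s y => L (coc hr s y) with hfdef
  have hf : ∀ s t y, f (s * t) y = f s (t • y) * f t y := by
    intro s t y
    change L (coc hr (s * t) y) = L (coc hr s (lact t y)) * L (coc hr t y)
    rw [coc_mul hX hr]
    exact hL _ (coc hr s (lact t y)).2 _ (coc hr t y).2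
  -- conjugates
  have hconjE : ∀ (s : S) (y : RQ S X), s • y = y → F.IsConjElt (s : Ω) (coc hr s y) := by
    intro s y hy
    have h5 := coc_spec hr s y
    have hy' : lact s y = y := hy
    rw [hy'] at h5
    obtain ⟨P, α, β, hα, hβ, hstab⟩ := hX (r y)
    have h6 : ((s, coc hr s y) : S × S) ∈ MulAction.stabilizer (S × S) (r y) := h5
    rw [hstab] at h6
    obtain ⟨z, hz1, hz2⟩ := h6
    have hz1' : α z = s := hz1
    obtain ⟨α', hα', hα'1⟩ := F.inv_mem hα
    have hle : Subgroup.zpowers (s : Ω) ≤ α.range := by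
      rw [Subgroup.zpowers_le]; exact ⟨z, hz1'⟩
    have hα'v : ∀ w, α' w ∈ P := by
      rintro ⟨_, v, rfl⟩
      rw [hα'1]; exact v.2
    refine ⟨_, restrict_mem F (F.comp_mem hα' hβ hα'v) hle, ?_⟩
    change β ⟨α' ⟨s, _⟩, _⟩ = _
    rw [← hz2]
    congr 1
    apply Subtype.ext
    have e : (⟨s, hle (Subgroup.mem_zpowers _)⟩ : α.range) = ⟨α z, ⟨z, rfl⟩⟩ := Subtype.ext hz1'.symm
    change α' ⟨s, _⟩ = z
    rw [e, hα'1]
  -- the total product
  have htot : ∏ y : RQ S X, f ⟨x, hxS⟩ y = 1 := by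
    let T : S →* Multiplicative (ZMod p) := MonoidHom.mk' (fun s => ∏ y : RQ S X, f s y) hT1
    have h1 : ∀ z ∈ F.focalSubgroup, ∃ h : z ∈ S, T ⟨z, h⟩ = 1 := by
      intro z hz
      induction hz using Subgroup.closure_induction with
      | mem z hz =>
        obtain ⟨P, φ, x, hφ, rfl⟩ := hz
        have hPS := hom_le F hφ
        refine ⟨S.mul_mem (S.inv_mem (hPS x.2)) (hom_mem F hφ x), ?_⟩
        have : (⟨(x : Ω)⁻¹ * φ x, S.mul_mem (S.inv_mem (hPS x.2)) (hom_mem F hφ x)⟩ : S) = (⟨x, hPS x.2⟩ : S)⁻¹ * ⟨φ x, hom_mem F hφ x⟩ := rfl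
        rw [this, map_mul, map_inv, inv_mul_eq_one]
        exact (hT2 P φ hφ x).symm
      | one => exact ⟨S.one_mem, map_one T⟩
      | mul a b _ _ ha hb =>
        obtain ⟨ha, ha'⟩ := ha
        obtain ⟨hb, hb'⟩ := hb
        refine ⟨S.mul_mem ha hb, ?_⟩
        have : (⟨a * b, S.mul_mem ha hb⟩ : S) = ⟨a, ha⟩ * ⟨b, hb⟩ := rfl
        rw [this, map_mul, ha', hb', one_mul]
      | inv a _ ha =>
        obtain ⟨ha, ha'⟩ := ha
        refine ⟨S.inv_mem ha, ?_⟩
        have : (⟨a⁻¹, S.inv_mem ha⟩ : S) = (⟨a, ha⟩)⁻¹ := rfl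
        rw [this, map_inv, ha', inv_one]
    obtain ⟨h2, h3⟩ := h1 x hxF
    exact h3
  -- short cycles
  have hcyc : ∀ y : RQ S X, (⟨x, hxS⟩ : S) • y ≠ y → ∀ k > 0, (⟨x, hxS⟩ : S) ^ k • y = y → f ((⟨x, hxS⟩ : S) ^ k) y = 1 := by
    intro y hy k hk hky
    have hpk : p ∣ k := by
      by_contra hpk
      apply hy
      obtain ⟨m, hm⟩ := hS ⟨x, hxS⟩
      have hcop : k.Coprime (orderOf (⟨x, hxS⟩ : S)) := by
        have h1 : orderOf (⟨x, hxS⟩ : S) ∣ p ^ m := orderOf_dvd_of_pow_eq_one hm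
        exact Nat.Coprime.coprime_dvd_right h1 (Nat.Coprime.pow_right m ((Nat.Prime.coprime_iff_not_dvd Fact.out).mpr hpk).symm)
      obtain ⟨j, hj⟩ := exists_pow_eq_self_of_coprime hcop
      rw [← hj]
      have h2 : ∀ i : ℕ, ((⟨x, hxS⟩ : S) ^ k) ^ i • y = y := by
        intro i
        induction i with
        | zero => rw [pow_zero, one_smul]
        | succ i ih => rw [pow_succ, mul_smul, hky, ih]
      exact h2 j
    have hc := hconjE _ _ hky
    obtain ⟨φ, hφ, hφy⟩ := hc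
    change L _ = 1
    rw [← hφy]
    apply hmin
    · have h1 : ((⟨x, hxS⟩ : S) ^ k : S).1⁻¹ * φ ⟨_, Subgroup.mem_zpowers _⟩ ∈ F.focalSubgroup :=
        Subgroup.subset_closure ⟨_, φ, ⟨_, Subgroup.mem_zpowers _⟩, hφ, rfl⟩
      have h2 : ((⟨x, hxS⟩ : S) ^ k : S).1 ∈ F.focalSubgroup := F.focalSubgroup.pow_mem hxF k
      have h3 := F.focalSubgroup.mul_mem h2 h1
      rwa [mul_inv_cancel_left] at h3
    · have h1 : orderOf (φ ⟨_, Subgroup.mem_zpowers _⟩) = orderOf (x ^ k) := by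
        rw [orderOf_injective φ (F.injective_of_mem hφ)]
        rw [← Subgroup.orderOf_coe]; rfl
      rw [h1]
      have hx1 : x ≠ 1 := fun h => hLx (by rw [h]; exact hL1)
      obtain ⟨m, hm⟩ := hS ⟨x, hxS⟩
      have hm' : x ^ p ^ m = 1 := congrArg Subtype.val hm
      have hox : orderOf x ∣ p ^ m := orderOf_dvd_of_pow_eq_one hm'
      have hpo : p ∣ orderOf x := by
        obtain ⟨j, hj, hjo⟩ := (Nat.dvd_prime_pow Fact.out).mp hox
        rcases Nat.eq_zero_or_pos j with rfl | hj0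
        · rw [pow_zero] at hjo
          exact absurd (orderOf_eq_one_iff.mp hjo) hx1
        · rw [hjo]; exact dvd_pow_self p hj0.ne'
      have hfo : IsOfFinOrder x := by
        rw [isOfFinOrder_iff_pow_eq_one]
        exact ⟨p ^ m, pow_pos (Fact.out : p.Prime).pos m, hm'⟩
      have h0 : 0 < orderOf x := hfo.orderOf_pos
      rw [hfo.orderOf_pow]
      exact Nat.div_lt_self h0 (lt_of_lt_of_le (Fact.out : p.Prime).one_lt (Nat.le_of_dvd (Nat.gcd_pos_of_pos_left _ h0) (Nat.dvd_gcd hpo hpk)))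
  -- fixed points of `S`
  let Y₀ : Finset (RQ S X) := Finset.univ.filter fun y => ∀ s : S, s • y = y
  have hY₀ : ∀ y, y ∈ Y₀ ↔ ∀ s : S, s • y = y := fun y => by simp [Y₀]
  have hY₀f : ∀ y ∈ Y₀, f ⟨x, hxS⟩ y = L x := by
    intro y hy
    have hfix := (hY₀ y).mp hy
    obtain ⟨P, α, β, hα, hβ, hstab⟩ := hX (r y)
    have hmem : ∀ s : S, ∃ z : P, α z = s ∧ β z = coc hr s y := by
      intro s
      have h5 := coc_spec hr s y
      have hy' : lact s y = y := hfix s
      rw [hy'] at h5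
      have h6 : ((s, coc hr s y) : S × S) ∈ MulAction.stabilizer (S × S) (r y) := h5
      rw [hstab] at h6
      exact h6
    obtain ⟨α', hα', hα'1⟩ := F.inv_mem hα
    have hrange : α.range = S := le_antisymm (range_le F hα) (fun s hs => by
      obtain ⟨z, hz, -⟩ := hmem ⟨s, hs⟩
      exact ⟨z, hz⟩)
    have hα'v : ∀ w, α' w ∈ P := by
      rintro ⟨_, v, rfl⟩
      rw [hα'1]; exact v.2
    have hcm := F.comp_mem hα' hβ hα'v
    have key : ∀ T : Subgroup Ω, T = S → ∀ ψ ∈ F.Hom T, ∀ t : T, L (ψ t) = L t := by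
      rintro T rfl ψ hψ t
      have h1 : ψ ∈ F.normalizerHom T T := by
        refine mem_normalizerHom_of_ge le_rfl (le_inf le_rfl Subgroup.le_normalizer) hψ fun x _ => hom_mem F hψ x
      have h2 := hLN _ (mem_locfoc h1 t)
      have h3 := hL _ (T.inv_mem t.2) _ (hom_mem F hψ t)
      rw [h2] at h3
      have h4 : L (t : Ω)⁻¹ = (L t)⁻¹ := by
        rw [eq_inv_iff_mul_eq_one, ← hL _ (T.inv_mem t.2) _ t.2, inv_mul_cancel, hL1]
      rw [h4] at h3
      exact (inv_mul_eq_one.mp h3.symm).symm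
    have hxr : x ∈ α.range := by rw [hrange]; exact hxS
    have h1 := key _ hrange _ hcm ⟨x, hxr⟩
    obtain ⟨z, hz1, hz2⟩ := hmem ⟨x, hxS⟩
    change L (coc hr ⟨x, hxS⟩ y) = L x
    rw [← h1, ← hz2]
    congr 1
    change β z = β ⟨α' ⟨x, hxr⟩, _⟩
    congr 1
    apply Subtype.ext
    have e : (⟨x, hxr⟩ : α.range) = ⟨α z, ⟨z, rfl⟩⟩ := Subtype.ext hz1.symm
    change (z : Ω) = α' ⟨x, hxr⟩
    rw [e, hα'1]
  have hcardY₀ : Y₀.card ≡ Nat.card (RQ S X) [MOD p] := by
    have h1 := hS.card_modEq_card_fixedPoints (RQ S X)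
    have h2 : Nat.card (MulAction.fixedPoints S (RQ S X)) = Y₀.card := by
      rw [Nat.card_eq_fintype_card, Fintype.card_subtype]
      congr 1
    rw [h2] at h1
    exact h1.symm
  have hprod0 : ∏ y ∈ Y₀, f ⟨x, hxS⟩ y ≠ 1 := by
    rw [Finset.prod_congr rfl hY₀f, Finset.prod_const]
    intro h1
    have h2 : orderOf (L x) = p := by
      apply orderOf_eq_prime _ hLx
      apply Multiplicative.toAdd.injective
      rw [toAdd_pow]
      change p • (Multiplicative.toAdd (L x)) = 0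
      rw [nsmul_eq_mul, CharP.cast_eq_zero, zero_mul]
    have h3 : p ∣ Y₀.card := by rw [← h2]; exact orderOf_dvd_of_pow_eq_one h1
    have h4 : p ∣ Nat.card (RQ S X) := (hcardY₀.dvd_iff dvd_rfl).mp h3
    exact ((Nat.Prime.coprime_iff_not_dvd Fact.out).mp hcard.symm) h4
  have hprod1 : ∏ y ∈ Finset.univ.filter (fun y : RQ S X => y ∉ Y₀), f ⟨x, hxS⟩ y ≠ 1 := by
    intro h1
    apply hprod0
    have h2 := Finset.prod_filter_mul_prod_filter_not Finset.univ (fun y : RQ S X => y ∈ Y₀) (fun y => f ⟨x, hxS⟩ y)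
    rw [h1, mul_one, htot] at h2
    rw [← h2]
    refine Finset.prod_congr ?_ fun _ _ => rfl
    ext y; simp
  -- choose an orbit
  have horb : ∃ y₀ : RQ S X, y₀ ∉ Y₀ ∧ ∏ y ∈ Finset.univ.filter (fun y : RQ S X => ∃ s : S, y = s • y₀), f ⟨x, hxS⟩ y ≠ 1 := by
    by_contra hno
    push Not at hno
    apply hprod1
    haveI : Fintype (MulAction.orbitRel.Quotient S (RQ S X)) := Fintype.ofFinite _
    rw [← Finset.prod_fiberwise _ (fun y => (Quotient.mk (MulAction.orbitRel S (RQ S X)) y : MulAction.orbitRel.Quotient S (RQ S X)))]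
    refine Finset.prod_eq_one fun ω _ => ?_
    by_cases hem : (((Finset.univ.filter (fun y : RQ S X => y ∉ Y₀)).filter fun y => (Quotient.mk (MulAction.orbitRel S (RQ S X)) y : MulAction.orbitRel.Quotient S (RQ S X)) = ω)).Nonempty
    · obtain ⟨y₀, hy₀⟩ := hem
      rw [Finset.mem_filter, Finset.mem_filter] at hy₀
      obtain ⟨⟨-, hy₀1⟩, hy₀2⟩ := hy₀
      rw [← hno y₀ hy₀1]
      refine Finset.prod_congr ?_ fun _ _ => rfl
      ext y
      constructor
      · intro h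
        obtain ⟨-, h⟩ := Finset.mem_filter.mp h
        rw [← hy₀2] at h
        obtain ⟨s, hs⟩ := Quotient.exact h
        exact Finset.mem_filter.mpr ⟨Finset.mem_univ _, s, hs.symm⟩
      · intro h
        obtain ⟨-, s, hs⟩ := Finset.mem_filter.mp h
        refine Finset.mem_filter.mpr ⟨Finset.mem_filter.mpr ⟨Finset.mem_univ _, fun hy => hy₀1 ?_⟩, ?_⟩
        · have h1 := (hY₀ y).mp hy
          have h2 : y₀ = y := by
            have h3 := h1 s⁻¹
            rw [hs, inv_smul_smul] at h3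
            rw [h3, hs]
          rw [h2]; exact hy
        · rw [← hy₀2]
          exact Quotient.sound ⟨s, hs.symm⟩
    · rw [Finset.not_nonempty_iff_eq_empty.mp hem, Finset.prod_empty]
  obtain ⟨y₀, hy₀, hne₀⟩ := horb
  obtain ⟨R, hRn, hidx, ν, s₀, hxR, hνne⟩ := exists_nu (p := p) hS f hf ⟨x, hxS⟩ hcyc y₀ (by
    by_contra h
    push Not at h
    exact hy₀ ((hY₀ _).mpr h)) _ (fun y => by simp) hne₀
  exact Wreath.exists_surj hS R hidx ν s₀ ⟨_, hxR⟩ hνne

end Cfsg.Agent.L0.Fus
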